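/-
G₂ in characteristic 3: the representations on the ideal spanned by the short root vectors and
on the quotient by it, and the semilinear relation between them (the exceptional endomorphism).
-/
import Cfsg.Agent.Lib.Twisted.Entries
import Cfsg.Agent.Lib.Chev.BN
import Cfsg.Agent.Lib.Chev.CheckG2
import Cfsg.Prelude.Def_LieTwisted

set_option autoImplicit false

namespace Cfsg.Agent.Twisted.Ree

open Cfsg.Lie Matrix Chev BNSetup

/-- The tabulated datum is good. -/
theorem good : Good chevG2 := Chev.G2.good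

/-- The facts about the tables. -/
theorem facts : Facts chevG2 WeylTab.tabsG2 WeylTab.simpsG2 := facts_chevG2

/-- The coordinate at a position. -/
def pos (k : ℕ) (hk : k < 14) : chevG2.Idx :=
  if h : k < 2 then Sum.inl ⟨k, h⟩ else Sum.inr ⟨k - 2, by show k - 2 < 12; omega⟩

theorem idxNat_pos (k : ℕ) (hk : k < 14) : idxNat (pos k hk) = k := by
  unfold pos
  split
  · rfl
  · show 2 + (k - 2) = k
    omega

/-- Positions spanning the ideal. -/
def colsI : List ℕ := [0, 4, 5, 6, 9, 10, 11]

/-- Positions spanning the quotient, in the corresponding order. -/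
def colsQ : List ℕ := [1, 2, 3, 7, 8, 12, 13]

theorem colsI_lt (i : Fin 7) : colsI.getD i.1 0 < 14 := by revert i; decide

theorem colsQ_lt (i : Fin 7) : colsQ.getD i.1 0 < 14 := by revert i; decide

/-- The coordinates of the ideal. -/
def iI (i : Fin 7) : chevG2.Idx := pos _ (colsI_lt i)

/-- The coordinates of the quotient. -/
def iQ (i : Fin 7) : chevG2.Idx := pos _ (colsQ_lt i)

/-- The short roots. -/
def isShort (r : ℕ) : Bool := [2, 3, 4, 7, 8, 9].contains r

/-- The symmetry of the diagram on the roots. -/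
def bar (r : ℕ) : ℕ := [2, 3, 0, 1, 5, 4, 7, 6, 10, 11, 8, 9].getD r r

variable {F : Type*} [Field F]

/-- The block on the ideal. -/
def phiI (g : Matrix chevG2.Idx chevG2.Idx F) : Matrix (Fin 7) (Fin 7) F := g.submatrix iI iI

/-- The block on the quotient. -/
def phiQ (g : Matrix chevG2.Idx chevG2.Idx F) : Matrix (Fin 7) (Fin 7) F := g.submatrix iQ iQ

/-- The ideal is preserved. -/
def Pres (g : Matrix chevG2.Idx chevG2.Idx F) : Prop := ∀ i j, g (iQ i) (iI j) = 0

/-- Seven coordinates of the ideal and seven of the quotient. -/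
def side : Fin 7 ⊕ Fin 7 → chevG2.Idx := Sum.elim iI iQ

theorem side_bijective : Function.Bijective side := by
  have hinj : Function.Injective side := by
    intro x y h
    have h' := congrArg idxNat h
    rcases x with i | i <;> rcases y with j | j <;>
      simp only [side, Sum.elim_inl, Sum.elim_inr, iI, iQ, idxNat_pos] at h' <;>
      revert h' <;> revert i j <;> decide
  exact (Fintype.bijective_iff_injective_and_card _).2 ⟨hinj, rfl⟩

theorem sum_split {β : Type*} [AddCommMonoid β] (f : chevG2.Idx → β) :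
    ∑ x, f x = ∑ i, f (iI i) + ∑ i, f (iQ i) := by
  rw [← side_bijective.sum_comp f, Fintype.sum_sum_type]
  rfl

theorem Pres.one : Pres (1 : Matrix chevG2.Idx chevG2.Idx F) := by
  intro i j
  refine Matrix.one_apply_ne fun h => ?_
  have := side_bijective.1 (show side (Sum.inr i) = side (Sum.inl j) from h)
  simp at this

theorem Pres.mul {g h : Matrix chevG2.Idx chevG2.Idx F} (hg : Pres g) (hh : Pres h) :
    Pres (g * h) := by
  intro i j
  rw [Matrix.mul_apply, sum_split]
  simp [hg _ _, hh _ _]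

theorem phiI_mul {g h : Matrix chevG2.Idx chevG2.Idx F} (hh : Pres h) :
    phiI (g * h) = phiI g * phiI h := by
  ext i j
  rw [phiI, Matrix.submatrix_apply, Matrix.mul_apply, sum_split, Matrix.mul_apply]
  simp [phiI, hh _ _]

theorem phiQ_mul {g h : Matrix chevG2.Idx chevG2.Idx F} (hg : Pres g) :
    phiQ (g * h) = phiQ g * phiQ h := by
  ext i j
  rw [phiQ, Matrix.submatrix_apply, Matrix.mul_apply, sum_split, Matrix.mul_apply]
  simp [phiQ, hg _ _]

theorem phiI_one : phiI (1 : Matrix chevG2.Idx chevG2.Idx F) = 1 :=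
  Matrix.submatrix_one _ fun _ _ h => Sum.inl.inj (side_bijective.1 (show side (Sum.inl _) = side (Sum.inl _) from h))

theorem phiQ_one : phiQ (1 : Matrix chevG2.Idx chevG2.Idx F) = 1 :=
  Matrix.submatrix_one _ fun _ _ h => Sum.inr.inj (side_bijective.1 (show side (Sum.inr _) = side (Sum.inr _) from h))

theorem x_entry (r : ℕ) (hr : r < 12) (t : F) (i j : ℕ) (hi : i < 14) (hj : j < 14) :
    chevG2.x F r t (pos i hi) (pos j hj) = evalT (pTerms chevG2 r i j) t := by
  rw [x_apply (D := chevG2) hr, idxNat_pos, idxNat_pos]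

/-- All degrees are below four. -/
theorem degree_check : ∀ r < 12, ∀ i < 14, ∀ j < 14, ∀ p ∈ pTerms chevG2 r i j, p.1 < 4 := by
  decide +kernel

theorem evalT_four (r : ℕ) (hr : r < 12) (t : F) (i j : ℕ) (hi : i < 14) (hj : j < 14) :
    evalT (pTerms chevG2 r i j) t =
      ∑ k ∈ Finset.range 4, (coeffT (pTerms chevG2 r i j) k : F) * t ^ k :=
  evalT_eq_sum _ t (degree_check r hr i hi j hj)

variable [CharP F 3]

theorem cast_eq_of_mod {a b : ℤ} (h : a % 3 = b % 3) : (a : F) = (b : F) := by
  rw [← sub_eq_zero, ← Int.cast_sub, CharP.intCast_eq_zero_iff F 3]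
  exact Int.ModEq.dvd (show b ≡ a [ZMOD 3] from h.symm)

theorem pres_check : ∀ r < 12, ∀ i < 7, ∀ j < 7, ∀ k < 4,
    coeffT (pTerms chevG2 r (colsQ.getD i 0) (colsI.getD j 0)) k % 3 = 0 := by decide +kernel

theorem pres_x (r : ℕ) (t : F) : Pres (chevG2.x F r t) := by
  by_cases hr : r < 12
  · intro i j
    rw [iQ, iI, x_entry r hr, evalT_four r hr t _ _ (colsQ_lt i) (colsI_lt j)]
    refine Finset.sum_eq_zero fun k hk => ?_
    rw [cast_eq_of_mod (F := F) (b := 0) (by simpa using pres_check r hr i.1 i.2 j.1 j.2 k (Finset.mem_range.1 hk))]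
    simp
  · rw [x_of_le' hr]; exact Pres.one
where
  x_of_le' {r : ℕ} {t : F} (h : ¬ r < 12) : chevG2.x F r t = 1 := dif_neg h

theorem pres_xe (r : ℕ) (t : F) :
    Pres ((xe good r t : GL chevG2.Idx F) : Matrix chevG2.Idx chevG2.Idx F) := pres_x r t

theorem group_induction {P : GL chevG2.Idx F → Prop} (h1 : P 1)
    (hmul : ∀ r t g, r < 12 → g ∈ chevG2.group F → P g → P (xe good r t * g))
    {g : GL chevG2.Idx F} (hg : g ∈ chevG2.group F) : P g := by
  induction hg using Subgroup.closure_induction_left with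
  | one => exact h1
  | mul_left x hx y hy ih =>
    obtain ⟨r, t, hx⟩ := hx
    obtain rfl : x = xe good r.1 t := eq_xe good (by rw [hx, ChevalleyDatum.x, dif_pos r.2])
    exact hmul r.1 t y r.2 hy ih
  | inv_mul_cancel x hx y hy ih =>
    obtain ⟨r, t, hx⟩ := hx
    obtain rfl : x = xe good r.1 t := eq_xe good (by rw [hx, ChevalleyDatum.x, dif_pos r.2])
    rw [xe_inv good r.2]
    exact hmul r.1 (-t) y r.2 hy ih

theorem pres_of_mem {g : GL chevG2.Idx F} (hg : g ∈ chevG2.group F) :
    Pres (g : Matrix chevG2.Idx chevG2.Idx F) :=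
  group_induction (P := fun g : GL chevG2.Idx F => Pres (g : Matrix chevG2.Idx chevG2.Idx F))
    Pres.one (fun r t _ _ _ ih => (pres_xe r t).mul ih) hg

/-- The exponent attached to a root. -/
def lam (m r : ℕ) : ℕ := if isShort r then 3 ^ (m + 1) else 3 ^ m

/-- The semilinear image of the block on the ideal. -/
def psi (m : ℕ) (g : Matrix chevG2.Idx chevG2.Idx F) : Matrix (Fin 7) (Fin 7) F :=
  (phiI g).map (iterateFrobenius F 3 (m + 1))

theorem psi_one (m : ℕ) : psi m (1 : Matrix chevG2.Idx chevG2.Idx F) = 1 := by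
  rw [psi, phiI_one, Matrix.map_one _ (map_zero _) (map_one _)]

theorem psi_mul (m : ℕ) {g h : Matrix chevG2.Idx chevG2.Idx F} (hh : Pres h) :
    psi m (g * h) = psi m g * psi m h := by
  rw [psi, phiI_mul hh, Matrix.map_mul]
  rfl

set_option synthInstance.maxSize 2000 in
theorem psi_check : ∀ r < 12, ∀ i < 7, ∀ j < 7, ∀ k < 4,
    (isShort r = true →
      coeffT (pTerms chevG2 (bar r) (colsQ.getD i 0) (colsQ.getD j 0)) k % 3 =
        coeffT (pTerms chevG2 r (colsI.getD i 0) (colsI.getD j 0)) k % 3) ∧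
    (isShort r = false →
      coeffT (pTerms chevG2 (bar r) (colsQ.getD i 0) (colsQ.getD j 0)) k % 3 =
        (if k = 0 then coeffT (pTerms chevG2 r (colsI.getD i 0) (colsI.getD j 0)) 0 % 3
         else if k = 3 then coeffT (pTerms chevG2 r (colsI.getD i 0) (colsI.getD j 0)) 1 % 3
         else 0) ∧
      (2 ≤ k → coeffT (pTerms chevG2 r (colsI.getD i 0) (colsI.getD j 0)) k % 3 = 0)) := by
  decide +kernel

theorem bar_lt : ∀ r < 12, bar r < 12 := by decide

/-- The images of the root elements. -/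
theorem phiQ_x_bar (m : ℕ) {r : ℕ} (hr : r < 12) (t : F) :
    phiQ (chevG2.x F (bar r) (t ^ lam m r)) = psi m (chevG2.x F r t) := by
  ext i j
  rw [phiQ, Matrix.submatrix_apply, psi, Matrix.map_apply, phiI, Matrix.submatrix_apply, iQ, iQ,
    iI, iI, x_entry _ (bar_lt r hr), x_entry _ hr,
    evalT_four _ (bar_lt r hr) _ _ _ (colsQ_lt i) (colsQ_lt j),
    evalT_four _ hr _ _ _ (colsI_lt i) (colsI_lt j), map_sum]
  have hc := psi_check r hr i.1 i.2 j.1 j.2
  simp only [map_mul, map_intCast, map_pow, iterateFrobenius_def]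
  by_cases hs : isShort r = true
  · refine Finset.sum_congr rfl fun k hk => ?_
    rw [lam, if_pos hs, cast_eq_of_mod (F := F) ((hc k (Finset.mem_range.1 hk)).1 hs)]
  · have hQ := fun k hk => (hc k hk).2 (Bool.eq_false_iff.2 hs)
    generalize coeffT (pTerms chevG2 (bar r) (colsQ.getD i.1 0) (colsQ.getD j.1 0)) = cQ at hQ ⊢
    generalize coeffT (pTerms chevG2 r (colsI.getD i.1 0) (colsI.getD j.1 0)) = cI at hQ ⊢
    rw [lam, if_neg hs]
    simp only [Finset.sum_range_succ, Finset.sum_range_zero, zero_add]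
    rw [cast_eq_of_mod (F := F) (a := cQ 0) (b := cI 0) (by simpa using (hQ 0 (by norm_num)).1),
      cast_eq_of_mod (F := F) (a := cQ 1) (b := 0) (by simpa using (hQ 1 (by norm_num)).1),
      cast_eq_of_mod (F := F) (a := cQ 2) (b := 0) (by simpa using (hQ 2 (by norm_num)).1),
      cast_eq_of_mod (F := F) (a := cQ 3) (b := cI 1) (by simpa using (hQ 3 (by norm_num)).1),
      cast_eq_of_mod (F := F) (a := cI 2) (b := 0) (by simpa using (hQ 2 (by norm_num)).2 le_rfl),
      cast_eq_of_mod (F := F) (a := cI 3) (b := 0)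
        (by simpa using (hQ 3 (by norm_num)).2 (by norm_num))]
    simp only [Int.cast_zero, zero_mul, add_zero, pow_zero, pow_one]
    rw [← pow_mul, pow_succ]

end Cfsg.Agent.Twisted.Ree
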