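/-
G₂ in characteristic 3: the element n₀ of the monomial subgroup representing the longest Weyl
element and fixed by the exceptional endomorphism, as an explicit signed permutation matrix.
-/
import Cfsg.Agent.Lib.Twisted.Ree.Ideal
import Cfsg.Agent.Lib.Twisted.Monomial

set_option autoImplicit false

namespace Cfsg.Agent.Twisted.Ree

open Cfsg.Lie Matrix Chev BNSetup

variable {F : Type*} [Field F]

/-- The root-subgroup setup. -/
abbrev dat (F : Type*) [Field F] := data good F

theorem ax : (dat F).Axioms := BNSetup.axioms good facts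

/-- The mirror of a coordinate. -/
def mir : chevG2.Idx → chevG2.Idx
  | Sum.inl i => Sum.inl i
  | Sum.inr s => Sum.inr (Fin.rev s)

theorem mir_mir (a : chevG2.Idx) : mir (mir a) = a := by
  rcases a with i | s
  · rfl
  · exact congrArg Sum.inr (Fin.rev_rev s)

theorem mir_level : ∀ a : chevG2.Idx, rootLevel chevG2 (mir a) + rootLevel chevG2 a = 12 := by
  decide +kernel

/-- The word for n₀. -/
def n0Word : List (ℕ × ℤ) := [(8, 1), (10, 1), (3, -1), (1, -1), (8, 1), (10, 1)]

theorem n0_check : ∀ a b : chevG2.Idx,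
    (applyW chevG2 n0Word (unitZ chevG2 (idxNat b))).getD (idxNat a) 0 =
      if idxNat a = idxNat (mir b) then -1 else 0 := by decide +kernel

/-- n₀. -/
def n0 (F : Type*) [Field F] : GL chevG2.Idx F :=
  xe good 8 1 * xe good 10 1 * xe good 3 (-1) * xe good 1 (-1) * xe good 8 1 * xe good 10 1

theorem coe_n0_word :
    ((n0 F : GL chevG2.Idx F) : Matrix chevG2.Idx chevG2.Idx F) =
      chevG2.wordMat F (n0Word.map fun p => (p.1, (p.2 : F))) := by
  simp [n0, n0Word, ChevalleyDatum.wordMat, coe_xe, mul_assoc]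

theorem n0_apply (a b : chevG2.Idx) :
    ((n0 F : GL chevG2.Idx F) : Matrix chevG2.Idx chevG2.Idx F) a b = if a = mir b then -1 else 0 := by
  rw [coe_n0_word, wordMat_apply (D := chevG2) n0Word (by decide), n0_check]
  simp only [idxNat_injective.eq_iff]
  split_ifs <;> simp

theorem n0_mul_apply (g : Matrix chevG2.Idx chevG2.Idx F) (a b : chevG2.Idx) :
    (((n0 F : GL chevG2.Idx F) : Matrix chevG2.Idx chevG2.Idx F) * g) a b = - g (mir a) b := by
  rw [Matrix.mul_apply, Finset.sum_eq_single (mir a)]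
  · rw [n0_apply, mir_mir, if_pos rfl, neg_one_mul]
  · intro c _ hc
    rw [n0_apply, if_neg, zero_mul]
    rintro rfl
    exact hc (mir_mir c).symm
  · intro h; exact absurd (Finset.mem_univ _) h

theorem mul_n0_apply (g : Matrix chevG2.Idx chevG2.Idx F) (a b : chevG2.Idx) :
    (g * ((n0 F : GL chevG2.Idx F) : Matrix chevG2.Idx chevG2.Idx F)) a b = - g a (mir b) := by
  rw [Matrix.mul_apply, Finset.sum_eq_single (mir b)]
  · rw [n0_apply, if_pos rfl, mul_neg_one]
  · intro c _ hc
    rw [n0_apply, if_neg hc, mul_zero]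
  · intro h; exact absurd (Finset.mem_univ _) h

theorem n0_mul_n0 : n0 F * n0 F = 1 := by
  apply Units.ext
  ext a b
  rw [Units.val_mul, n0_mul_apply, n0_apply, Units.val_one, Matrix.one_apply]
  have h : mir a = mir b ↔ a = b := ⟨fun h => by rw [← mir_mir a, h, mir_mir], fun h => by rw [h]⟩
  simp only [h]
  split_ifs <;> simp

theorem n0_inv : (n0 F)⁻¹ = n0 F := inv_eq_of_mul_eq_one_right n0_mul_n0

theorem n0_conj_apply (g : GL chevG2.Idx F) (a b : chevG2.Idx) :
    ((n0 F * g * (n0 F)⁻¹ : GL chevG2.Idx F) : Matrix chevG2.Idx chevG2.Idx F) a b =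
      (g : Matrix chevG2.Idx chevG2.Idx F) (mir a) (mir b) := by
  rw [n0_inv, Units.val_mul, mul_n0_apply, Units.val_mul, n0_mul_apply, neg_neg]

theorem n0_mem_group : n0 F ∈ chevG2.group F := by
  have h : ∀ r < 12, ∀ t : F, xe good r t ∈ chevG2.group F := fun r hr t => xe_mem_group good hr t
  simp only [n0]
  refine Subgroup.mul_mem _ (Subgroup.mul_mem _ (Subgroup.mul_mem _ (Subgroup.mul_mem _
    (Subgroup.mul_mem _ ?_ ?_) ?_) ?_) ?_) ?_ <;> exact h _ (by norm_num) _

theorem ne'_check : ∀ a b : chevG2.Idx,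
    (applyW chevG2 n0Word (unitZ chevG2 (idxNat b))).getD (idxNat a) 0 =
      (applyW chevG2 [(8, 1), (3, -1), (8, 1), (10, 1), (1, -1), (10, 1)]
        (unitZ chevG2 (idxNat b))).getD (idxNat a) 0 := by decide +kernel

theorem n0_eq_ne' : n0 F = ne' good 8 1 * ne' good 10 1 := by
  apply Units.ext
  ext a b
  rw [coe_n0_word, wordMat_apply (D := chevG2) n0Word (by decide), Units.val_mul, coe_ne', coe_ne']
  have h : chevG2.nMat F 8 1 * chevG2.nMat F 10 1 =
      chevG2.wordMat F (([(8, 1), (3, -1), (8, 1), (10, 1), (1, -1), (10, 1)] : List (ℕ × ℤ)).map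
        fun p => (p.1, (p.2 : F))) := by
    simp [ChevalleyDatum.nMat, ChevalleyDatum.nWord, ChevalleyDatum.wordMat, mul_assoc,
      show chevG2.neg 8 = 3 from rfl, show chevG2.neg 10 = 1 from rfl]
  rw [h, wordMat_apply (D := chevG2) _ (by decide)]
  exact congrArg (fun z : ℤ => (z : F)) (ne'_check a b)

theorem n0_mem_N : n0 F ∈ (dat F).N := by
  rw [n0_eq_ne']
  exact Subgroup.mul_mem _ (ne'_one_mem_N good (r := 8) (by decide))
    (ne'_one_mem_N good (r := 10) (by decide))

theorem n0_mem_monomial : n0 F ∈ chevG2.monomialSubgroup F := data_N (F := F) good ▸ n0_mem_N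

/-- The longest Weyl element on the roots. -/
def w0 : Equiv.Perm (Fin chevG2.nroots) := Fin.revPerm

theorem mir_x_check : ∀ r < 12, ∀ a b : chevG2.Idx, ∀ k < 4,
    coeffT (pTerms chevG2 r (idxNat (mir a)) (idxNat (mir b))) k =
      (-1) ^ k * coeffT (pTerms chevG2 (11 - r) (idxNat a) (idxNat b)) k := by decide +kernel

theorem degree_lt (r : ℕ) (hr : r < 12) (a b : chevG2.Idx) :
    ∀ p ∈ pTerms chevG2 r (idxNat a) (idxNat b), p.1 < 4 :=
  degree_check r hr _ (idxNat_lt (D := chevG2) a) _ (idxNat_lt (D := chevG2) b)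

theorem n0_conj_xe {r : ℕ} (hr : r < 12) (t : F) :
    n0 F * xe good r t * (n0 F)⁻¹ = xe good (11 - r) (-t) := by
  have hr' : 11 - r < 12 := by omega
  apply Units.ext
  ext a b
  rw [n0_conj_apply, coe_xe, coe_xe, x_apply (D := chevG2) hr, x_apply (D := chevG2) hr',
    evalT_eq_sum _ _ (degree_lt r hr _ _), evalT_eq_sum _ _ (degree_lt _ hr' _ _)]
  refine Finset.sum_congr rfl fun k hk => ?_
  rw [mir_x_check r hr a b k (Finset.mem_range.1 hk), Int.cast_mul, Int.cast_pow, Int.cast_neg,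
    Int.cast_one, neg_pow t]
  ring

theorem acts_n0 : (dat F).Acts (n0 F) w0 := by
  have key : ∀ (r : Fin chevG2.nroots) (y : GL chevG2.Idx F), y ∈ (dat F).X r →
      n0 F * y * (n0 F)⁻¹ ∈ (dat F).X (w0 r) := by
    intro r y hy
    have hr : r.val < 12 := r.2
    obtain ⟨t, rfl⟩ := (mem_rootSubgroup good hr).1 hy
    refine (mem_rootSubgroup good (w0 r).2).2 ⟨-t, ?_⟩
    rw [n0_conj_xe hr]
    congr 1
    simp only [w0, Fin.revPerm_apply, Fin.val_rev]
    show _ = 12 - _
    omega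
  intro r y
  refine ⟨fun h => ?_, key r y⟩
  have h1 := key _ _ h
  rw [show w0 (w0 r) = r from Fin.rev_rev r, n0_inv, ← mul_assoc, ← mul_assoc, n0_mul_n0, one_mul,
    mul_assoc, n0_mul_n0, mul_one] at h1
  exact h1

theorem tri_B {g : GL chevG2.Idx F} (hg : g ∈ chevG2.borelSubgroup F) :
    Tri F chevG2 (g : Matrix chevG2.Idx chevG2.Idx F) := by
  obtain ⟨u, hu, h, hh, rfl⟩ := borel_decomp good facts hg
  obtain ⟨χ, hχ⟩ := tri_H facts good hh
  rw [Units.val_mul, hχ]
  exact (tri_U facts hu).mul (tri_hdiag facts χ)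

theorem n0_conj_H {h : GL chevG2.Idx F} (hh : h ∈ chevG2.diagonalSubgroup F) :
    n0 F * h * (n0 F)⁻¹ ∈ chevG2.diagonalSubgroup F :=
  RootBN.Data.N_conj_H (D := dat F) ax n0_mem_N hh

/-- U meets n₀ B n₀⁻¹ trivially. -/
theorem eq_one_of_conj_mem {u : GL chevG2.Idx F} (hu : u ∈ chevG2.posUnipotent F)
    (h : n0 F * u * (n0 F)⁻¹ ∈ chevG2.borelSubgroup F) : u = 1 := by
  apply Units.ext
  ext a b
  by_cases hlt : rootLevel chevG2 a < rootLevel chevG2 b + 1
  · have := raises_unitri facts hu a b hlt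
    rwa [Matrix.sub_apply, sub_eq_zero] at this
  · have h1 := mir_level a
    have h2 := mir_level b
    have := tri_B h (mir a) (mir b) (by omega)
    rw [n0_conj_apply, mir_mir, mir_mir] at this
    rw [this, Units.val_one, Matrix.one_apply_ne]
    rintro rfl
    omega

/-- B meets its conjugate under n₀ in H. -/
theorem mem_H_of_conj_mem {g : GL chevG2.Idx F} (hg : g ∈ chevG2.borelSubgroup F)
    (h : n0 F * g * (n0 F)⁻¹ ∈ chevG2.borelSubgroup F) : g ∈ chevG2.diagonalSubgroup F := by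
  obtain ⟨u, hu, k, hk, rfl⟩ := borel_decomp good facts hg
  have h' : n0 F * u * (n0 F)⁻¹ ∈ chevG2.borelSubgroup F := by
    have := Subgroup.mul_mem _ h
      (Subgroup.inv_mem _ (Subgroup.mem_sup_right (S := chevG2.posUnipotent F) (n0_conj_H hk)))
    rwa [show n0 F * (u * k) * (n0 F)⁻¹ * (n0 F * k * (n0 F)⁻¹)⁻¹ = n0 F * u * (n0 F)⁻¹ by group]
      at this
  rw [eq_one_of_conj_mem hu h', one_mul]
  exact hk

end Cfsg.Agent.Twisted.Ree
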