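/-
The exceptional endomorphism σ of the Chevalley group G₂(F) in characteristic 3: the action on the
quotient by the ideal of short root vectors is faithful, and the semilinear action on the ideal
lifts through it.
-/
import Cfsg.Agent.Lib.Twisted.Ree.Weyl

set_option autoImplicit false

namespace Cfsg.Agent.Twisted.Ree

open Cfsg.Lie Matrix Chev BNSetup

variable {F : Type*} [Field F] [CharP F 3]

/-- The level of a coordinate of the quotient. -/
def levQ (i : Fin 7) : ℕ := rootLevel chevG2 (iQ i)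

/-- The action on the quotient, as a homomorphism. -/
def qHom : ↥(chevG2.group F) →* Matrix (Fin 7) (Fin 7) F where
  toFun g := phiQ ((g : GL chevG2.Idx F) : Matrix chevG2.Idx chevG2.Idx F)
  map_one' := phiQ_one
  map_mul' g _ := phiQ_mul (pres_of_mem g.2)

/-- The semilinear action on the ideal, as a homomorphism. -/
def iHom (m : ℕ) : ↥(chevG2.group F) →* Matrix (Fin 7) (Fin 7) F where
  toFun g := psi m ((g : GL chevG2.Idx F) : Matrix chevG2.Idx chevG2.Idx F)
  map_one' := psi_one m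
  map_mul' _ h := psi_mul m (pres_of_mem h.2)

theorem qHom_tri {g : ↥(chevG2.group F)} (hg : (g : GL chevG2.Idx F) ∈ chevG2.borelSubgroup F) :
    Raises levQ 0 (qHom g) := fun i j h => tri_B hg (iQ i) (iQ j) h

theorem neg_check : ∀ q < 6, ∃ i : Fin 7, ∃ j : Fin 7, levQ i < levQ j ∧ ∃ k < 4,
    coeffT (pTerms chevG2 q (colsQ.getD i.1 0) (colsQ.getD j.1 0)) k % 3 ≠ 0 ∧ ∀ l < 4, l ≠ k →
      coeffT (pTerms chevG2 q (colsQ.getD i.1 0) (colsQ.getD j.1 0)) l % 3 = 0 := by
  decide +kernel

/-- A negative root element stays non-triangular on the quotient. -/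
theorem eq_zero_of_tri {q : ℕ} (hq : q < 6) {s : F}
    (h : Raises levQ 0 (phiQ (chevG2.x F q s))) : s = 0 := by
  obtain ⟨i, j, hlt, k, hk, hne, ho⟩ := neg_check q hq
  have e := h i j hlt
  rw [phiQ, Matrix.submatrix_apply, iQ, iQ, x_entry q (by omega),
    evalT_four q (by omega) _ _ _ (colsQ_lt i) (colsQ_lt j),
    Finset.sum_eq_single k] at e
  · rcases mul_eq_zero.1 e with e | e
    · rw [CharP.intCast_eq_zero_iff F 3] at e
      exact absurd (Int.emod_eq_zero_of_dvd e) hne
    · exact eq_zero_of_pow_eq_zero e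
  · intro l hl hlk
    rw [cast_eq_of_mod (F := F) (b := 0) (by simpa using ho l (Finset.mem_range.1 hl) hlk)]
    simp
  · intro h; exact absurd (Finset.mem_range.2 hk) h

omit [CharP F 3] in
theorem borel_le_group : chevG2.borelSubgroup F ≤ chevG2.group F := by
  rw [← data_B good facts, ← data_grp good]
  exact RootBN.Data.B_le_grp (D := dat F) ax

theorem mem_borel_of_qHom {g : ↥(chevG2.group F)} (hg : qHom g = 1) :
    (g : GL chevG2.Idx F) ∈ chevG2.borelSubgroup F := by
  have hgd : (g : GL chevG2.Idx F) ∈ (dat F).grp := (data_grp (F := F) good).symm ▸ g.2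
  obtain ⟨l, hl⟩ := RootBN.Data.exists_cell (D := dat F) ax hgd
  obtain ⟨n, hn, hσ, b, hb, c, hc, e⟩ := hl
  rw [data_B good facts] at hb hc
  let b' : ↥(chevG2.group F) := ⟨b, borel_le_group hb⟩
  let c' : ↥(chevG2.group F) := ⟨c, borel_le_group hc⟩
  have hgn : ((b'⁻¹ * g * c'⁻¹ : ↥(chevG2.group F)) : GL chevG2.Idx F) = n := by
    simp [b', c', e, mul_assoc]
  have hq : qHom (b'⁻¹ * g * c'⁻¹) = qHom (b'⁻¹ * c'⁻¹) := by
    rw [map_mul, map_mul, hg, mul_one, ← map_mul]
  have hgi : qHom g⁻¹ = 1 := by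
    have := congrArg qHom (inv_mul_cancel g)
    rwa [map_mul, hg, mul_one, map_one] at this
  have hq' : qHom (b'⁻¹ * g * c'⁻¹)⁻¹ = qHom (c' * b') := by
    rw [_root_.mul_inv_rev, _root_.mul_inv_rev, inv_inv, inv_inv, map_mul, map_mul, hgi, one_mul, ← map_mul]
  refine data_B (F := F) good facts ▸ ?_
  rw [e]
  refine Subgroup.mul_mem _ (Subgroup.mul_mem _ ?_ ?_) ?_
  · rwa [data_B good facts]
  swap
  · rwa [data_B good facts]
  refine RootBN.Data.H_le_B (RootBN.Data.mem_H_of_pos_preserving (D := dat F) ax hn hσ ?_)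
  intro r hr
  by_contra hneg
  obtain ⟨s, hs⟩ := (mem_rootSubgroup good ((dat F).wl l r).2).1
    ((hσ r _).2 ((mem_rootSubgroup good r.2).2 ⟨1, rfl⟩) :
      n * xe good r.1 1 * n⁻¹ ∈ chevG2.rootSubgroup F ((dat F).wl l r).1)
  have hq0 : ((dat F).wl l r).1 < 6 := by
    have h1 : ¬ (chevG2.nroots / 2 ≤ ((dat F).wl l r).1) := hneg
    change ¬ (6 ≤ _) at h1
    omega
  have hx : xe good r.1 (1 : F) ∈ chevG2.borelSubgroup F :=
    Subgroup.mem_sup_left (Subgroup.subset_closure ⟨r.1, 1, (pos_iff facts r.2).2 hr, rfl⟩)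
  let x' : ↥(chevG2.group F) := ⟨xe good r.1 1, xe_mem_group good r.2 1⟩
  have hs' : (((b'⁻¹ * g * c'⁻¹) * x' * (b'⁻¹ * g * c'⁻¹)⁻¹ : ↥(chevG2.group F)) :
      GL chevG2.Idx F) = xe good ((dat F).wl l r).1 s := by
    rw [← hs, Subgroup.coe_mul, Subgroup.coe_mul, Subgroup.coe_inv, hgn]
  have htri : Raises levQ 0 (qHom ((b'⁻¹ * g * c'⁻¹) * x' * (b'⁻¹ * g * c'⁻¹)⁻¹)) := by
    rw [map_mul, map_mul, hq, hq', ← map_mul, ← map_mul]
    refine qHom_tri ?_
    simp only [Subgroup.coe_mul, Subgroup.coe_inv, b', c', x']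
    exact Subgroup.mul_mem _ (Subgroup.mul_mem _ (Subgroup.mul_mem _ (Subgroup.inv_mem _ hb)
      (Subgroup.inv_mem _ hc)) hx) (Subgroup.mul_mem _ hc hb)
  have hz : s = 0 := by
    refine eq_zero_of_tri hq0 ?_
    have he := congrArg (fun z : GL chevG2.Idx F => phiQ (z : Matrix chevG2.Idx chevG2.Idx F)) hs'
    simp only [coe_xe] at he
    rw [← he]
    exact htri
  rw [hz, xe_zero good ((dat F).wl l r).2, conj_eq_one_iff] at hs
  exact xe_ne_one good facts r.2 one_ne_zero hs

theorem qHom_injective : Function.Injective (qHom (F := F)) := by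
  have key : ∀ g : ↥(chevG2.group F), qHom g = 1 → g = 1 := by
    intro g hg
    have conj : ∀ z : ↥(chevG2.group F), qHom (z * g * z⁻¹) = 1 := fun z => by
      rw [map_mul, map_mul, hg, mul_one, ← map_mul, mul_inv_cancel, map_one]
    have mem_H : ∀ z : ↥(chevG2.group F), qHom z = 1 → (z : GL chevG2.Idx F) ∈ chevG2.diagonalSubgroup F := by
      intro z hz
      refine mem_H_of_conj_mem (mem_borel_of_qHom hz) ?_
      exact mem_borel_of_qHom (g := ⟨n0 F, n0_mem_group⟩ * z * (⟨n0 F, n0_mem_group⟩)⁻¹) (by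
        rw [map_mul, map_mul, hz, mul_one, ← map_mul, mul_inv_cancel, map_one])
    have hgH := mem_H g hg
    obtain ⟨χ, hχ⟩ := tri_H facts good hgH
    have hc : ∀ r < 12, χ (chevG2.neg r) = 1 := by
      intro r hr
      let x' : ↥(chevG2.group F) := ⟨xe good r 1, xe_mem_group good hr 1⟩
      have h1 : qHom (g * x' * g⁻¹ * x'⁻¹) = 1 := by
        have hi : qHom g⁻¹ = 1 := by
          have := congrArg qHom (inv_mul_cancel g)
          rwa [map_mul, hg, mul_one, map_one] at this
        rw [map_mul, map_mul, map_mul, hg, hi, one_mul, mul_one, ← map_mul, mul_inv_cancel, map_one]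
      have h2 := mem_H _ h1
      simp only [Subgroup.coe_mul, Subgroup.coe_inv, x'] at h2
      rw [hdiag_conj_xe good facts hgH hχ hr, xe_inv good hr, xe_add good hr] at h2
      have h0 : (χ (chevG2.neg r))⁻¹ * 1 + -1 = (0 : F) := by
        by_cases hp : 6 ≤ r
        · by_contra h0
          refine xe_ne_one good facts hr h0 ?_
          have : xe good r _ ∈ chevG2.posUnipotent F ⊓ chevG2.diagonalSubgroup F :=
            ⟨Subgroup.subset_closure ⟨r, _, (pos_iff facts hr).2 hp, rfl⟩, h2⟩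
          rwa [U_inf_H facts good, Subgroup.mem_bot] at this
        · exact neg_inf_borel good facts hr (show r < 6 by omega) (Subgroup.mem_sup_right h2)
      rwa [mul_one, ← sub_eq_add_neg, sub_eq_zero, inv_eq_one] at h0
    apply Subtype.ext
    apply Units.ext
    rw [hχ, Subgroup.coe_one, Units.val_one, ← hdiag_one]
    refine hdiag_congr chevG2 fun s hs => ?_
    have := hc (chevG2.neg s) (good.neg_lt hs)
    rwa [good.neg_neg hs] at this
  intro a b h
  have : qHom (a * b⁻¹) = 1 := by rw [map_mul, h, ← map_mul, mul_inv_cancel, map_one]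
  exact mul_inv_eq_one.1 (key _ this)

theorem bar_bar : ∀ r < 12, bar (bar r) = r := by decide

/-- The preimage exists. -/
theorem exists_endo (m : ℕ) (g : ↥(chevG2.group F)) : ∃ h : ↥(chevG2.group F), qHom h = iHom m g := by
  obtain ⟨g, hg⟩ := g
  refine group_induction (P := fun g : GL chevG2.Idx F => ∀ hg : g ∈ chevG2.group F,
    ∃ h : ↥(chevG2.group F), qHom h = iHom m ⟨g, hg⟩) ?_ ?_ hg hg
  · intro _; exact ⟨1, by rw [map_one]; exact (map_one (iHom m)).symm⟩
  · intro r t g hr hg ih _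
    obtain ⟨h, hh⟩ := ih hg
    refine ⟨⟨xe good (bar r) (t ^ lam m r), xe_mem_group good (bar_lt r hr) _⟩ * h, ?_⟩
    rw [map_mul, hh, show (⟨xe good r t * g, _⟩ : ↥(chevG2.group F)) =
      ⟨xe good r t, xe_mem_group good hr t⟩ * ⟨g, hg⟩ from rfl, map_mul]
    congr 1
    exact phiQ_x_bar m hr t

/-- The exceptional endomorphism. -/
noncomputable def endo (m : ℕ) : ↥(chevG2.group F) →* ↥(chevG2.group F) where
  toFun g := (exists_endo m g).choose
  map_one' := qHom_injective ((exists_endo m 1).choose_spec.trans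
    ((map_one (iHom m)).trans (map_one qHom).symm))
  map_mul' a b := qHom_injective ((exists_endo m (a * b)).choose_spec.trans
    ((map_mul (iHom m) a b).trans ((congrArg₂ (· * ·) (exists_endo m a).choose_spec.symm
      (exists_endo m b).choose_spec.symm).trans (map_mul qHom _ _).symm)))

theorem qHom_endo (m : ℕ) (g : ↥(chevG2.group F)) : qHom (endo m g) = iHom m g :=
  (exists_endo m g).choose_spec

/-- The root element in the Chevalley group. -/
def xg' (r : ℕ) (hr : r < 12) (t : F) : ↥(chevG2.group F) := ⟨xe good r t, xe_mem_group good hr t⟩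

theorem endo_xe (m : ℕ) {r : ℕ} (hr : r < 12) (t : F) :
    endo m (xg' r hr t) = xg' (bar r) (bar_lt r hr) (t ^ lam m r) :=
  qHom_injective (by rw [qHom_endo]; exact (phiQ_x_bar m hr t).symm)

end Cfsg.Agent.Twisted.Ree
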