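/-
The exceptional endomorphism of G₂ squares to the Frobenius endomorphism, so it is bijective over a
perfect field.
-/
import Cfsg.Agent.Lib.Twisted.Ree.Endo

set_option autoImplicit false

namespace Cfsg.Agent.Twisted.Ree

open Cfsg.Lie Matrix Chev BNSetup

variable {F : Type*} [Field F] [CharP F 3]

/-- The Frobenius endomorphism of the general linear group. -/
def frob (F : Type*) [Field F] [CharP F 3] : GL chevG2.Idx F →* GL chevG2.Idx F :=
  Units.map ((iterateFrobenius F 3 1).mapMatrix).toMonoidHom

theorem frob_xe {r : ℕ} (hr : r < 12) (t : F) : frob F (xe good r t) = xe good r (t ^ 3) := by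
  apply Units.ext
  ext a b
  show iterateFrobenius F 3 1 (chevG2.x F r t a b) = chevG2.x F r (t ^ 3) a b
  have h : t ^ 3 = iterateFrobenius F 3 1 t := by rw [iterateFrobenius_def, pow_one]
  rw [x_apply (D := chevG2) hr, x_apply (D := chevG2) hr, h]
  generalize pTerms chevG2 r (idxNat a) (idxNat b) = L
  induction L with
  | nil => simp [evalT]
  | cons p L ih =>
    simp only [evalT, List.map_cons, List.sum_cons, map_add, map_mul, map_intCast, map_pow] at ih ⊢
    rw [ih]

theorem frob_injective : Function.Injective (frob F) := fun _ _ h => by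
  apply Units.ext
  exact Matrix.map_injective (iterateFrobenius F 3 1).injective (congrArg Units.val h)

theorem endo_endo (g : ↥(chevG2.group F)) :
    ((endo 0 (endo 0 g) : ↥(chevG2.group F)) : GL chevG2.Idx F) = frob F g := by
  obtain ⟨g, hg⟩ := g
  refine group_induction (P := fun g : GL chevG2.Idx F => ∀ hg : g ∈ chevG2.group F,
    ((endo 0 (endo 0 ⟨g, hg⟩) : ↥(chevG2.group F)) : GL chevG2.Idx F) = frob F g) ?_ ?_ hg hg
  · intro h
    rw [show (⟨1, h⟩ : ↥(chevG2.group F)) = 1 from rfl, map_one, map_one, map_one]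
    rfl
  · intro r t g hr hg ih h
    rw [show (⟨xe good r t * g, h⟩ : ↥(chevG2.group F)) = xg' r hr t * ⟨g, hg⟩ from rfl, map_mul,
      map_mul, Subgroup.coe_mul, ih hg, endo_xe, endo_xe, map_mul, frob_xe hr]
    congr 1
    show xe good (bar (bar r)) ((t ^ lam 0 r) ^ lam 0 (bar r)) = xe good r (t ^ 3)
    rw [bar_bar r hr, ← pow_mul, lam_check r hr]
where
  lam_check : ∀ r < 12, lam 0 r * lam 0 (bar r) = 3 := by decide

theorem endo_injective : Function.Injective (endo (F := F) 0) := fun a b h => by
  apply Subtype.ext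
  apply frob_injective
  rw [← endo_endo, ← endo_endo, h]

theorem endo_surjective (hperf : ∀ x : F, ∃ y : F, y ^ 3 = x) :
    Function.Surjective (endo (F := F) 0) := by
  intro g
  obtain ⟨g, hg⟩ := g
  refine group_induction (P := fun g : GL chevG2.Idx F => ∀ hg : g ∈ chevG2.group F,
    ∃ a, endo 0 a = ⟨g, hg⟩) ?_ ?_ hg hg
  · exact fun h => ⟨1, map_one _⟩
  · intro r t g hr hg ih h
    obtain ⟨a, ha⟩ := ih hg
    obtain ⟨y, hy⟩ : ∃ y : F, y ^ lam 0 (bar r) = t := by
      unfold lam
      split
      · simpa using hperf t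
      · exact ⟨t, by simp⟩
    refine ⟨xg' (bar r) (bar_lt r hr) y * a, ?_⟩
    rw [map_mul, endo_xe, ha]
    apply Subtype.ext
    show xe good (bar (bar r)) (y ^ lam 0 (bar r)) * g = xe good r t * g
    rw [bar_bar r hr, hy]

end Cfsg.Agent.Twisted.Ree
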