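/-
The images of the standard subgroups and elements under the exceptional endomorphism σ of G₂.
-/
import Cfsg.Agent.Lib.Twisted.Ree.Endo

set_option autoImplicit false

namespace Cfsg.Agent.Twisted.Ree

open Cfsg.Lie Matrix Chev BNSetup

variable {F : Type*} [Field F] [CharP F 3]

/-- `g'` is the image of `g` under σ. -/
def Maps (m : ℕ) (g g' : GL chevG2.Idx F) : Prop :=
  ∃ (h : g ∈ chevG2.group F), (endo m ⟨g, h⟩ : GL chevG2.Idx F) = g'

namespace Maps

variable {m : ℕ} {g g' h h' : GL chevG2.Idx F}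

theorem mem (hg : Maps m g g') : g ∈ chevG2.group F := hg.1

theorem unique (hg : Maps m g g') (hg' : Maps m g h') : g' = h' := hg.2.symm.trans hg'.2

theorem mul (hg : Maps m g g') (hh : Maps m h h') : Maps m (g * h) (g' * h') := by
  obtain ⟨a, rfl⟩ := hg
  obtain ⟨b, rfl⟩ := hh
  exact ⟨Subgroup.mul_mem _ a b, by rw [← Subgroup.coe_mul, ← map_mul]; rfl⟩

theorem inv (hg : Maps m g g') : Maps m g⁻¹ g'⁻¹ := by
  obtain ⟨a, rfl⟩ := hg
  exact ⟨Subgroup.inv_mem _ a, by rw [← Subgroup.coe_inv, ← map_inv]; rfl⟩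

theorem one : Maps m (1 : GL chevG2.Idx F) 1 :=
  ⟨Subgroup.one_mem _, by rw [show (⟨1, Subgroup.one_mem _⟩ : chevG2.group F) = 1 from rfl, map_one]; rfl⟩

theorem xe {r : ℕ} (hr : r < 12) (t : F) :
    Maps m (xe good r t) (xe good (bar r) (t ^ lam m r)) :=
  ⟨xe_mem_group good hr t, congrArg Subtype.val (endo_xe m hr t)⟩

theorem of_mem (hg : g ∈ chevG2.group F) : ∃ g', Maps m g g' := ⟨_, hg, rfl⟩

theorem mem' (hg : Maps m g g') : g' ∈ chevG2.group F := by
  obtain ⟨a, rfl⟩ := hg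
  exact Subtype.coe_prop _

end Maps

theorem neg_bar : ∀ r < 12, chevG2.neg (bar r) = bar (chevG2.neg r) := by decide

theorem isShort_neg : ∀ r < 12, isShort (chevG2.neg r) = isShort r := by decide

theorem lam_odd (m r : ℕ) : Odd (lam m r) := by
  unfold lam
  split <;> exact Odd.pow (by decide)

theorem lam_ne_zero (m r : ℕ) : lam m r ≠ 0 := fun h => by
  have := lam_odd m r
  rw [h] at this
  simp at this

theorem maps_ne' (m : ℕ) {r : ℕ} (hr : r < 12) (t : F) :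
    Maps m (ne' good r t) (ne' good (bar r) (t ^ lam m r)) := by
  have h := ((Maps.xe (m := m) hr t).mul (Maps.xe (m := m) (good.neg_lt hr) (-t⁻¹))).mul
    (Maps.xe (m := m) hr t)
  rw [← neg_bar r hr, show lam m (chevG2.neg r) = lam m r by rw [lam, lam, isShort_neg r hr],
    (lam_odd m r).neg_pow, inv_pow] at h
  exact h

theorem maps_he (m : ℕ) {r : ℕ} (hr : r < 12) (t : F) :
    Maps m (he good r t) (he good (bar r) (t ^ lam m r)) := by
  have h := (maps_ne' m hr t).mul (maps_ne' m hr (-1))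
  rwa [(lam_odd m r).neg_one_pow] at h

theorem maps_mem_H {m : ℕ} {g g' : GL chevG2.Idx F} (hg : g ∈ chevG2.diagonalSubgroup F)
    (h : Maps m g g') : g' ∈ chevG2.diagonalSubgroup F := by
  suffices key : ∃ k, Maps m g k ∧ k ∈ chevG2.diagonalSubgroup F by
    obtain ⟨k, hk, hkm⟩ := key
    rwa [h.unique hk]
  clear h
  induction hg using Subgroup.closure_induction_left with
  | one => exact ⟨1, Maps.one, Subgroup.one_mem _⟩
  | mul_left x hx y _ ih =>
    obtain ⟨r, t, hr, ht, hx⟩ := hx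
    obtain rfl : x = he good r t := Units.ext (hx.trans (coe_he good r t).symm)
    obtain ⟨k, hk, hkm⟩ := ih
    exact ⟨_, (maps_he m hr t).mul hk,
      Subgroup.mul_mem _ (he_mem_H good (bar_lt r hr) (pow_ne_zero _ ht)) hkm⟩
  | inv_mul_cancel x hx y _ ih =>
    obtain ⟨r, t, hr, ht, hx⟩ := hx
    obtain rfl : x = he good r t := Units.ext (hx.trans (coe_he good r t).symm)
    obtain ⟨k, hk, hkm⟩ := ih
    exact ⟨_, (maps_he m hr t).inv.mul hk, Subgroup.mul_mem _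
      (Subgroup.inv_mem _ (he_mem_H good (bar_lt r hr) (pow_ne_zero _ ht))) hkm⟩

theorem bar_pos : ∀ r < 12, 6 ≤ r → 6 ≤ bar r := by decide

theorem maps_mem_U {m : ℕ} {g g' : GL chevG2.Idx F} (hg : g ∈ chevG2.posUnipotent F)
    (h : Maps m g g') : g' ∈ chevG2.posUnipotent F := by
  suffices key : ∃ k, Maps m g k ∧ k ∈ chevG2.posUnipotent F by
    obtain ⟨k, hk, hkm⟩ := key
    rwa [h.unique hk]
  clear h
  have gen : ∀ r (t : F), chevG2.IsPosRoot r →
      xe good (bar r) (t ^ lam m r) ∈ chevG2.posUnipotent F := fun r t hr =>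
    Subgroup.subset_closure ⟨bar r, t ^ lam m r,
      (pos_iff facts (bar_lt r hr.1)).2 (bar_pos r hr.1 ((pos_iff facts hr.1).1 hr)), rfl⟩
  induction hg using Subgroup.closure_induction_left with
  | one => exact ⟨1, Maps.one, Subgroup.one_mem _⟩
  | mul_left x hx y _ ih =>
    obtain ⟨r, t, hr, hx⟩ := hx
    obtain rfl : x = xe good r t := Units.ext hx
    obtain ⟨k, hk, hkm⟩ := ih
    exact ⟨_, (Maps.xe hr.1 t).mul hk, Subgroup.mul_mem _ (gen r t hr) hkm⟩
  | inv_mul_cancel x hx y _ ih =>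
    obtain ⟨r, t, hr, hx⟩ := hx
    obtain rfl : x = xe good r t := Units.ext hx
    obtain ⟨k, hk, hkm⟩ := ih
    exact ⟨_, (Maps.xe hr.1 t).inv.mul hk,
      Subgroup.mul_mem _ (Subgroup.inv_mem _ (gen r t hr)) hkm⟩

theorem maps_mem_B {m : ℕ} {g g' : GL chevG2.Idx F} (hg : g ∈ chevG2.borelSubgroup F)
    (h : Maps m g g') : g' ∈ chevG2.borelSubgroup F := by
  obtain ⟨u, hu, k, hk, rfl⟩ := borel_decomp good facts hg
  obtain ⟨u', hu'⟩ := Maps.of_mem (m := m) (borel_le_group (Subgroup.mem_sup_left hu))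
  obtain ⟨k', hk'⟩ := Maps.of_mem (m := m) (borel_le_group (Subgroup.mem_sup_right hk))
  rw [h.unique (hu'.mul hk')]
  exact Subgroup.mul_mem _ (Subgroup.mem_sup_left (maps_mem_U hu hu'))
    (Subgroup.mem_sup_right (maps_mem_H hk hk'))

theorem maps_n0 (m : ℕ) : Maps m (n0 F) (n0 F) := by
  have h := (maps_ne' m (r := 8) (by norm_num) (1 : F)).mul (maps_ne' m (r := 10) (by norm_num) 1)
  rw [one_pow, one_pow, show bar 8 = 10 from rfl, show bar 10 = 8 from rfl, ← n0_eq_ne'] at h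
  have hc : ne' good 10 1 * ne' good 8 1 = n0 F := by
    rw [n0_eq_ne']
    apply Units.ext
    simp only [Units.val_mul, coe_ne']
    have h1 : chevG2.nMat F 10 1 * chevG2.nMat F 8 1 =
        chevG2.wordMat F (([(10, 1), (1, -1), (10, 1), (8, 1), (3, -1), (8, 1)] : List (ℕ × ℤ)).map
          fun p => (p.1, (p.2 : F))) := by
      simp [ChevalleyDatum.nMat, ChevalleyDatum.nWord, ChevalleyDatum.wordMat, mul_assoc,
        show chevG2.neg 8 = 3 from rfl, show chevG2.neg 10 = 1 from rfl]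
    have h2 : chevG2.nMat F 8 1 * chevG2.nMat F 10 1 =
        chevG2.wordMat F (([(8, 1), (3, -1), (8, 1), (10, 1), (1, -1), (10, 1)] : List (ℕ × ℤ)).map
          fun p => (p.1, (p.2 : F))) := by
      simp [ChevalleyDatum.nMat, ChevalleyDatum.nWord, ChevalleyDatum.wordMat, mul_assoc,
        show chevG2.neg 8 = 3 from rfl, show chevG2.neg 10 = 1 from rfl]
    rw [h1, h2]
    ext a b
    rw [wordMat_apply (D := chevG2) _ (by decide), wordMat_apply (D := chevG2) _ (by decide)]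
    exact congrArg (fun z : ℤ => (z : F)) (comm_check a b)
  rwa [hc] at h
where
  comm_check : ∀ a b : chevG2.Idx,
    (applyW chevG2 [(10, 1), (1, -1), (10, 1), (8, 1), (3, -1), (8, 1)]
        (unitZ chevG2 (idxNat b))).getD (idxNat a) 0 =
      (applyW chevG2 [(8, 1), (3, -1), (8, 1), (10, 1), (1, -1), (10, 1)]
        (unitZ chevG2 (idxNat b))).getD (idxNat a) 0 := by decide +kernel

theorem maps_mem_N {m : ℕ} {g g' : GL chevG2.Idx F} (hg : g ∈ (dat F).N)
    (h : Maps m g g') : g' ∈ (dat F).N := by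
  suffices key : ∃ k, Maps m g k ∧ k ∈ (dat F).N by
    obtain ⟨k, hk, hkm⟩ := key
    rwa [h.unique hk]
  clear h
  have hH : ∀ x ∈ chevG2.diagonalSubgroup F, ∃ k, Maps m x k ∧ k ∈ (dat F).N := fun x hx => by
    obtain ⟨k, hk⟩ := Maps.of_mem (m := m) (borel_le_group (Subgroup.mem_sup_right hx))
    exact ⟨k, hk, RootBN.Data.H_le_N (D := dat F) (maps_mem_H hx hk)⟩
  have hn : ∀ i : Fin chevG2.rank, ∃ k, Maps m ((dat F).nn i) k ∧ k ∈ (dat F).N := fun i => by
    refine ⟨_, maps_ne' m (good.simple_lt i.2) 1, ?_⟩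
    rw [one_pow]
    exact ne'_one_mem_N good (bar_lt _ (good.simple_lt i.2))
  induction hg using Subgroup.closure_induction_left with
  | one => exact ⟨1, Maps.one, Subgroup.one_mem _⟩
  | mul_left x hx y _ ih =>
    obtain ⟨k, hk, hkm⟩ := ih
    rcases hx with hx | ⟨i, rfl⟩
    · obtain ⟨x', hx', hxm⟩ := hH x hx
      exact ⟨_, hx'.mul hk, Subgroup.mul_mem _ hxm hkm⟩
    · obtain ⟨x', hx', hxm⟩ := hn i
      exact ⟨_, hx'.mul hk, Subgroup.mul_mem _ hxm hkm⟩
  | inv_mul_cancel x hx y _ ih =>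
    obtain ⟨k, hk, hkm⟩ := ih
    rcases hx with hx | ⟨i, rfl⟩
    · obtain ⟨x', hx', hxm⟩ := hH x hx
      exact ⟨_, hx'.inv.mul hk, Subgroup.mul_mem _ (Subgroup.inv_mem _ hxm) hkm⟩
    · obtain ⟨x', hx', hxm⟩ := hn i
      exact ⟨_, hx'.inv.mul hk, Subgroup.mul_mem _ (Subgroup.inv_mem _ hxm) hkm⟩

theorem acts_bar {m : ℕ} {n n' : GL chevG2.Idx F} {σ τ : Equiv.Perm (Fin chevG2.nroots)}
    (hσ : (dat F).Acts n σ) (h : Maps m n n') (hτ : (dat F).Acts n' τ) (r : Fin chevG2.nroots) :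
    (τ ⟨bar r.1, bar_lt r.1 r.2⟩).1 = bar (σ r).1 := by
  have hr : r.1 < 12 := r.2
  obtain ⟨s, hs⟩ := (mem_rootSubgroup good (σ r).2).1
    ((hσ r _).2 ((mem_rootSubgroup good r.2).2 ⟨1, rfl⟩) :
      n * xe good r.1 1 * n⁻¹ ∈ chevG2.rootSubgroup F (σ r).1)
  have hs0 : s ≠ 0 := by
    rintro rfl
    rw [xe_zero good (σ r).2, conj_eq_one_iff] at hs
    exact xe_ne_one good facts r.2 one_ne_zero hs
  have hm : Maps m (n * xe good r.1 1 * n⁻¹) (n' * xe good (bar r.1) (1 ^ lam m r.1) * n'⁻¹) :=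
    (h.mul (Maps.xe hr 1)).mul h.inv
  rw [hs, one_pow] at hm
  have e := hm.unique (Maps.xe (σ r).2 s)
  obtain ⟨s', hs'⟩ := (mem_rootSubgroup good (τ ⟨bar r.1, bar_lt r.1 r.2⟩).2).1
    ((hτ ⟨bar r.1, bar_lt r.1 r.2⟩ _).2 ((mem_rootSubgroup good (bar_lt r.1 r.2)).2 ⟨1, rfl⟩) :
      n' * xe good (bar r.1) 1 * n'⁻¹ ∈ chevG2.rootSubgroup F (τ ⟨bar r.1, bar_lt r.1 r.2⟩).1)
  rw [hs'] at e
  by_contra hne
  exact xe_ne good facts (bar_lt _ (σ r).2) (τ _).2 (Ne.symm hne) (pow_ne_zero _ hs0) s' e.symm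

end Cfsg.Agent.Twisted.Ree
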