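/-
The elements of U fixed by σ are the words of the small Ree group.
-/
import Cfsg.Agent.Lib.Twisted.Ree.Maps

set_option autoImplicit false

namespace Cfsg.Agent.Twisted.Ree

open Cfsg.Lie Matrix Chev BNSetup

variable {F : Type*} [Field F] [CharP F 3]

theorem tail_comm_check : ∀ r : Fin 12, ∀ s : Fin 12, 8 ≤ r.1 → 8 ≤ s.1 →
    (chevG2.commTerms r.1 s.1).all (fun x => decide (x.1 < 12) && x.2.1 % 3 == 0) = true := by
  decide +kernel

theorem xe_commute {r s : ℕ} (hr : r < 12) (hs : s < 12) (hr' : 8 ≤ r) (hs' : 8 ≤ s) (t u : F) :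
    Commute (xe good r t) (xe good s u) := by
  by_cases h : s = r
  · subst h
    rw [Commute, SemiconjBy, xe_add good hs, xe_add good hs, add_comm]
  · have hne : s ≠ chevG2.neg r := by
      rw [neg_eq facts hr]
      show s ≠ 12 - 1 - r
      omega
    apply Units.ext
    simp only [Units.val_mul, coe_xe]
    rw [good.comm_formula hr hs h hne t u]
    have : chevG2.wordMat F (chevG2.commWord F r s t u) = 1 := by
      refine List.prod_eq_one fun y hy => ?_
      simp only [ChevalleyDatum.commWord, List.map_map, List.mem_map] at hy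
      obtain ⟨x, hx, rfl⟩ := hy
      have hall := List.all_eq_true.1 (tail_comm_check ⟨r, hr⟩ ⟨s, hs⟩ hr' hs') x hx
      simp only [Bool.and_eq_true, decide_eq_true_eq, beq_iff_eq] at hall
      obtain ⟨h1, h2⟩ := hall
      simp only [Function.comp_apply]
      rw [cast_eq_of_mod (F := F) (b := 0) (by simpa using h2), Int.cast_zero, zero_mul, zero_mul,
        good.x_zero h1]
    rw [this, mul_one]

/-- The product over the last four roots. -/
def tail (c d f g : F) : GL chevG2.Idx F := xe good 8 c * xe good 9 d * xe good 10 f * xe good 11 g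

theorem tail_mul (c d f g c' d' f' g' : F) :
    tail c d f g * tail c' d' f' g' = tail (c + c') (d + d') (f + f') (g + g') := by
  simp only [tail]
  have h8 : Commute (xe good 9 d * xe good 10 f * xe good 11 g) (xe good 8 c') :=
    ((xe_commute (by decide) (by decide) (by decide) le_rfl d c').mul_left
      (xe_commute (by decide) (by decide) (by decide) le_rfl f c')).mul_left
      (xe_commute (by decide) (by decide) (by decide) le_rfl g c')
  have h9 : Commute (xe good 10 f * xe good 11 g) (xe good 9 d') :=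
    (xe_commute (by decide) (by decide) (by decide) (by decide) f d').mul_left
      (xe_commute (by decide) (by decide) (by decide) (by decide) g d')
  have h10 : Commute (xe good 11 g) (xe good 10 f') :=
    xe_commute (by decide) (by decide) (by decide) (by decide) g f'
  rw [← xe_add good (r := 8) (by decide), ← xe_add good (r := 9) (by decide),
    ← xe_add good (r := 10) (by decide), ← xe_add good (r := 11) (by decide)]
  simp only [mul_assoc (xe good 8 c) (xe good 9 d), mul_assoc (xe good 8 c) (xe good 9 d * xe good 10 f),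
    mul_assoc (xe good 8 c') (xe good 9 d'), mul_assoc (xe good 8 c') (xe good 9 d' * xe good 10 f')]
  rw [h8.mul_mul_mul_comm, mul_assoc (xe good 9 d) (xe good 10 f), mul_assoc (xe good 9 d') (xe good 10 f'),
    h9.mul_mul_mul_comm, h10.mul_mul_mul_comm]
  simp only [mul_assoc]

omit [CharP F 3] in
theorem six_seven (u t : F) : xe good 6 u * xe good 7 t =
    xe good 7 t * xe good 6 u * tail (t * u) (t ^ 2 * u) (-(t ^ 3 * u)) (-(t ^ 3 * u ^ 2)) := by
  apply Units.ext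
  simp only [Units.val_mul, coe_xe, tail]
  rw [good.comm_formula (r := 7) (s := 6) (by decide) (by decide) (by decide) (by decide) t u,
    ChevalleyDatum.commWord,
    show chevG2.commTerms 7 6 = [(8, -1, 1, 1), (9, 1, 2, 1), (10, 1, 3, 1), (11, 1, 3, 2)] by decide +kernel]
  simp only [ChevalleyDatum.wordMat, List.map_cons, List.map_nil, List.prod_cons, List.prod_nil,
    mul_one, mul_assoc]
  rw [show ((-1 : ℤ) : F) * ((-t) ^ 1 * u ^ 1) = t * u by push_cast; ring,
    show ((1 : ℤ) : F) * ((-t) ^ 2 * u ^ 1) = t ^ 2 * u by push_cast; ring,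
    show ((1 : ℤ) : F) * ((-t) ^ 3 * u ^ 1) = -(t ^ 3 * u) by push_cast; ring,
    show ((1 : ℤ) : F) * ((-t) ^ 3 * u ^ 2) = -(t ^ 3 * u ^ 2) by push_cast; ring]

/-- The coordinates on U. -/
def uOf (a b c d f g : F) : GL chevG2.Idx F := xe good 7 a * xe good 6 b * tail c d f g

omit [CharP F 3] in
theorem tail_eq_prodFrom (c d f g : F) :
    tail c d f g = prodFrom good F (fun r => [c, d, f, g].getD (r - 8) 0) 8 4 := by
  simp [tail, prodFrom, mul_assoc]

theorem uOf_eq_prodFrom (a b : F) : ∃ p : F × F × F × F, ∀ c d f g : F,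
    uOf a b c d f g = prodFrom good F
      (fun r => [b, a, p.1 + c, p.2.1 + d, p.2.2.1 + f, p.2.2.2 + g].getD (r - 6) 0) 6 6 := by
  refine ⟨(-(a * b), -(a ^ 2 * b), a ^ 3 * b, a ^ 3 * b ^ 2), fun c d f g => ?_⟩
  have h := six_seven b a
  have h' : xe good 7 a * xe good 6 b = xe good 6 b * xe good 7 a *
      tail (-(a * b)) (-(a ^ 2 * b)) (a ^ 3 * b) (a ^ 3 * b ^ 2) := by
    rw [h, mul_assoc (xe good 7 a * xe good 6 b), tail_mul]
    simp only [add_neg_cancel, neg_add_cancel]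
    simp [tail, xe_zero good (r := 8) (by decide), xe_zero good (r := 9) (by decide),
      xe_zero good (r := 10) (by decide), xe_zero good (r := 11) (by decide)]
  rw [uOf, h', mul_assoc (xe good 6 b * xe good 7 a), tail_mul]
  simp [tail, prodFrom, mul_assoc]

theorem uOf_inj {a b c d f g a' b' c' d' f' g' : F} (h : uOf a b c d f g = uOf a' b' c' d' f' g') :
    a = a' ∧ b = b' ∧ c = c' ∧ d = d' ∧ f = f' ∧ g = g' := by
  obtain ⟨p, hp⟩ := uOf_eq_prodFrom a b
  obtain ⟨p', hp'⟩ := uOf_eq_prodFrom a' b'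
  have e := prodFrom_inj good facts (show 6 + 6 = chevG2.nroots from rfl) le_rfl
    ((hp c d f g).symm.trans (h.trans (hp' c' d' f' g')))
  have hb : b = b' := by simpa using e 6 (by decide) (by decide)
  have ha : a = a' := by simpa using e 7 (by decide) (by decide)
  subst ha hb
  rw [uOf, uOf, mul_right_inj, tail_eq_prodFrom, tail_eq_prodFrom] at h
  have e2 := prodFrom_inj good facts (show 8 + 4 = chevG2.nroots from rfl) (by decide) h
  exact ⟨rfl, rfl, by simpa using e2 8 le_rfl (by decide), by simpa using e2 9 (by decide) (by decide),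
    by simpa using e2 10 (by decide) (by decide), by simpa using e2 11 (by decide) (by decide)⟩

omit [CharP F 3] in
theorem uOf_mem_U (a b c d f g : F) : uOf a b c d f g ∈ chevG2.posUnipotent F := by
  have h : ∀ r < 12, 6 ≤ r → ∀ t : F, xe good r t ∈ chevG2.posUnipotent F := fun r hr h6 t =>
    Subgroup.subset_closure ⟨r, t, (pos_iff facts hr).2 h6, rfl⟩
  simp only [uOf, tail]
  refine Subgroup.mul_mem _ (Subgroup.mul_mem _ ?_ ?_)
    (Subgroup.mul_mem _ (Subgroup.mul_mem _ (Subgroup.mul_mem _ ?_ ?_) ?_) ?_) <;>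
    exact h _ (by decide) (by decide) _

theorem exists_uOf {g : GL chevG2.Idx F} (hg : g ∈ chevG2.posUnipotent F) :
    ∃ a b c d f h : F, g = uOf a b c d f h := by
  obtain ⟨t, -, rfl⟩ := exists_prodFrom good facts (show 6 + 6 = chevG2.nroots from rfl) le_rfl g
    ((Uge_eq_U (F := F) good facts).symm ▸ hg)
  refine ⟨t 7, t 6, t 7 * t 6 + t 8, t 7 ^ 2 * t 6 + t 9, -(t 7 ^ 3 * t 6) + t 10,
    -(t 7 ^ 3 * t 6 ^ 2) + t 11, ?_⟩
  rw [uOf, ← tail_mul, ← mul_assoc, ← six_seven]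
  simp [tail, prodFrom, mul_assoc]

theorem maps_uOf (m : ℕ) (a b c d f g : F) :
    Maps m (uOf a b c d f g) (uOf (b ^ 3 ^ m) (a ^ 3 ^ (m + 1))
      (b ^ 3 ^ m * a ^ 3 ^ (m + 1) + f ^ 3 ^ m)
      ((b ^ 3 ^ m) ^ 2 * a ^ 3 ^ (m + 1) + g ^ 3 ^ m)
      (-((b ^ 3 ^ m) ^ 3 * a ^ 3 ^ (m + 1)) + c ^ 3 ^ (m + 1))
      (-((b ^ 3 ^ m) ^ 3 * (a ^ 3 ^ (m + 1)) ^ 2) + d ^ 3 ^ (m + 1))) := by
  have h := ((Maps.xe (F := F) (m := m) (r := 7) (by decide) a).mul
    (Maps.xe (m := m) (r := 6) (by decide) b)).mul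
    ((((Maps.xe (m := m) (r := 8) (by decide) c).mul (Maps.xe (m := m) (r := 9) (by decide) d)).mul
      (Maps.xe (m := m) (r := 10) (by decide) f)).mul (Maps.xe (m := m) (r := 11) (by decide) g))
  rw [show bar 7 = 6 from rfl, show bar 6 = 7 from rfl, show bar 8 = 10 from rfl,
    show bar 9 = 11 from rfl, show bar 10 = 8 from rfl, show bar 11 = 9 from rfl,
    show lam m 7 = 3 ^ (m + 1) from rfl, show lam m 6 = 3 ^ m from rfl,
    show lam m 8 = 3 ^ (m + 1) from rfl, show lam m 9 = 3 ^ (m + 1) from rfl,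
    show lam m 10 = 3 ^ m from rfl, show lam m 11 = 3 ^ m from rfl, six_seven] at h
  have ht : xe good 10 (c ^ 3 ^ (m + 1)) * xe good 11 (d ^ 3 ^ (m + 1)) * xe good 8 (f ^ 3 ^ m) *
      xe good 9 (g ^ 3 ^ m) = tail (f ^ 3 ^ m) (g ^ 3 ^ m) (c ^ 3 ^ (m + 1)) (d ^ 3 ^ (m + 1)) := by
    have e := tail_mul 0 0 (c ^ 3 ^ (m + 1)) (d ^ 3 ^ (m + 1)) (f ^ 3 ^ m) (g ^ 3 ^ m) 0 0
    simp only [zero_add, add_zero] at e
    rw [← e]
    simp [tail, xe_zero good (r := 8) (by decide), xe_zero good (r := 9) (by decide),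
      xe_zero good (r := 10) (by decide), xe_zero good (r := 11) (by decide), mul_assoc]
  rw [ht, mul_assoc (xe good 7 _ * xe good 6 _) (tail _ _ _ _), tail_mul] at h
  exact h

/-- The element of U given by the word of the Ree group. -/
def uW (m : ℕ) (t u v : F) : GL chevG2.Idx F :=
  uOf (t ^ 3 ^ m) t (t ^ (3 ^ m + 1) + u ^ 3 ^ m) (t ^ (2 * 3 ^ m + 1) + v ^ 3 ^ m) u v

omit [CharP F 3] in
theorem coe_uW (m : ℕ) (t u v : F) :
    ((uW m t u v : GL chevG2.Idx F) : Matrix chevG2.Idx chevG2.Idx F) =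
      chevG2.wordMat F (reeWordU (3 ^ m) t u v) := by
  simp [uW, uOf, tail, reeWordU, g2a, g2b, g2ab, g2aab, g2aaab, g2aaabb, ChevalleyDatum.wordMat,
    coe_xe, mul_assoc]

omit [CharP F 3] in
theorem uW_mem_U (m : ℕ) (t u v : F) : uW m t u v ∈ chevG2.posUnipotent F := uOf_mem_U _ _ _ _ _ _

theorem uW_inj {m : ℕ} {t u v t' u' v' : F} (h : uW m t u v = uW m t' u' v') :
    t = t' ∧ u = u' ∧ v = v' := by
  obtain ⟨-, h1, -, -, h2, h3⟩ := uOf_inj h
  exact ⟨h1, h2, h3⟩

variable {m : ℕ} (hpow : ∀ x : F, x ^ 3 ^ (2 * m + 1) = x)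
include hpow

omit [CharP F 3] in
theorem pow_e_pow (x : F) : (x ^ 3 ^ m) ^ 3 ^ (m + 1) = x := by
  rw [← pow_mul, ← pow_add, show m + (m + 1) = 2 * m + 1 by omega, hpow]

omit [CharP F 3] in
theorem pow_pow_e (x : F) : (x ^ 3 ^ (m + 1)) ^ 3 ^ m = x := by
  rw [← pow_mul, ← pow_add, show m + 1 + m = 2 * m + 1 by omega, hpow]

theorem maps_uW (t u v : F) : Maps m (uW m t u v) (uW m t u v) := by
  have h := maps_uOf m (t ^ 3 ^ m) t (t ^ (3 ^ m + 1) + u ^ 3 ^ m)
    (t ^ (2 * 3 ^ m + 1) + v ^ 3 ^ m) u v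
  rw [add_pow_char_pow, add_pow_char_pow, pow_e_pow hpow, pow_e_pow hpow, pow_e_pow hpow] at h
  have e3 : (t ^ 3 ^ m) ^ 3 = t ^ 3 ^ (m + 1) := by rw [← pow_mul, pow_succ]
  have hc : t ^ 3 ^ m * t + u ^ 3 ^ m = t ^ (3 ^ m + 1) + u ^ 3 ^ m := by rw [pow_succ]
  have hd : (t ^ 3 ^ m) ^ 2 * t + v ^ 3 ^ m = t ^ (2 * 3 ^ m + 1) + v ^ 3 ^ m := by
    rw [pow_succ t (2 * 3 ^ m), pow_mul' t 2]
  have hf : -((t ^ 3 ^ m) ^ 3 * t) + ((t ^ (3 ^ m + 1)) ^ 3 ^ (m + 1) + u) = u := by
    rw [pow_succ t (3 ^ m), mul_pow, pow_e_pow hpow, e3]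
    ring
  have hg : -((t ^ 3 ^ m) ^ 3 * t ^ 2) + ((t ^ (2 * 3 ^ m + 1)) ^ 3 ^ (m + 1) + v) = v := by
    rw [pow_succ t (2 * 3 ^ m), pow_mul' t 2, mul_pow, ← pow_mul (t ^ 3 ^ m) 2, mul_comm 2, pow_mul,
      pow_e_pow hpow, e3]
    ring
  rw [hc, hd, hf, hg] at h
  exact h

omit hpow in
theorem exists_uW_of_maps {g : GL chevG2.Idx F} (hg : g ∈ chevG2.posUnipotent F) (h : Maps m g g) :
    ∃ t u v : F, g = uW m t u v := by
  obtain ⟨a, b, c, d, f, k, rfl⟩ := exists_uOf hg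
  obtain ⟨ha, hb, hc, hd, -, -⟩ := uOf_inj (h.unique (maps_uOf m a b c d f k))
  refine ⟨b, f, k, ?_⟩
  rw [uW]
  congr 1
  · rw [hc, ← hb, pow_succ]
  · rw [hd, ← hb, pow_succ b (2 * 3 ^ m), pow_mul' b 2]

end Cfsg.Agent.Twisted.Ree
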