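/-
Fixed points of σ: the two Bruhat cells, and the small Ree group inside them.
-/
import Cfsg.Agent.Lib.Twisted.Ree.Unipotent

set_option autoImplicit false

namespace Cfsg.Agent.Twisted.Ree

open Cfsg.Lie Matrix Chev BNSetup

variable {F : Type*} [Field F]

/-- The Weyl group of G₂ as lists of images. -/
def weyl : List (List ℕ) :=
  [[0, 1, 2, 3, 4, 5, 6, 7, 8, 9, 10, 11], [0, 5, 3, 2, 7, 1, 10, 4, 9, 8, 6, 11],
   [1, 0, 2, 4, 3, 6, 5, 8, 7, 9, 11, 10], [1, 6, 4, 2, 8, 0, 11, 3, 9, 7, 5, 10],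
   [5, 0, 3, 7, 2, 10, 1, 9, 4, 8, 11, 6], [5, 10, 7, 3, 9, 0, 11, 2, 8, 4, 1, 6],
   [6, 1, 4, 8, 2, 11, 0, 9, 3, 7, 10, 5], [6, 11, 8, 4, 9, 1, 10, 2, 7, 3, 0, 5],
   [10, 5, 7, 9, 3, 11, 0, 8, 2, 4, 6, 1], [10, 11, 9, 7, 8, 5, 6, 3, 4, 2, 0, 1],
   [11, 6, 8, 9, 4, 10, 1, 7, 2, 3, 5, 0], [11, 10, 9, 8, 7, 6, 5, 4, 3, 2, 1, 0]]

theorem weyl_closed : ∀ i < 2, ∀ w ∈ weyl, w.map (chevG2.reflectRoot i) ∈ weyl := by decide +kernel

theorem weyl_fixed : ∀ w ∈ weyl, (∀ r < 12, w.getD (bar r) 0 = bar (w.getD r 0)) →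
    (∀ r < 12, w.getD r 0 = r) ∨ (∀ r < 12, w.getD r 0 = 11 - r) := by decide +kernel

theorem wl_mem_weyl (l : List (Fin chevG2.rank)) :
    List.ofFn (fun r : Fin chevG2.nroots => ((dat F).wl l r).1) ∈ weyl := by
  induction l with
  | nil =>
    rw [show List.ofFn (fun r : Fin chevG2.nroots => ((dat F).wl [] r).1) =
      List.ofFn (fun r : Fin chevG2.nroots => r.1) from rfl]
    decide
  | cons i l ih =>
    have h := weyl_closed i.1 i.2 _ ih
    rw [List.map_ofFn] at h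
    convert h using 3 with r
    rw [RootBN.Data.wl_cons, Equiv.Perm.mul_apply]
    exact data_refl good i _

theorem mem_borel_of_cell_one {g : GL chevG2.Idx F} (h : g ∈ (dat F).cell 1) :
    g ∈ chevG2.borelSubgroup F := by
  rw [← data_B good facts]
  exact (RootBN.Data.mem_cell_one ax).1 h

theorem wl_eq_one_or (l : List (Fin chevG2.rank))
    (h : ∀ r : Fin chevG2.nroots, ((dat F).wl l ⟨bar r.1, bar_lt r.1 r.2⟩).1 = bar ((dat F).wl l r).1) :
    (dat F).wl l = 1 ∨ (dat F).wl l = w0 := by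
  have hget : ∀ r (hr : r < 12), (List.ofFn fun r : Fin chevG2.nroots => ((dat F).wl l r).1).getD r 0 =
      ((dat F).wl l ⟨r, hr⟩).1 := by
    intro r hr
    rw [List.getD_eq_getElem?_getD, List.getElem?_ofFn,
      dif_pos (show r < chevG2.nroots from hr)]
    rfl
  rcases weyl_fixed _ (wl_mem_weyl l) (fun r hr => by
    rw [hget _ (bar_lt r hr), hget r hr]; exact h ⟨r, hr⟩) with h1 | h1
  · left
    ext r
    have := h1 r.1 r.2
    rw [hget r.1 r.2] at this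
    exact this
  · right
    ext r
    have := h1 r.1 r.2
    rw [hget r.1 r.2] at this
    rw [this, w0, Fin.revPerm_apply, Fin.val_rev]
    show _ = 12 - _
    omega

theorem borel_unique {u v h k : GL chevG2.Idx F} (hu : u ∈ chevG2.posUnipotent F)
    (hv : v ∈ chevG2.posUnipotent F) (hh : h ∈ chevG2.diagonalSubgroup F)
    (hk : k ∈ chevG2.diagonalSubgroup F) (e : u * h = v * k) : u = v ∧ h = k := by
  have h1 : v⁻¹ * u = k * h⁻¹ := by
    rw [eq_mul_inv_iff_mul_eq, mul_assoc, inv_mul_eq_iff_eq_mul]; exact e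
  have h2 : v⁻¹ * u ∈ chevG2.posUnipotent F ⊓ chevG2.diagonalSubgroup F :=
    ⟨Subgroup.mul_mem _ (Subgroup.inv_mem _ hv) hu,
      h1 ▸ Subgroup.mul_mem _ hk (Subgroup.inv_mem _ hh)⟩
  rw [U_inf_H facts good, Subgroup.mem_bot, inv_mul_eq_one] at h2
  subst h2
  exact ⟨rfl, mul_left_cancel e⟩

theorem cell_unique {u v w z h k : GL chevG2.Idx F} (hu : u ∈ chevG2.posUnipotent F)
    (hv : v ∈ chevG2.posUnipotent F) (hh : h ∈ chevG2.diagonalSubgroup F)
    (hk : k ∈ chevG2.diagonalSubgroup F) (hw : w ∈ chevG2.posUnipotent F)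
    (hz : z ∈ chevG2.posUnipotent F) (e : u * h * n0 F * w = v * k * n0 F * z) :
    u = v ∧ h = k ∧ w = z := by
  have hB : ∀ {a b : GL chevG2.Idx F}, a ∈ chevG2.posUnipotent F → b ∈ chevG2.diagonalSubgroup F →
      a * b ∈ chevG2.borelSubgroup F := fun ha hb =>
    Subgroup.mul_mem _ (Subgroup.mem_sup_left ha) (Subgroup.mem_sup_right hb)
  have h1 : n0 F * (z * w⁻¹) * (n0 F)⁻¹ = (v * k)⁻¹ * (u * h) := by
    rw [eq_inv_mul_iff_mul_eq]
    have e2 := congrArg (fun x => x * w⁻¹ * (n0 F)⁻¹) e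
    simp only [mul_inv_cancel_right] at e2
    rw [e2]
    group
  have h2 := eq_one_of_conj_mem (Subgroup.mul_mem _ hz (Subgroup.inv_mem _ hw))
    (h1 ▸ Subgroup.mul_mem _ (Subgroup.inv_mem _ (hB hv hk)) (hB hu hh))
  rw [mul_inv_eq_one] at h2
  subst h2
  obtain ⟨rfl, rfl⟩ := borel_unique hu hv hh hk (mul_right_cancel (mul_right_cancel e))
  exact ⟨rfl, rfl, rfl⟩

/-- The twisted group. -/
abbrev G1 (F : Type*) [Field F] (m : ℕ) : Subgroup (GL chevG2.Idx F) := twistedG2 F (3 ^ m)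

variable [CharP F 3]

/-- The words on the negative side. -/
def vW (m : ℕ) (t u v : F) : GL chevG2.Idx F := n0 F * uW m t u v * (n0 F)⁻¹

omit [CharP F 3] in
theorem coe_vW (m : ℕ) (t u v : F) :
    ((vW m t u v : GL chevG2.Idx F) : Matrix chevG2.Idx chevG2.Idx F) =
      chevG2.wordMat F (reeWordV (3 ^ m) t u v) := by
  have h : ∀ r < 12, ∀ c : F, chevG2.x F (chevG2.negIdx.getD r 0) (-c) =
      ((n0 F * xe good r c * (n0 F)⁻¹ : GL chevG2.Idx F) : Matrix chevG2.Idx chevG2.Idx F) := by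
    intro r hr c
    rw [n0_conj_xe hr, coe_xe]
    congr 1
    exact neg_eq facts hr
  have e : vW m t u v = n0 F * xe good 7 (t ^ 3 ^ m) * (n0 F)⁻¹ *
      (n0 F * xe good 6 t * (n0 F)⁻¹) *
      (n0 F * xe good 8 (t ^ (3 ^ m + 1) + u ^ 3 ^ m) * (n0 F)⁻¹) *
      (n0 F * xe good 9 (t ^ (2 * 3 ^ m + 1) + v ^ 3 ^ m) * (n0 F)⁻¹) *
      (n0 F * xe good 10 u * (n0 F)⁻¹) * (n0 F * xe good 11 v * (n0 F)⁻¹) := by
    simp only [vW, uW, uOf, tail]
    group
  rw [e]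
  simp only [reeWordV, ChevalleyDatum.negWord, reeWordU, ChevalleyDatum.wordMat, List.map_cons,
    List.map_nil, List.prod_cons, List.prod_nil, mul_one, g2a, g2b, g2ab, g2aab, g2aaab, g2aaabb]
  rw [h 7 (by decide), h 6 (by decide), h 8 (by decide), h 9 (by decide), h 10 (by decide),
    h 11 (by decide)]
  simp only [Units.val_mul, mul_assoc]

omit [CharP F 3] in
theorem uW_mem_G1 (m : ℕ) (t u v : F) : uW m t u v ∈ G1 F m :=
  Subgroup.subset_closure ⟨_, ⟨t, u, v, Or.inl rfl⟩, coe_uW m t u v⟩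

omit [CharP F 3] in
theorem vW_mem_G1 (m : ℕ) (t u v : F) : vW m t u v ∈ G1 F m :=
  Subgroup.subset_closure ⟨_, ⟨t, u, v, Or.inr rfl⟩, coe_vW m t u v⟩

omit [CharP F 3] in
theorem n0_mem_G1 (m : ℕ) : n0 F ∈ G1 F m := by
  have e : n0 F = uW m 0 1 0 * vW m 0 1 0 * uW m 0 1 0 := by
    have hU : uW m (0 : F) 1 0 = xe good 8 1 * xe good 10 1 := by
      simp [uW, uOf, tail, xe_zero good (r := 7) (by decide), xe_zero good (r := 6) (by decide),
        xe_zero good (r := 9) (by decide), xe_zero good (r := 11) (by decide)]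
    have hV : vW m (0 : F) 1 0 = xe good 3 (-1) * xe good 1 (-1) := by
      rw [vW, hU, ← conj_mul, n0_conj_xe (by decide), n0_conj_xe (by decide)]
    rw [hU, hV, n0]
    group
  rw [e]
  exact Subgroup.mul_mem _ (Subgroup.mul_mem _ (uW_mem_G1 m 0 1 0) (vW_mem_G1 m 0 1 0))
    (uW_mem_G1 m 0 1 0)

variable {m : ℕ} (hpow : ∀ x : F, x ^ 3 ^ (2 * m + 1) = x)
include hpow

theorem maps_vW (t u v : F) : Maps m (vW m t u v) (vW m t u v) :=
  ((maps_n0 m).mul (maps_uW hpow t u v)).mul (maps_n0 m).inv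

theorem maps_of_mem_G1 {g : GL chevG2.Idx F} (hg : g ∈ G1 F m) : Maps m g g := by
  induction hg using Subgroup.closure_induction with
  | mem x hx =>
    obtain ⟨w, ⟨t, u, v, rfl | rfl⟩, hx⟩ := hx
    · obtain rfl : x = uW m t u v := Units.ext (hx.trans (coe_uW m t u v).symm)
      exact maps_uW hpow t u v
    · obtain rfl : x = vW m t u v := Units.ext (hx.trans (coe_vW m t u v).symm)
      exact maps_vW hpow t u v
  | one => exact Maps.one
  | mul x y _ _ hx hy => exact hx.mul hy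
  | inv x _ hx => exact hx.inv

omit hpow in
theorem exists_borel_fixed {g : GL chevG2.Idx F} (hg : g ∈ chevG2.borelSubgroup F) (h : Maps m g g) :
    ∃ t u v : F, ∃ k ∈ chevG2.diagonalSubgroup F, Maps m k k ∧ g = uW m t u v * k := by
  obtain ⟨u, hu, k, hk, rfl⟩ := borel_decomp good facts hg
  obtain ⟨u', hu'⟩ := Maps.of_mem (m := m) (borel_le_group (Subgroup.mem_sup_left hu))
  obtain ⟨k', hk'⟩ := Maps.of_mem (m := m) (borel_le_group (Subgroup.mem_sup_right hk))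
  obtain ⟨rfl, rfl⟩ := borel_unique (maps_mem_U hu hu') hu (maps_mem_H hk hk') hk
    ((hu'.mul hk').unique h)
  obtain ⟨t, x, v, rfl⟩ := exists_uW_of_maps hu hu'
  exact ⟨t, x, v, k', hk, hk', rfl⟩

omit hpow in
theorem exists_cell_fixed {g : GL chevG2.Idx F} (hB : g ∉ chevG2.borelSubgroup F) (h : Maps m g g) :
    ∃ t u v : F, ∃ k ∈ chevG2.diagonalSubgroup F, Maps m k k ∧ ∃ t' u' v' : F,
      g = uW m t u v * k * n0 F * uW m t' u' v' := by
  have hgd : g ∈ (dat F).grp := (data_grp (F := F) good).symm ▸ h.mem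
  obtain ⟨l, hl⟩ := RootBN.Data.exists_cell (D := dat F) ax hgd
  obtain ⟨n, hn, hσ, b, hb, c, hc, e⟩ := hl
  have hng : n ∈ chevG2.group F := data_grp (F := F) good ▸ RootBN.Data.N_le_grp ax hn
  rw [data_B good facts] at hb hc
  obtain ⟨n', hn'⟩ := Maps.of_mem (m := m) hng
  obtain ⟨b', hb'⟩ := Maps.of_mem (m := m) (borel_le_group hb)
  obtain ⟨c', hc'⟩ := Maps.of_mem (m := m) (borel_le_group hc)
  have hn'N := maps_mem_N hn hn'
  obtain ⟨l', hl'⟩ := RootBN.Data.exists_acts ax hn'N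
  have e' : b' * n' * c' = g := ((hb'.mul hn').mul hc').unique (e ▸ h)
  have hcell : g ∈ (dat F).cell ((dat F).wl l') := by
    refine ⟨n', hn'N, hl', b', ?_, c', ?_, e'.symm⟩ <;> rw [data_B good facts]
    · exact maps_mem_B hb hb'
    · exact maps_mem_B hc hc'
  have hgl : g ∈ (dat F).cell ((dat F).wl l) := by
    refine ⟨n, hn, hσ, b, ?_, c, ?_, e⟩ <;> rwa [data_B good facts]
  have hw := RootBN.Data.cell_disjoint ax hgl hcell
  rcases wl_eq_one_or l (fun r => by rw [← acts_bar hσ hn' hl' r, hw]) with h1 | h1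
  · exact absurd (mem_borel_of_cell_one (h1 ▸ hgl)) hB
  · obtain ⟨x, hx, y, hy, hxy⟩ := (RootBN.Data.mem_cell_iff ax n0_mem_N acts_n0).1 (h1 ▸ hgl)
    rw [data_B good facts] at hx hy
    obtain ⟨u, hu, k, hk, rfl⟩ := borel_decomp good facts hx
    obtain ⟨u2, hu2, k2, hk2, rfl⟩ := borel_decomp good facts hy
    have hU : k2⁻¹ * u2 * k2 ∈ chevG2.posUnipotent F := by
      have h1' : k2⁻¹ * u2 * k2⁻¹⁻¹ ∈ (dat F).U :=
        RootBN.Data.H_conj_U (D := dat F) ax (Subgroup.inv_mem (dat F).H hk2)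
          ((data_U (F := F) good facts).symm ▸ hu2)
      rw [inv_inv] at h1'
      exact data_U (F := F) good facts ▸ h1'
    set kk := k * (n0 F * k2 * (n0 F)⁻¹) with hkk
    have hkkm : kk ∈ chevG2.diagonalSubgroup F := Subgroup.mul_mem _ hk (n0_conj_H hk2)
    have eg : g = u * kk * n0 F * (k2⁻¹ * u2 * k2) := by rw [hxy, hkk]; group
    obtain ⟨u', hu'⟩ := Maps.of_mem (m := m) (borel_le_group (Subgroup.mem_sup_left hu))
    obtain ⟨k', hk'⟩ := Maps.of_mem (m := m) (borel_le_group (Subgroup.mem_sup_right hkkm))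
    obtain ⟨w', hw'⟩ := Maps.of_mem (m := m) (borel_le_group (Subgroup.mem_sup_left hU))
    obtain ⟨e1, e2, e3⟩ := cell_unique (maps_mem_U hu hu') hu (maps_mem_H hkkm hk') hkkm
      (maps_mem_U hU hw') hU
      (((((hu'.mul hk').mul (maps_n0 m)).mul hw')).unique (eg ▸ h) |>.trans eg)
    subst e1 e2
    obtain ⟨t, a, v, ha⟩ := exists_uW_of_maps hu hu'
    obtain ⟨t', a', v', ha'⟩ := exists_uW_of_maps hU (e3 ▸ hw')
    exact ⟨t, a, v, kk, hkkm, hk', t', a', v', by rw [eg, ← ha, ← ha']⟩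

end Cfsg.Agent.Twisted.Ree
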