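/-
The torus of the small Ree group: the diagonal elements fixed by σ form a copy of the multiplicative
group of the field, and all fixed points of σ lie in the small Ree group.
-/
import Cfsg.Agent.Lib.Twisted.Ree.Decomp

set_option autoImplicit false

namespace Cfsg.Agent.Twisted.Ree

open Cfsg.Lie Matrix Chev BNSetup

variable {F : Type*} [Field F]

/-- The coefficient of a root on the simple root 7. -/
def ca (s : ℕ) : ℤ := [-3, -3, -2, -1, -1, 0, 0, 1, 1, 2, 3, 3].getD s 0

/-- The coefficient of a root on the simple root 6. -/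
def cb (s : ℕ) : ℤ := [-2, -1, -1, -1, 0, -1, 1, 0, 1, 1, 1, 2].getD s 0

theorem pairing_check : ∀ r < 12, ∀ s < 12, chevG2.pairing r s =
    cb s * chevG2.pairing r 6 + ca s * chevG2.pairing r 7 := by decide +kernel

theorem coef_neg : ∀ s < 12, cb (chevG2.neg s) = - cb s ∧ ca (chevG2.neg s) = - ca s := by decide

/-- The character of the torus at the root 6. -/
def wt (k : GL chevG2.Idx F) : F :=
  (k : Matrix chevG2.Idx chevG2.Idx F) (Sum.inr ⟨6, by decide⟩) (Sum.inr ⟨6, by decide⟩)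

/-- The character of the torus at the root 7. -/
def wt7 (k : GL chevG2.Idx F) : F :=
  (k : Matrix chevG2.Idx chevG2.Idx F) (Sum.inr ⟨7, by decide⟩) (Sum.inr ⟨7, by decide⟩)

/-- The diagonal of a torus element in terms of the two characters. -/
def chi (c d : F) (s : ℕ) : F := c ^ cb s * d ^ ca s

theorem torus_form {k : GL chevG2.Idx F} (hk : k ∈ chevG2.diagonalSubgroup F) :
    wt k ≠ 0 ∧ wt7 k ≠ 0 ∧
      (k : Matrix chevG2.Idx chevG2.Idx F) = hdiag chevG2 (chi (wt k) (wt7 k)) := by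
  suffices key : ∃ c d : F, c ≠ 0 ∧ d ≠ 0 ∧
      (k : Matrix chevG2.Idx chevG2.Idx F) = hdiag chevG2 (chi c d) by
    obtain ⟨c, d, hc, hd, e⟩ := key
    have h6 : wt k = c := by simp [wt, e, hdiag, chi, cb, ca]
    have h7 : wt7 k = d := by simp [wt7, e, hdiag, chi, cb, ca]
    rw [h6, h7]
    exact ⟨hc, hd, e⟩
  have gen : ∀ r < 12, ∀ t : F, t ≠ 0 → ∃ c d : F, c ≠ 0 ∧ d ≠ 0 ∧
      ((he good r t : GL chevG2.Idx F) : Matrix chevG2.Idx chevG2.Idx F) =
        hdiag chevG2 (chi c d) := by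
    intro r hr t ht
    refine ⟨_, _, zpow_ne_zero (chevG2.pairing r 6) ht, zpow_ne_zero (chevG2.pairing r 7) ht, ?_⟩
    rw [coe_he, good.hMat_eq hr ht]
    refine hdiag_congr chevG2 fun s hs => ?_
    rw [chi, ← _root_.zpow_mul, ← _root_.zpow_mul, ← zpow_add₀ ht, pairing_check r hr s hs]
    ring_nf
  have mulf : ∀ c d c' d' : F, hdiag chevG2 (chi c d) * hdiag chevG2 (chi c' d') =
      hdiag chevG2 (chi (c * c') (d * d')) := fun c d c' d' => by
    rw [hdiag_mul]
    refine hdiag_congr chevG2 fun s _ => ?_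
    rw [chi, chi, chi, mul_zpow, mul_zpow]
    ring
  induction hk using Subgroup.closure_induction_left with
  | one =>
    refine ⟨1, 1, one_ne_zero, one_ne_zero, ?_⟩
    rw [Units.val_one, ← hdiag_one chevG2]
    exact hdiag_congr chevG2 fun s _ => by simp [chi]
  | mul_left x hx y _ ih =>
    obtain ⟨r, t, hr, ht, hx⟩ := hx
    obtain rfl : x = he good r t := Units.ext (hx.trans (coe_he good r t).symm)
    obtain ⟨c, d, hc, hd, e⟩ := gen r hr t ht
    obtain ⟨c', d', hc', hd', e'⟩ := ih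
    exact ⟨c * c', d * d', mul_ne_zero hc hc', mul_ne_zero hd hd', by
      rw [Units.val_mul, e, e', mulf]⟩
  | inv_mul_cancel x hx y _ ih =>
    obtain ⟨r, t, hr, ht, hx⟩ := hx
    obtain rfl : x = he good r t := Units.ext (hx.trans (coe_he good r t).symm)
    rw [he_inv good hr ht]
    obtain ⟨c, d, hc, hd, e⟩ := gen r hr t⁻¹ (inv_ne_zero ht)
    obtain ⟨c', d', hc', hd', e'⟩ := ih
    exact ⟨c * c', d * d', mul_ne_zero hc hc', mul_ne_zero hd hd', by
      rw [Units.val_mul, e, e', mulf]⟩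

/-- A torus element multiplies the parameter of a root element by its character. -/
theorem torus_conj_xe {k : GL chevG2.Idx F} (hk : k ∈ chevG2.diagonalSubgroup F) {r : ℕ}
    (hr : r < 12) (t : F) : k * xe good r t * k⁻¹ = xe good r (chi (wt k) (wt7 k) r * t) := by
  rw [hdiag_conj_xe good facts hk (torus_form hk).2.2 hr]
  obtain ⟨h1, h2⟩ := coef_neg r hr
  simp only [chi, h1, h2, _root_.zpow_neg, mul_inv, inv_inv]

theorem wt_mul {k l : GL chevG2.Idx F} (hk : k ∈ chevG2.diagonalSubgroup F)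
    (hl : l ∈ chevG2.diagonalSubgroup F) : wt (k * l) = wt k * wt l := by
  have h1 := (torus_form hk).2.2
  have h2 := (torus_form hl).2.2
  show ((k : Matrix chevG2.Idx chevG2.Idx F) * (l : Matrix chevG2.Idx chevG2.Idx F)) _ _ = _
  rw [h1, h2, hdiag_mul]
  simp [wt, hdiag, chi, cb, ca]

variable [CharP F 3]

theorem wt7_of_fixed {m : ℕ} {k : GL chevG2.Idx F} (hk : k ∈ chevG2.diagonalSubgroup F)
    (h : Maps m k k) : wt7 k = wt k ^ 3 ^ m := by
  have e1 : Maps m (k * xe good 6 1 * k⁻¹) (k * xe good 7 1 * k⁻¹) := by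
    have := ((h.mul (Maps.xe (r := 6) (by decide) (1 : F))).mul h.inv)
    rwa [one_pow] at this
  rw [torus_conj_xe hk (by decide), torus_conj_xe hk (by decide)] at e1
  have e2 := e1.unique (Maps.xe (r := 6) (by decide) _)
  by_contra hne
  have hx : chi (wt k) (wt7 k) 7 * 1 - (chi (wt k) (wt7 k) 6 * 1) ^ lam m 6 ≠ 0 := by
    rw [sub_ne_zero]
    simpa [chi, cb, ca, show lam m 6 = 3 ^ m from rfl] using hne
  have hb : bar 6 = 7 := rfl
  rw [hb] at e2
  refine xe_ne_one good facts (r := 7) (by decide) hx ?_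
  rw [sub_eq_add_neg, ← xe_add good (by decide), e2, xe_add good (by decide), add_neg_cancel,
    xe_zero good (by decide)]

/-- A fixed torus element is determined by its character at 6. -/
theorem torus_eq_of_wt {m : ℕ} {k l : GL chevG2.Idx F} (hk : k ∈ chevG2.diagonalSubgroup F)
    (h : Maps m k k) (hl : l ∈ chevG2.diagonalSubgroup F) (h' : Maps m l l) (e : wt k = wt l) :
    k = l := by
  apply Units.ext
  rw [(torus_form hk).2.2, (torus_form hl).2.2, wt7_of_fixed hk h, wt7_of_fixed hl h', e]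

theorem ne'_pair_eq (a u : F) :
    ne' good 8 a * ne' good 10 u =
      xe good 8 a * xe good 10 u * (xe good 3 (-a⁻¹) * xe good 1 (-u⁻¹)) *
        (xe good 8 a * xe good 10 u) := by
  have h3 : Commute (xe good 10 u) (xe good 3 (-a⁻¹)) := by
    apply Units.ext
    simp only [Units.val_mul, coe_xe]
    rw [good.comm_formula (r := 3) (s := 10) (by decide) (by decide) (by decide) (by decide),
      ChevalleyDatum.commWord, show chevG2.commTerms 3 10 = [] by decide +kernel]
    simp [ChevalleyDatum.wordMat]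
  have h1 : Commute (xe good 8 a) (xe good 1 (-u⁻¹)) := by
    apply Units.ext
    simp only [Units.val_mul, coe_xe]
    rw [good.comm_formula (r := 1) (s := 8) (by decide) (by decide) (by decide) (by decide),
      ChevalleyDatum.commWord, show chevG2.commTerms 1 8 = [] by decide +kernel]
    simp [ChevalleyDatum.wordMat]
  have h8 : Commute (xe good 10 u) (xe good 8 a) :=
    xe_commute (by decide) (by decide) (by decide) le_rfl u a
  rw [ne', ne', show chevG2.neg 8 = 3 from rfl, show chevG2.neg 10 = 1 from rfl]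
  calc xe good 8 a * xe good 3 (-a⁻¹) * xe good 8 a * (xe good 10 u * xe good 1 (-u⁻¹) * xe good 10 u)
      = xe good 8 a * xe good 3 (-a⁻¹) * (xe good 8 a * xe good 10 u) * xe good 1 (-u⁻¹) *
          xe good 10 u := by group
    _ = xe good 8 a * (xe good 3 (-a⁻¹) * xe good 10 u) * (xe good 8 a * xe good 1 (-u⁻¹)) *
          xe good 10 u := by rw [← h8.eq]; group
    _ = _ := by rw [← h3.eq, h1.eq]; group

theorem ne'_pair_mem_G1 (m : ℕ) (u : F) :
    ne' good 8 (u ^ 3 ^ m) * ne' good 10 u ∈ G1 F m := by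
  have hU : ∀ w : F, uW m 0 w 0 = xe good 8 (w ^ 3 ^ m) * xe good 10 w := fun w => by
    simp [uW, uOf, tail, xe_zero good (r := 7) (by decide), xe_zero good (r := 6) (by decide),
      xe_zero good (r := 9) (by decide), xe_zero good (r := 11) (by decide)]
  have hV : vW m 0 u⁻¹ 0 = xe good 3 (-(u ^ 3 ^ m)⁻¹) * xe good 1 (-u⁻¹) := by
    rw [vW, hU, ← conj_mul, n0_conj_xe (by decide), n0_conj_xe (by decide), inv_pow]
  rw [ne'_pair_eq, ← hU, ← hV]
  exact Subgroup.mul_mem _ (Subgroup.mul_mem _ (uW_mem_G1 _ _ _ _) (vW_mem_G1 _ _ _ _))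
    (uW_mem_G1 _ _ _ _)

/-- The basic torus elements. -/
def hW (m : ℕ) (x : F) : GL chevG2.Idx F := he good 8 (x ^ 3 ^ m) * he good 10 x

theorem hW_mem_G1 (m : ℕ) (x : F) : hW m x ∈ G1 F m := by
  have hc : ∀ a u : F, Commute (ne' good 10 u) (ne' good 8 a) := by
    intro a u
    have h8 : Commute (xe good 10 u) (xe good 8 a) :=
      xe_commute (by decide) (by decide) (by decide) le_rfl u a
    have hcom : ∀ (r s : ℕ) (hr : r < 12) (hs : s < 12) (h1 : s ≠ r) (h2 : s ≠ chevG2.neg r)
        (h3 : (chevG2.commTerms r s).all (fun x => decide (x.1 < 12) && x.2.1 % 3 == 0) = true)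
        (t v : F), Commute (xe good s v) (xe good r t) := by
      intro r s hr hs h1 h2 h3 t v
      apply Units.ext
      simp only [Units.val_mul, coe_xe]
      rw [good.comm_formula hr hs h1 h2 t v]
      have : chevG2.wordMat F (chevG2.commWord F r s t v) = 1 := by
        refine List.prod_eq_one fun y hy => ?_
        simp only [ChevalleyDatum.commWord, List.map_map, List.mem_map] at hy
        obtain ⟨z, hz, rfl⟩ := hy
        have hall := List.all_eq_true.1 h3 z hz
        simp only [Bool.and_eq_true, decide_eq_true_eq, beq_iff_eq] at hall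
        simp only [Function.comp_apply]
        rw [cast_eq_of_mod (F := F) (b := 0) (by simpa using hall.2), Int.cast_zero, zero_mul,
          zero_mul, good.x_zero hall.1]
      rw [this, mul_one]
    have c1 := hcom 3 10 (by decide) (by decide) (by decide) (by decide) (by decide +kernel) (-a⁻¹) u
    have c2 := hcom 8 1 (by decide) (by decide) (by decide) (by decide) (by decide +kernel) a (-u⁻¹)
    have c3 := hcom 3 1 (by decide) (by decide) (by decide) (by decide) (by decide +kernel) (-a⁻¹) (-u⁻¹)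
    rw [ne', ne', show chevG2.neg 8 = 3 from rfl, show chevG2.neg 10 = 1 from rfl]
    exact (((h8.mul_right c1).mul_right h8).mul_left ((c2.mul_right c3).mul_right c2)).mul_left
      ((h8.mul_right c1).mul_right h8)
  have e : hW m x = ne' good 8 (x ^ 3 ^ m) * ne' good 10 x *
      (ne' good 8 ((-1) ^ 3 ^ m) * ne' good 10 (-1)) := by
    rw [hW, he, he, (Odd.pow (by decide) : Odd (3 ^ m)).neg_one_pow, (hc (-1) x).mul_mul_mul_comm]
  rw [e]
  exact Subgroup.mul_mem _ (ne'_pair_mem_G1 m x) (ne'_pair_mem_G1 m (-1))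

omit [CharP F 3] in
theorem hW_mem_H (m : ℕ) {x : F} (hx : x ≠ 0) : hW m x ∈ chevG2.diagonalSubgroup F :=
  Subgroup.mul_mem _ (he_mem_H good (by decide) (pow_ne_zero _ hx)) (he_mem_H good (by decide) hx)

omit [CharP F 3] in
theorem wt_hW (m : ℕ) {x : F} (hx : x ≠ 0) : wt (hW m x) = x ^ (3 ^ (m + 1) - 1) := by
  rw [hW, wt_mul (he_mem_H good (by decide) (pow_ne_zero _ hx)) (he_mem_H good (by decide) hx)]
  simp only [wt, coe_he]
  rw [good.hMat_eq (by decide) (pow_ne_zero _ hx), good.hMat_eq (by decide) hx]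
  simp only [hdiag, Matrix.diagonal_apply_eq, Sum.elim_inr]
  rw [show chevG2.pairing 8 6 = 3 by decide +kernel, show chevG2.pairing 10 6 = -1 by decide +kernel,
    pow_succ]
  rw [show ((3 : ℤ)) = ((3 : ℕ) : ℤ) from rfl, zpow_natCast, ← pow_mul, _root_.zpow_neg_one,
    pow_sub₀ _ hx (Nat.one_le_iff_ne_zero.2 (by positivity)), pow_one]

variable {m : ℕ} (hpow : ∀ x : F, x ^ 3 ^ (2 * m + 1) = x)
include hpow

omit [CharP F 3] in
theorem pow_qsub (x : F) (hx : x ≠ 0) : x ^ (3 ^ (2 * m + 1) - 1) = 1 := by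
  rw [pow_sub₀ _ hx (Nat.one_le_iff_ne_zero.2 (by positivity)), hpow, pow_one, mul_inv_cancel₀ hx]

theorem exists_torus_square {x : F} (hx : x ≠ 0) :
    ∃ k ∈ chevG2.diagonalSubgroup F, k ∈ G1 F m ∧ wt k = x * x := by
  refine ⟨hW m (x ^ (3 ^ (m + 1) + 1)), hW_mem_H m (pow_ne_zero _ hx), hW_mem_G1 m _, ?_⟩
  rw [wt_hW m (pow_ne_zero _ hx), ← pow_mul]
  have h1 : 1 ≤ 3 ^ (2 * m + 1) := Nat.one_le_iff_ne_zero.2 (by positivity)
  have h2 : 1 ≤ 3 ^ (m + 1) := Nat.one_le_iff_ne_zero.2 (by positivity)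
  have hN : (3 ^ (m + 1) + 1) * (3 ^ (m + 1) - 1) = (3 ^ (2 * m + 1) - 1) * 3 + 2 := by
    have h3 : 3 ^ (2 * m + 1) * 3 = 3 ^ (m + 1) * 3 ^ (m + 1) := by
      rw [← pow_add, ← pow_succ]
      congr 1
      omega
    zify [h1, h2] at h3 ⊢
    linear_combination -h3
  rw [hN, pow_add, pow_mul, pow_qsub hpow x hx, one_pow, one_mul, sq]

end Cfsg.Agent.Twisted.Ree
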