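/-
The small Ree group is the fixed-point group of σ: its torus, its two cells.
-/
import Cfsg.Agent.Lib.Twisted.Ree.Torus

set_option autoImplicit false

namespace Cfsg.Agent.Twisted.Ree

open Cfsg.Lie Matrix Chev BNSetup

variable {F : Type*} [Field F] [CharP F 3] [Fintype F] {m : ℕ}
  (hK : Fintype.card F = 3 ^ (2 * m + 1))

omit [CharP F 3] in
include hK in
theorem pow_q (x : F) : x ^ 3 ^ (2 * m + 1) = x := by rw [← hK]; exact FiniteField.pow_card x

/-- The special element outside B. -/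
theorem y_check : (applyW chevG2 [(3, -1), (2, -1), (1, -1), (0, -1)] (unitZ chevG2 13)).getD 2 0 % 3 = 1 := by
  decide +kernel

omit [Fintype F] in
theorem y_entry (m : ℕ) :
    ((vW m (0 : F) 1 1 : GL chevG2.Idx F) : Matrix chevG2.Idx chevG2.Idx F)
      (Sum.inr ⟨0, by decide⟩) (Sum.inr ⟨11, by decide⟩) = 1 := by
  rw [coe_vW]
  have h : reeWordV (3 ^ m) (0 : F) 1 1 = [(4, -0), (5, -0)] ++
      ([(3, -1), (2, -1), (1, -1), (0, -1)] : List (ℕ × ℤ)).map (fun p => (p.1, (p.2 : F))) := by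
    simp [reeWordV, reeWordU, ChevalleyDatum.negWord, chevG2, chevG2NegIdx, g2a, g2b, g2ab, g2aab,
      g2aaab, g2aaabb]
  rw [h]
  have h2 : ∀ w : List (ℕ × F), chevG2.wordMat F ([(4, -0), (5, -0)] ++ w) = chevG2.wordMat F w := by
    intro w
    simp [ChevalleyDatum.wordMat, good.x_zero (r := 4) (by decide), good.x_zero (r := 5) (by decide)]
  rw [h2, wordMat_apply (D := chevG2) _ (by decide)]
  exact (cast_eq_of_mod (F := F) (b := 1) y_check).trans Int.cast_one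

omit [CharP F 3] [Fintype F] in
theorem U_row {u : GL chevG2.Idx F} (hu : u ∈ chevG2.posUnipotent F) (b : chevG2.Idx) :
    (u : Matrix chevG2.Idx chevG2.Idx F) (Sum.inr ⟨0, by decide⟩) b =
      if b = Sum.inr ⟨0, by decide⟩ then 1 else 0 := by
  have h := raises_unitri facts hu (Sum.inr ⟨0, by decide⟩) b (by
    show (0 : ℕ) < _
    omega)
  rw [Matrix.sub_apply, sub_eq_zero] at h
  rw [h, Matrix.one_apply]
  simp only [eq_comm]

omit [CharP F 3] [Fintype F] in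
theorem U_col {u : GL chevG2.Idx F} (hu : u ∈ chevG2.posUnipotent F) (a : chevG2.Idx) :
    (u : Matrix chevG2.Idx chevG2.Idx F) a (Sum.inr ⟨11, by decide⟩) =
      if a = Sum.inr ⟨11, by decide⟩ then 1 else 0 := by
  have hlev : ∀ a : chevG2.Idx, rootLevel chevG2 a <
      rootLevel chevG2 (Sum.inr ⟨11, by decide⟩ : chevG2.Idx) + 1 := by decide
  have h := raises_unitri facts hu a _ (hlev a)
  rw [Matrix.sub_apply, sub_eq_zero] at h
  rw [h, Matrix.one_apply]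

include hK

theorem exists_torus_neg_one : ∃ k ∈ chevG2.diagonalSubgroup F, k ∈ G1 F m ∧ wt k = -1 := by
  have hpow := pow_q hK
  have hB : vW m (0 : F) 1 1 ∉ chevG2.borelSubgroup F := fun hm => by
    have := tri_B hm (Sum.inr ⟨0, by decide⟩) (Sum.inr ⟨11, by decide⟩) (by decide)
    rw [y_entry m] at this
    exact one_ne_zero this
  obtain ⟨t, u, v, k, hk, hkm, t', u', v', e⟩ := exists_cell_fixed hB (maps_vW hpow 0 1 1)
  have hkG : k ∈ G1 F m := by
    have e2 : k = (uW m t u v)⁻¹ * vW m 0 1 1 * (uW m t' u' v')⁻¹ * (n0 F)⁻¹ := by rw [e]; group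
    rw [e2]
    exact Subgroup.mul_mem _ (Subgroup.mul_mem _ (Subgroup.mul_mem _
      (Subgroup.inv_mem _ (uW_mem_G1 _ _ _ _)) (vW_mem_G1 _ _ _ _))
      (Subgroup.inv_mem _ (uW_mem_G1 _ _ _ _))) (Subgroup.inv_mem _ (n0_mem_G1 m))
  have he := y_entry (F := F) m
  rw [e] at he
  rw [Units.val_mul, Units.val_mul, Units.val_mul, Matrix.mul_apply] at he
  rw [Finset.sum_eq_single (Sum.inr ⟨11, by decide⟩ : chevG2.Idx) (fun b _ hb => by
      rw [U_col (uW_mem_U _ _ _ _) b, if_neg hb, mul_zero]) (by simp),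
    U_col (uW_mem_U _ _ _ _), if_pos rfl, mul_one, mul_n0_apply, Matrix.mul_apply,
    Finset.sum_eq_single (Sum.inr ⟨0, by decide⟩ : chevG2.Idx) (fun b _ hb => by
      rw [U_row (uW_mem_U _ _ _ _) b, if_neg hb, zero_mul]) (by simp),
    U_row (uW_mem_U _ _ _ _), if_pos rfl, one_mul, (torus_form hk).2.2,
    show mir (Sum.inr ⟨11, by decide⟩ : chevG2.Idx) = Sum.inr ⟨0, by decide⟩ from rfl, hdiag,
    Matrix.diagonal_apply_eq, Sum.elim_inr, chi, wt7_of_fixed hk hkm, neg_eq_iff_eq_neg] at he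
  have hc := (torus_form hk).1
  have he' : wt k ^ (2 + 3 ^ (m + 1)) = -1 := by
    have e1 : (wt k : F) ^ cb 0 * (wt k ^ 3 ^ m) ^ ca 0 = (wt k ^ (2 + 3 ^ (m + 1)))⁻¹ := by
      rw [show cb 0 = -((2 : ℕ) : ℤ) from rfl, show ca 0 = -((3 : ℕ) : ℤ) from rfl,
        _root_.zpow_neg, _root_.zpow_neg, zpow_natCast, zpow_natCast, ← pow_mul, pow_add, mul_inv,
        ← pow_succ]
    rw [e1, inv_eq_iff_eq_inv, inv_neg, inv_one] at he
    exact he
  have hn : ∀ n : ℕ, k ^ n ∈ chevG2.diagonalSubgroup F ∧ wt (k ^ n) = wt k ^ n := by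
    intro n
    induction n with
    | zero =>
      refine ⟨by simp, ?_⟩
      simp [wt]
    | succ n ih =>
      rw [pow_succ, pow_succ]
      exact ⟨Subgroup.mul_mem _ ih.1 hk, by rw [wt_mul ih.1 hk, ih.2]⟩
  exact ⟨k ^ (2 + 3 ^ (m + 1)), (hn _).1, Subgroup.pow_mem _ hkG _, by rw [(hn _).2, he']⟩

theorem square_or_neg_square (c : F) : ∃ x : F, c = x * x ∨ c = -(x * x) := by
  by_cases hc : c = 0
  · exact ⟨0, Or.inl (by simp [hc])⟩
  have h2 : ringChar F ≠ 2 := by rw [ringChar.eq F 3]; decide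
  have hodd : Odd (Fintype.card F / 2) := by
    rw [hK, pow_succ, pow_mul, show (3 : ℕ) ^ 2 = 9 from rfl]
    have h4 : 9 ^ m % 4 = 1 := by simp [Nat.pow_mod]
    rw [Nat.odd_iff]
    omega
  rcases FiniteField.pow_dichotomy h2 hc with h | h
  · obtain ⟨x, hx⟩ := (FiniteField.isSquare_iff h2 hc).2 h
    exact ⟨x, Or.inl hx⟩
  · obtain ⟨x, hx⟩ := (FiniteField.isSquare_iff h2 (neg_ne_zero.2 hc)).2
      (by rw [hodd.neg_pow, h, neg_neg])
    exact ⟨x, Or.inr (by rw [← hx, neg_neg])⟩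

theorem exists_torus {c : F} (hc : c ≠ 0) :
    ∃ k ∈ chevG2.diagonalSubgroup F, k ∈ G1 F m ∧ wt k = c := by
  obtain ⟨x, rfl | rfl⟩ := square_or_neg_square hK c
  · exact exists_torus_square (pow_q hK) (fun h => hc (by simp [h]))
  · obtain ⟨k, hk, hkG, e⟩ := exists_torus_square (pow_q hK) (x := x) (fun h => hc (by simp [h]))
    obtain ⟨l, hl, hlG, e'⟩ := exists_torus_neg_one hK
    exact ⟨l * k, Subgroup.mul_mem _ hl hk, Subgroup.mul_mem _ hlG hkG, by
      rw [wt_mul hl hk, e, e', neg_one_mul]⟩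

theorem mem_G1_of_fixed_H {k : GL chevG2.Idx F} (hk : k ∈ chevG2.diagonalSubgroup F)
    (h : Maps m k k) : k ∈ G1 F m := by
  obtain ⟨l, hl, hlG, e⟩ := exists_torus hK (torus_form hk).1
  rwa [torus_eq_of_wt hk h hl (maps_of_mem_G1 (pow_q hK) hlG) e.symm]

/-- The Borel part of the small Ree group. -/
theorem exists_of_mem_borel {g : GL chevG2.Idx F} (hB : g ∈ chevG2.borelSubgroup F)
    (hg : g ∈ G1 F m) : ∃ t u v : F, ∃ k ∈ chevG2.diagonalSubgroup F ⊓ G1 F m,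
      g = uW m t u v * k := by
  obtain ⟨t, u, v, k, hk, hkm, e⟩ := exists_borel_fixed hB (maps_of_mem_G1 (pow_q hK) hg)
  exact ⟨t, u, v, k, ⟨hk, mem_G1_of_fixed_H hK hk hkm⟩, e⟩

/-- The big cell of the small Ree group. -/
theorem exists_of_not_mem_borel {g : GL chevG2.Idx F} (hB : g ∉ chevG2.borelSubgroup F)
    (hg : g ∈ G1 F m) : ∃ t u v : F, ∃ k ∈ chevG2.diagonalSubgroup F ⊓ G1 F m, ∃ t' u' v' : F,
      g = uW m t u v * k * n0 F * uW m t' u' v' := by
  obtain ⟨t, u, v, k, hk, hkm, t', u', v', e⟩ :=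
    exists_cell_fixed hB (maps_of_mem_G1 (pow_q hK) hg)
  exact ⟨t, u, v, k, ⟨hk, mem_G1_of_fixed_H hK hk hkm⟩, t', u', v', e⟩

/-- The small Ree group is the fixed-point group. -/
theorem mem_G1_iff {g : GL chevG2.Idx F} : g ∈ G1 F m ↔ Maps m g g := by
  refine ⟨maps_of_mem_G1 (pow_q hK), fun h => ?_⟩
  by_cases hB : g ∈ chevG2.borelSubgroup F
  · obtain ⟨t, u, v, k, hk, hkm, rfl⟩ := exists_borel_fixed hB h
    exact Subgroup.mul_mem _ (uW_mem_G1 _ _ _ _) (mem_G1_of_fixed_H hK hk hkm)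
  · obtain ⟨t, u, v, k, hk, hkm, t', u', v', rfl⟩ := exists_cell_fixed hB h
    exact Subgroup.mul_mem _ (Subgroup.mul_mem _ (Subgroup.mul_mem _ (uW_mem_G1 _ _ _ _)
      (mem_G1_of_fixed_H hK hk hkm)) (n0_mem_G1 m)) (uW_mem_G1 _ _ _ _)

end Cfsg.Agent.Twisted.Ree
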