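/-
The subgroups U¹, H¹, N¹, B¹ of the small Ree group and the orders.
-/
import Cfsg.Agent.Lib.Twisted.Ree.Fixed

set_option autoImplicit false

namespace Cfsg.Agent.Twisted.Ree

open Cfsg.Lie Matrix Chev BNSetup

variable {F : Type*} [Field F] [Fintype F] {m : ℕ}

theorem charP_three (hK : Fintype.card F = 3 ^ (2 * m + 1)) : CharP F 3 := by
  have := Fact.mk (show Nat.Prime 3 by norm_num)
  exact charP_of_card_eq_prime_pow hK

variable [CharP F 3]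

/-- U¹. -/
abbrev U1 (F : Type*) [Field F] (m : ℕ) : Subgroup (GL chevG2.Idx F) :=
  chevG2.posUnipotent F ⊓ G1 F m

/-- H¹. -/
abbrev H1 (F : Type*) [Field F] (m : ℕ) : Subgroup (GL chevG2.Idx F) :=
  chevG2.diagonalSubgroup F ⊓ G1 F m

omit [Fintype F] [CharP F 3] in
theorem uW_mem_U1 (m : ℕ) (t u v : F) : uW m t u v ∈ U1 F m :=
  ⟨uW_mem_U _ _ _ _, uW_mem_G1 _ _ _ _⟩

omit [Fintype F] [CharP F 3] in
theorem U1_le_borel : U1 F m ≤ chevG2.borelSubgroup F := inf_le_left.trans le_sup_left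

omit [Fintype F] [CharP F 3] in
theorem H1_le_borel : H1 F m ≤ chevG2.borelSubgroup F := inf_le_left.trans le_sup_right

omit [Fintype F] [CharP F 3] in
theorem cell_not_borel {u h w : GL chevG2.Idx F} (hu : u ∈ chevG2.borelSubgroup F)
    (hh : h ∈ chevG2.borelSubgroup F) (hw : w ∈ chevG2.borelSubgroup F) :
    u * h * n0 F * w ∉ chevG2.borelSubgroup F := by
  intro hm
  have hn : n0 F ∈ chevG2.borelSubgroup F := by
    have := Subgroup.mul_mem _ (Subgroup.mul_mem _ (Subgroup.inv_mem _ (Subgroup.mul_mem _ hu hh)) hm)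
      (Subgroup.inv_mem _ hw)
    rwa [mul_assoc (u * h) (n0 F), inv_mul_cancel_left, mul_inv_cancel_right] at this
  have h1 := tri_B hn (mir (Sum.inr ⟨11, by decide⟩)) (Sum.inr ⟨11, by decide⟩) (by decide)
  rw [n0_apply, if_pos rfl] at h1
  exact neg_ne_zero.2 one_ne_zero h1

variable (hK : Fintype.card F = 3 ^ (2 * m + 1))
include hK

theorem mem_U1_iff {g : GL chevG2.Idx F} : g ∈ U1 F m ↔ ∃ t u v : F, g = uW m t u v := by
  refine ⟨fun h => exists_uW_of_maps h.1 (maps_of_mem_G1 (pow_q hK) h.2), ?_⟩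
  rintro ⟨t, u, v, rfl⟩
  exact uW_mem_U1 m t u v

theorem card_U1 : Nat.card ↥(U1 F m) = (3 ^ (2 * m + 1)) ^ 3 := by
  rw [← Nat.card_congr (Equiv.ofBijective
    (fun p : F × F × F => (⟨uW m p.1 p.2.1 p.2.2, uW_mem_U1 m _ _ _⟩ : ↥(U1 F m))) ⟨?_, ?_⟩),
    Nat.card_prod, Nat.card_prod, Nat.card_eq_fintype_card, hK]
  · ring
  · intro p p' h
    obtain ⟨h1, h2, h3⟩ := uW_inj (congrArg Subtype.val h)
    exact Prod.ext h1 (Prod.ext h2 h3)
  · rintro ⟨g, hg⟩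
    obtain ⟨t, u, v, rfl⟩ := (mem_U1_iff hK).1 hg
    exact ⟨(t, u, v), rfl⟩

/-- The character identifies H¹ with the multiplicative group. -/
noncomputable def torusHom : ↥(H1 F m) →* Fˣ where
  toFun k := Units.mk0 (wt (k : GL chevG2.Idx F)) (torus_form k.2.1).1
  map_one' := Units.ext (by simp [wt])
  map_mul' k l := Units.ext (wt_mul k.2.1 l.2.1)

theorem torusHom_bijective : Function.Bijective (torusHom (F := F) (m := m)) := by
  constructor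
  · intro k l h
    exact Subtype.ext (torus_eq_of_wt k.2.1 (maps_of_mem_G1 (pow_q hK) k.2.2) l.2.1
      (maps_of_mem_G1 (pow_q hK) l.2.2) (congrArg Units.val h))
  · intro c
    obtain ⟨k, hk, hkG, e⟩ := exists_torus hK c.ne_zero
    exact ⟨⟨k, hk, hkG⟩, Units.ext e⟩

/-- H¹ is the multiplicative group. -/
noncomputable def torusEquiv : ↥(H1 F m) ≃* Fˣ :=
  MulEquiv.ofBijective torusHom (torusHom_bijective hK)

theorem card_H1 : Nat.card ↥(H1 F m) = 3 ^ (2 * m + 1) - 1 := by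
  rw [Nat.card_congr (torusEquiv hK).toEquiv, Nat.card_units, Nat.card_eq_fintype_card, hK]

theorem isCyclic_H1 : IsCyclic ↥(H1 F m) :=
  isCyclic_of_surjective (torusEquiv hK).symm (torusEquiv hK).symm.surjective

theorem exists_of_mem_B1 {g : GL chevG2.Idx F} (hg : g ∈ chevG2.borelSubgroup F ⊓ G1 F m) :
    ∃ u ∈ U1 F m, ∃ k ∈ H1 F m, g = u * k := by
  obtain ⟨t, u, v, k, hk, e⟩ := exists_of_mem_borel hK hg.1 hg.2
  exact ⟨_, uW_mem_U1 m t u v, k, hk, e⟩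

theorem exists_of_not_mem_B1 {g : GL chevG2.Idx F} (hg : g ∈ G1 F m)
    (hB : g ∉ chevG2.borelSubgroup F) :
    ∃ u ∈ U1 F m, ∃ k ∈ H1 F m, ∃ w ∈ U1 F m, g = u * k * n0 F * w := by
  obtain ⟨t, u, v, k, hk, t', u', v', e⟩ := exists_of_not_mem_borel hK hB hg
  exact ⟨_, uW_mem_U1 m t u v, k, hk, _, uW_mem_U1 m t' u' v', e⟩

theorem card_G1 : Nat.card ↥(G1 F m) =
    (3 ^ (2 * m + 1)) ^ 3 * (3 ^ (2 * m + 1) - 1) * ((3 ^ (2 * m + 1)) ^ 3 + 1) := by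
  let f : (↥(U1 F m) × ↥(H1 F m)) ⊕ (↥(U1 F m) × ↥(H1 F m) × ↥(U1 F m)) → ↥(G1 F m) :=
    Sum.elim (fun p => ⟨p.1.1 * p.2.1, Subgroup.mul_mem _ p.1.2.2 p.2.2.2⟩)
      (fun p => ⟨p.1.1 * p.2.1.1 * n0 F * p.2.2.1, Subgroup.mul_mem _
        (Subgroup.mul_mem _ (Subgroup.mul_mem _ p.1.2.2 p.2.1.2.2) (n0_mem_G1 m)) p.2.2.2.2⟩)
  have hf : Function.Bijective f := by
    constructor
    · rintro (⟨u, k⟩ | ⟨u, k, w⟩) (⟨u', k'⟩ | ⟨u', k', w'⟩) h <;>
        have h' := congrArg Subtype.val h <;> simp only [f, Sum.elim_inl, Sum.elim_inr] at h'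
      · obtain ⟨h1, h2⟩ := borel_unique u.2.1 u'.2.1 k.2.1 k'.2.1 h'
        rw [Subtype.ext h1, Subtype.ext h2]
      · exact absurd (h' ▸ Subgroup.mul_mem _ (U1_le_borel u.2) (H1_le_borel k.2))
          (cell_not_borel (U1_le_borel u'.2) (H1_le_borel k'.2) (U1_le_borel w'.2))
      · exact absurd (h'.symm ▸ Subgroup.mul_mem _ (U1_le_borel u'.2) (H1_le_borel k'.2))
          (cell_not_borel (U1_le_borel u.2) (H1_le_borel k.2) (U1_le_borel w.2))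
      · obtain ⟨h1, h2, h3⟩ := cell_unique u.2.1 u'.2.1 k.2.1 k'.2.1 w.2.1 w'.2.1 h'
        rw [Subtype.ext h1, Subtype.ext h2, Subtype.ext h3]
    · rintro ⟨g, hg⟩
      by_cases hB : g ∈ chevG2.borelSubgroup F
      · obtain ⟨u, hu, k, hk, rfl⟩ := exists_of_mem_B1 hK ⟨hB, hg⟩
        exact ⟨Sum.inl (⟨u, hu⟩, ⟨k, hk⟩), rfl⟩
      · obtain ⟨u, hu, k, hk, w, hw, rfl⟩ := exists_of_not_mem_B1 hK hg hB
        exact ⟨Sum.inr (⟨u, hu⟩, ⟨k, hk⟩, ⟨w, hw⟩), rfl⟩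
  rw [← Nat.card_congr (Equiv.ofBijective f hf), Nat.card_sum, Nat.card_prod, Nat.card_prod,
    Nat.card_prod, card_U1 hK, card_H1 hK]
  ring

theorem mem_N1_iff {g : GL chevG2.Idx F} : g ∈ chevG2.monomialSubgroup F ⊓ G1 F m ↔
    g ∈ H1 F m ∨ ∃ k ∈ H1 F m, g = k * n0 F := by
  constructor
  · rintro ⟨hN, hg⟩
    have hN' : g ∈ (dat F).N := data_N (F := F) good ▸ hN
    by_cases hB : g ∈ chevG2.borelSubgroup F
    · left
      have h : g ∈ (dat F).H :=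
        (RootBN.Data.N_inf_B ax).le ⟨hN', (data_B (F := F) good facts).symm ▸ hB⟩
      exact ⟨h, hg⟩
    · right
      obtain ⟨u, hu, k, hk, w, hw, e⟩ := exists_of_not_mem_B1 hK hg hB
      obtain ⟨l, hl⟩ := RootBN.Data.exists_acts ax hN'
      obtain ⟨l', hl'⟩ := RootBN.Data.exists_acts ax (n0_mem_N (F := F))
      have hB' : ∀ {x : GL chevG2.Idx F}, x ∈ chevG2.borelSubgroup F → x ∈ (dat F).B :=
        fun hx => (data_B (F := F) good facts).symm ▸ hx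
      have hc : g ∈ (dat F).cell ((dat F).wl l') :=
        ⟨n0 F, n0_mem_N, hl', u * k,
          hB' (Subgroup.mul_mem _ (U1_le_borel hu) (H1_le_borel hk)), w, hB' (U1_le_borel hw), e⟩
      have hw0 := RootBN.Data.cell_disjoint ax (RootBN.Data.mem_cell_of hN' hl) hc
      have hH : g * (n0 F)⁻¹ ∈ (dat F).H :=
        RootBN.Data.mul_inv_mem_H ax hN' n0_mem_N (hw0 ▸ hl) hl'
      exact ⟨_, ⟨hH, Subgroup.mul_mem _ hg (Subgroup.inv_mem _ (n0_mem_G1 m))⟩,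
        (inv_mul_cancel_right g (n0 F)).symm⟩
  · rintro (h | ⟨k, hk, rfl⟩)
    · exact ⟨Subgroup.mem_sup_left h.1, h.2⟩
    · exact ⟨Subgroup.mul_mem _ (Subgroup.mem_sup_left hk.1) n0_mem_monomial,
        Subgroup.mul_mem _ hk.2 (n0_mem_G1 m)⟩

omit hK [CharP F 3] [Fintype F] in
theorem n0_not_borel : n0 F ∉ chevG2.borelSubgroup F := fun h =>
  cell_not_borel (Subgroup.one_mem _) (Subgroup.one_mem _) (Subgroup.one_mem _) (by simpa using h)

theorem torus_conj_uW {k : GL chevG2.Idx F} (hk : k ∈ H1 F m) (t u v : F) :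
    k * uW m t u v * k⁻¹ =
      uW m (wt k * t) (wt k ^ (3 ^ (m + 1) + 1) * u) (wt k ^ (3 ^ (m + 1) + 2) * v) := by
  have hkm := maps_of_mem_G1 (pow_q hK) hk.2
  have e : k * uW m t u v * k⁻¹ = uOf (chi (wt k) (wt7 k) 7 * t ^ 3 ^ m) (chi (wt k) (wt7 k) 6 * t)
      (chi (wt k) (wt7 k) 8 * (t ^ (3 ^ m + 1) + u ^ 3 ^ m))
      (chi (wt k) (wt7 k) 9 * (t ^ (2 * 3 ^ m + 1) + v ^ 3 ^ m))
      (chi (wt k) (wt7 k) 10 * u) (chi (wt k) (wt7 k) 11 * v) := by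
    simp only [uW, uOf, tail, ← conj_mul, torus_conj_xe hk.1 (r := 7) (by decide),
      torus_conj_xe hk.1 (r := 6) (by decide), torus_conj_xe hk.1 (r := 8) (by decide),
      torus_conj_xe hk.1 (r := 9) (by decide), torus_conj_xe hk.1 (r := 10) (by decide),
      torus_conj_xe hk.1 (r := 11) (by decide)]
  obtain ⟨t', u', v', e'⟩ := exists_uW_of_maps (m := m) (g := k * uW m t u v * k⁻¹)
    (e ▸ uOf_mem_U _ _ _ _ _ _) ((hkm.mul (maps_uW (pow_q hK) t u v)).mul hkm.inv)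
  obtain ⟨-, h6, -, -, h10, h11⟩ := uOf_inj (e'.symm.trans e)
  rw [e', h6, h10, h11]
  simp only [chi, wt7_of_fixed hk.1 hkm, show cb 6 = 1 from rfl, show ca 6 = 0 from rfl,
    show cb 10 = ((1 : ℕ) : ℤ) from rfl, show ca 10 = ((3 : ℕ) : ℤ) from rfl,
    show cb 11 = ((2 : ℕ) : ℤ) from rfl, show ca 11 = ((3 : ℕ) : ℤ) from rfl, zpow_zero,
    zpow_one, zpow_natCast, ← pow_mul, ← pow_succ, mul_one]
  congr 2 <;> ring

theorem conj_U1_by_H1 {k u : GL chevG2.Idx F} (hk : k ∈ H1 F m) (hu : u ∈ U1 F m) :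
    k * u * k⁻¹ ∈ U1 F m := by
  obtain ⟨t, x, v, rfl⟩ := (mem_U1_iff hK).1 hu
  rw [torus_conj_uW hK hk]
  exact uW_mem_U1 m _ _ _

theorem core_eq_bot :
    ((chevG2.borelSubgroup F ⊓ G1 F m).subgroupOf (G1 F m)).normalCore = ⊥ := by
  rw [Subgroup.eq_bot_iff_forall]
  intro g hg
  have key : ∀ z : ↥(G1 F m), ((z * g * z⁻¹ : ↥(G1 F m)) : GL chevG2.Idx F) ∈
      chevG2.borelSubgroup F := by
    intro z
    have := Subgroup.normalCore_le _ ((Subgroup.normalCore_normal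
      ((chevG2.borelSubgroup F ⊓ G1 F m).subgroupOf (G1 F m))).conj_mem g hg z)
    exact this.1
  have hH : ∀ x : ↥(G1 F m), ((x * g * x⁻¹ : ↥(G1 F m)) : GL chevG2.Idx F) ∈
      chevG2.diagonalSubgroup F := by
    intro x
    refine mem_H_of_conj_mem (key x) ?_
    have := key (⟨n0 F, n0_mem_G1 m⟩ * x)
    simpa [mul_assoc] using this
  have hgH : (g : GL chevG2.Idx F) ∈ chevG2.diagonalSubgroup F := by simpa using hH 1
  have hgH1 : (g : GL chevG2.Idx F) ∈ H1 F m := ⟨hgH, g.2⟩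
  have h1 := hH ⟨uW m 1 0 0, uW_mem_G1 _ _ _ _⟩
  simp only [Subgroup.coe_mul, Subgroup.coe_inv] at h1
  have hU : uW m (1 : F) 0 0 ∈ U1 F m := uW_mem_U1 m _ _ _
  have h2 : uW m 1 0 0 * ((g : GL chevG2.Idx F) * (uW m 1 0 0)⁻¹ * (g : GL chevG2.Idx F)⁻¹) ∈
      chevG2.posUnipotent F ⊓ chevG2.diagonalSubgroup F := by
    refine ⟨Subgroup.mul_mem _ hU.1 (conj_U1_by_H1 hK hgH1 (Subgroup.inv_mem _ hU)).1, ?_⟩
    simpa [mul_assoc] using Subgroup.mul_mem _ h1 (Subgroup.inv_mem _ hgH)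
  rw [U_inf_H facts good, Subgroup.mem_bot] at h2
  have h3 : (g : GL chevG2.Idx F) * uW m 1 0 0 * (g : GL chevG2.Idx F)⁻¹ = uW m 1 0 0 := by
    have h4 := eq_inv_of_mul_eq_one_right h2
    have h5 := congrArg (fun x => x⁻¹) h4
    simp only [inv_inv, _root_.mul_inv_rev] at h5
    rw [← mul_assoc] at h5
    exact h5
  rw [torus_conj_uW hK hgH1] at h3
  obtain ⟨h6, -, -⟩ := uW_inj h3
  rw [mul_one] at h6
  apply Subtype.ext
  refine torus_eq_of_wt hgH (maps_of_mem_G1 (pow_q hK) g.2) (Subgroup.one_mem _) Maps.one ?_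
  rw [h6]
  simp [wt]

end Cfsg.Agent.Twisted.Ree
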