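/-
The torus acts freely on U¹; perfectness and simplicity of the small Ree groups.
-/
import Cfsg.Agent.Lib.Twisted.Ree.Structure

set_option autoImplicit false

namespace Cfsg.Agent.Twisted.Ree

open Cfsg.Lie Matrix Chev BNSetup

variable {F : Type*} [Field F] [Fintype F] [CharP F 3] {m : ℕ}
  (hK : Fintype.card F = 3 ^ (2 * m + 1))
include hK

omit [CharP F 3] in
theorem e_sq_pow (c : F) : c ^ (3 * 3 ^ m * 3 ^ m) = c := by
  rw [show 3 * 3 ^ m * 3 ^ m = 3 ^ (2 * m + 1) by ring]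
  exact pow_q hK c

omit [CharP F 3] in
theorem sq_eq_one_of_pow {c : F} (_hc : c ≠ 0) (h : c ^ (3 ^ (m + 1) + 1) = 1) : c ^ 2 = 1 := by
  have h0 : c ^ (3 * 3 ^ m + 1) = 1 := by rwa [pow_succ' 3 m] at h
  have h1 : c ^ (3 ^ m + 1) = 1 := by
    calc c ^ (3 ^ m + 1) = c ^ (3 ^ m) * c := pow_succ _ _
      _ = c ^ (3 ^ m) * c ^ (3 * 3 ^ m * 3 ^ m) := by rw [e_sq_pow hK c]
      _ = (c ^ (3 * 3 ^ m + 1)) ^ 3 ^ m := by
          rw [← pow_mul, ← pow_add]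
          congr 1
          ring
      _ = 1 := by rw [h0, one_pow]
  calc c ^ 2 = c ^ 2 * c ^ (3 * 3 ^ m + 1) := by rw [h0, mul_one]
    _ = (c ^ (3 ^ m + 1)) ^ 3 := by
        rw [← pow_mul, ← pow_add]
        congr 1
        ring
    _ = 1 := by rw [h1, one_pow]

omit [CharP F 3] in
theorem eq_one_of_pow {c : F} (_hc : c ≠ 0) (h : c ^ (3 ^ (m + 1) + 2) = 1) : c = 1 := by
  have h0 : c ^ (3 * 3 ^ m + 2) = 1 := by rwa [pow_succ' 3 m] at h
  have h1 : c ^ (6 * 3 ^ m + 3) = 1 := by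
    calc c ^ (6 * 3 ^ m + 3) = c ^ (6 * 3 ^ m) * c ^ 3 := pow_add _ _ _
      _ = c ^ (6 * 3 ^ m) * (c ^ (3 * 3 ^ m * 3 ^ m)) ^ 3 := by rw [e_sq_pow hK c]
      _ = (c ^ (3 * 3 ^ m + 2)) ^ (3 * 3 ^ m) := by
          rw [← pow_mul, ← pow_mul, ← pow_add]
          congr 1
          ring
      _ = 1 := by rw [h0, one_pow]
  calc c = c * c ^ (6 * 3 ^ m + 3) := by rw [h1, mul_one]
    _ = (c ^ (3 * 3 ^ m + 2)) ^ 2 := by
        rw [← pow_mul, ← pow_succ']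
        congr 1
        ring
    _ = 1 := by rw [h0, one_pow]

theorem fixed_uW_iff {k : GL chevG2.Idx F} (hk : k ∈ H1 F m) (t u v : F) :
    k * uW m t u v * k⁻¹ = uW m t u v ↔
      wt k * t = t ∧ wt k ^ (3 ^ (m + 1) + 1) * u = u ∧ wt k ^ (3 ^ (m + 1) + 2) * v = v := by
  rw [torus_conj_uW hK hk]
  exact ⟨uW_inj, fun ⟨h1, h2, h3⟩ => by rw [h1, h2, h3]⟩

theorem eq_one_of_fixed {k u : GL chevG2.Idx F} (hk : k ∈ H1 F m) (hc : wt k ^ 2 ≠ 1)
    (hu : u ∈ U1 F m) (h : k * u * k⁻¹ = u) : u = 1 := by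
  obtain ⟨t, x, v, rfl⟩ := (mem_U1_iff hK).1 hu
  obtain ⟨h1, h2, h3⟩ := (fixed_uW_iff hK hk t x v).1 h
  have hne := (torus_form hk.1).1
  have key : ∀ a y : F, a * y = y → a ≠ 1 → y = 0 := fun a y e ha => by
    by_contra hy
    exact ha ((mul_eq_right₀ hy).1 e)
  have ht := key _ _ h1 (fun e => hc (by rw [e, one_pow]))
  have hx := key _ _ h2 (fun e => hc (sq_eq_one_of_pow hK hne e))
  have hv := key _ _ h3 (fun e => hc (by rw [eq_one_of_pow hK hne e, one_pow]))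
  subst ht hx hv
  have he : (3 ^ m : ℕ) ≠ 0 := by positivity
  simp [uW, uOf, tail, zero_pow he, xe_zero good (r := 7) (by decide), xe_zero good (r := 6) (by decide),
    xe_zero good (r := 8) (by decide), xe_zero good (r := 9) (by decide),
    xe_zero good (r := 10) (by decide), xe_zero good (r := 11) (by decide)]

theorem exists_sq_ne_one (hm : 1 ≤ m) : ∃ k ∈ H1 F m, wt k ^ 2 ≠ 1 := by
  classical
  obtain ⟨x, hx⟩ : ∃ x : F, x ∉ ({0, 1, -1} : Finset F) := by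
    by_contra hall
    push Not at hall
    have h1 : Fintype.card F ≤ 3 :=
      (Finset.card_le_card (fun x _ => hall x) : Finset.univ.card ≤ _).trans Finset.card_le_three
    have h2 : 3 ^ 2 ≤ 3 ^ (2 * m + 1) := Nat.pow_le_pow_right (by norm_num) (by omega)
    omega
  simp only [Finset.mem_insert, Finset.mem_singleton, not_or] at hx
  obtain ⟨k, hk, hkG, e⟩ := exists_torus hK hx.1
  refine ⟨k, ⟨hk, hkG⟩, fun h => ?_⟩
  rw [e, sq, mul_self_eq_one_iff] at h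
  exact h.elim hx.2.1 hx.2.2

theorem mem_commutator_of_U1 (hm : 1 ≤ m) {u : GL chevG2.Idx F} (hu : u ∈ U1 F m) :
    (⟨u, hu.2⟩ : ↥(G1 F m)) ∈ commutator ↥(G1 F m) := by
  obtain ⟨k, hk, hc⟩ := exists_sq_ne_one hK hm
  let f : ↥(U1 F m) → ↥(U1 F m) := fun w =>
    ⟨k * w.1 * k⁻¹ * w.1⁻¹, Subgroup.mul_mem _ (conj_U1_by_H1 hK hk w.2) (Subgroup.inv_mem _ w.2)⟩
  have hf : Function.Injective f := by
    intro a b h
    have h' : k * a.1 * k⁻¹ * a.1⁻¹ = k * b.1 * k⁻¹ * b.1⁻¹ := congrArg Subtype.val h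
    have h2 : k * (b.1⁻¹ * a.1) * k⁻¹ = b.1⁻¹ * a.1 :=
      calc k * (b.1⁻¹ * a.1) * k⁻¹ = (k * b.1 * k⁻¹)⁻¹ * (k * a.1 * k⁻¹ * a.1⁻¹) * a.1 := by group
        _ = (k * b.1 * k⁻¹)⁻¹ * (k * b.1 * k⁻¹ * b.1⁻¹) * a.1 := by rw [h']
        _ = _ := by group
    have h3 := eq_one_of_fixed hK hk hc (Subgroup.mul_mem _ (Subgroup.inv_mem _ b.2) a.2) h2
    exact Subtype.ext (inv_mul_eq_one.1 h3).symm
  have hfin : Finite ↥(U1 F m) := inferInstance
  obtain ⟨w, hw⟩ := (Finite.injective_iff_surjective.1 hf) ⟨u, hu⟩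
  have e : (⟨u, hu.2⟩ : ↥(G1 F m)) = (⟨k, hk.2⟩ : ↥(G1 F m)) * ⟨w.1, w.2.2⟩ *
      (⟨k, hk.2⟩ : ↥(G1 F m))⁻¹ * (⟨w.1, w.2.2⟩ : ↥(G1 F m))⁻¹ :=
    Subtype.ext (congrArg Subtype.val hw).symm
  rw [e, commutator_def]
  exact Subgroup.commutator_mem_commutator (g₁ := (⟨k, hk.2⟩ : ↥(G1 F m)))
    (g₂ := (⟨w.1, w.2.2⟩ : ↥(G1 F m))) (Subgroup.mem_top _) (Subgroup.mem_top _)

omit hK [Fintype F] [CharP F 3] in
theorem G1_induction {P : ↥(G1 F m) → Prop} (hU : ∀ t u v, P ⟨uW m t u v, uW_mem_G1 _ _ _ _⟩)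
    (hV : ∀ t u v, P ⟨vW m t u v, vW_mem_G1 _ _ _ _⟩) (hone : P 1)
    (hmul : ∀ a b, P a → P b → P (a * b)) (hinv : ∀ a, P a → P a⁻¹) (g : ↥(G1 F m)) : P g := by
  obtain ⟨g, hg⟩ := g
  induction hg using Subgroup.closure_induction with
  | mem x hx =>
    obtain ⟨w, ⟨t, u, v, rfl | rfl⟩, hx⟩ := hx
    · obtain rfl : x = uW m t u v := Units.ext (hx.trans (coe_uW m t u v).symm)
      exact hU t u v
    · obtain rfl : x = vW m t u v := Units.ext (hx.trans (coe_vW m t u v).symm)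
      exact hV t u v
  | one => exact hone
  | mul x y hx hy ihx ihy => exact hmul ⟨x, hx⟩ ⟨y, hy⟩ ihx ihy
  | inv x hx ih => exact hinv ⟨x, hx⟩ ih

theorem commutator_eq_top (hm : 1 ≤ m) : commutator ↥(G1 F m) = ⊤ := by
  refine eq_top_iff.2 fun g _ => ?_
  refine G1_induction (P := fun g => g ∈ commutator ↥(G1 F m))
    (fun t u v => mem_commutator_of_U1 hK hm (uW_mem_U1 m t u v)) (fun t u v => ?_)
    (Subgroup.one_mem _) (fun _ _ => Subgroup.mul_mem _) (fun _ => Subgroup.inv_mem _) g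
  exact (inferInstance : (commutator ↥(G1 F m)).Normal).conj_mem _
    (mem_commutator_of_U1 hK hm (uW_mem_U1 m t u v)) ⟨n0 F, n0_mem_G1 m⟩

theorem isPGroup_U1 : IsPGroup 3 ↥(U1 F m) := by
  refine IsPGroup.of_card (n := (2 * m + 1) * 3) ?_
  rw [card_U1 hK, ← pow_mul]

theorem conj_U1_by_B1 {b u : GL chevG2.Idx F} (hb : b ∈ chevG2.borelSubgroup F ⊓ G1 F m)
    (hu : u ∈ U1 F m) : b * u * b⁻¹ ∈ U1 F m := by
  obtain ⟨w, hw, k, hk, rfl⟩ := exists_of_mem_B1 hK hb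
  rw [show w * k * u * (w * k)⁻¹ = w * (k * u * k⁻¹) * w⁻¹ by group]
  exact Subgroup.mul_mem _ (Subgroup.mul_mem _ hw (conj_U1_by_H1 hK hk hu)) (Subgroup.inv_mem _ hw)

theorem isSimpleGroup_G1 (hm : 1 ≤ m) : IsSimpleGroup ↥(G1 F m) := by
  have := Fact.mk (show Nat.Prime 3 by norm_num)
  have hne : Nontrivial ↥(G1 F m) :=
    ⟨⟨n0 F, n0_mem_G1 m⟩, 1, fun h => n0_not_borel (by
      rw [show n0 F = 1 from congrArg Subtype.val h]; exact Subgroup.one_mem _)⟩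
  refine { toNontrivial := hne, eq_bot_or_eq_top_of_normal := fun N hN => ?_ }
  refine or_iff_not_imp_left.2 fun hbot => ?_
  let B := (chevG2.borelSubgroup F ⊓ G1 F m).subgroupOf (G1 F m)
  have memB : ∀ x : ↥(G1 F m), x ∈ B ↔ (x : GL _ F) ∈ chevG2.borelSubgroup F := fun x =>
    ⟨fun h => (Subgroup.mem_inf.1 (Subgroup.mem_subgroupOf.1 h)).1,
      fun h => Subgroup.mem_subgroupOf.2 (Subgroup.mem_inf.2 ⟨h, x.2⟩)⟩
  have hNB : ¬ N ≤ B := fun h => hbot (eq_bot_iff.2 ((Subgroup.normal_le_normalCore.2 h).trans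
    (core_eq_bot hK).le))
  obtain ⟨g, hgN, hgB⟩ := SetLike.not_le_iff_exists.1 hNB
  obtain ⟨u, hu, k, hk, w, hw, e⟩ := exists_of_not_mem_B1 hK g.2 (fun h => hgB ((memB g).2 h))
  let n : ↥(G1 F m) := ⟨n0 F, n0_mem_G1 m⟩
  let w' : ↥(G1 F m) := ⟨w, hw.2⟩
  let b : ↥(G1 F m) := ⟨w * u * k, Subgroup.mul_mem _ (Subgroup.mul_mem _ hw.2 hu.2) hk.2⟩
  have hb : b ∈ B := (memB b).2 (Subgroup.mul_mem _ (Subgroup.mul_mem _ (U1_le_borel hw)
    (U1_le_borel hu)) (H1_le_borel hk))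
  have hbn : b * n ∈ N := by
    have e' : b * n = w' * g * w'⁻¹ := Subtype.ext (by simp [b, n, w', e, mul_assoc])
    rw [e']
    exact hN.conj_mem g hgN w'
  let U := (U1 F m).subgroupOf (G1 F m)
  have hconj : ∀ x ∈ B, ∀ y ∈ U, x * y * x⁻¹ ∈ U := fun x hx y hy =>
    Subgroup.mem_subgroupOf.2 (conj_U1_by_B1 hK (Subgroup.mem_subgroupOf.1 hx)
      (Subgroup.mem_subgroupOf.1 hy))
  have hsup : N ⊔ U = ⊤ := by
    refine eq_top_iff.2 fun x _ => ?_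
    have hU : ∀ t u v, (⟨uW m t u v, uW_mem_G1 _ _ _ _⟩ : ↥(G1 F m)) ∈ U := fun t u v =>
      Subgroup.mem_subgroupOf.2 (uW_mem_U1 m t u v)
    refine G1_induction (P := fun g => g ∈ N ⊔ U) (fun t u v => Subgroup.mem_sup_right (hU t u v))
      (fun t u v => ?_) (Subgroup.one_mem _) (fun _ _ => Subgroup.mul_mem _)
      (fun _ => Subgroup.inv_mem _) x
    let y : ↥(G1 F m) := ⟨uW m t u v, uW_mem_G1 _ _ _ _⟩
    have ey : (⟨vW m t u v, vW_mem_G1 _ _ _ _⟩ : ↥(G1 F m)) =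
        (b⁻¹ * (b * n) * b) * (b⁻¹ * y * b) * (b⁻¹ * (b * n) * b)⁻¹ :=
      Subtype.ext (by simp [b, n, y, vW, mul_assoc])
    rw [ey]
    have hz : b⁻¹ * (b * n) * b ∈ N := by simpa using hN.conj_mem _ hbn b⁻¹
    have hy : b⁻¹ * y * b ∈ U := by simpa using hconj b⁻¹ (Subgroup.inv_mem _ hb) y (hU t u v)
    exact Subgroup.mul_mem _ (Subgroup.mul_mem _ (Subgroup.mem_sup_left hz)
      (Subgroup.mem_sup_right hy)) (Subgroup.inv_mem _ (Subgroup.mem_sup_left hz))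
  have hrange : (U.map (QuotientGroup.mk' N)) = ⊤ := by
    have h1 : (N ⊔ U).map (QuotientGroup.mk' N) = ⊤ := by
      rw [hsup]
      exact Subgroup.map_top_of_surjective _ (QuotientGroup.mk'_surjective N)
    rwa [Subgroup.map_sup, QuotientGroup.map_mk'_self, bot_sup_eq] at h1
  have hp : IsPGroup 3 ↥U :=
    (isPGroup_U1 hK).of_equiv (Subgroup.subgroupOfEquivOfLe inf_le_right).symm
  have hpQ : IsPGroup 3 (↥(G1 F m) ⧸ N) := by
    have := hp.map (QuotientGroup.mk' N)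
    rw [hrange] at this
    exact this.of_equiv Subgroup.topEquiv
  have hnil := hpQ.isNilpotent
  by_contra htop
  have hnt : Nontrivial (↥(G1 F m) ⧸ N) := QuotientGroup.nontrivial_iff.2 htop
  have hlt := Group.IsSolvable.commutator_lt_top_of_nontrivial (G := ↥(G1 F m) ⧸ N)
  refine hlt.ne ?_
  have := congrArg (fun S => Subgroup.map (QuotientGroup.mk' N) S) (commutator_eq_top hK hm)
  simp only [commutator_def, Subgroup.map_commutator,
    Subgroup.map_top_of_surjective _ (QuotientGroup.mk'_surjective N)] at this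
  rw [commutator_def]
  exact this

end Cfsg.Agent.Twisted.Ree
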