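/-
Three commuting involutions of the small Ree groups as words, and the 2-part of the order.
-/
import Cfsg.Agent.Lib.Twisted.Ree.Structure
import Cfsg.Agent.Lib.Twisted.Entries

set_option autoImplicit false

namespace Cfsg.Agent.Twisted.Ree

open Cfsg.Lie Matrix Chev BNSetup

variable {F : Type*} [Field F]

/-- The word of `uW` with parameters in the prime field. -/
def uZ (t u v : ℤ) : List (ℕ × ℤ) :=
  [(7, t), (6, t), (8, t * t + u), (9, t * t * t + v), (10, u), (11, v)]

/-- An involution commuting with `n₀`. -/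
def aWord : List (ℕ × ℤ) := uZ 0 1 0 ++ n0Word ++ uZ 0 (-1) 0

/-- Another one. -/
def bWord : List (ℕ × ℤ) := uZ 0 0 1 ++ n0Word ++ uZ 0 1 (-1) ++ n0Word ++ uZ 1 0 (-1)

/-- A word without its trivial letters. -/
def dropZ (w : List (ℕ × ℤ)) : List (ℕ × ℤ) := w.filter fun p => p.2 != 0

theorem wordMat_dropZ (w : List (ℕ × ℤ)) (hw : ∀ p ∈ w, p.1 < 12) :
    chevG2.wordMat F ((dropZ w).map fun p => (p.1, (p.2 : F))) =
      chevG2.wordMat F (w.map fun p => (p.1, (p.2 : F))) := by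
  induction w with
  | nil => rfl
  | cons p w ih =>
    have ih' := ih fun q hq => hw q (List.mem_cons_of_mem _ hq)
    obtain ⟨r, t⟩ := p
    by_cases ht : t = 0
    · subst ht
      have h0 : chevG2.x F r (0 : F) = 1 := by
        rw [← coe_xe good, xe_zero good (hw (r, 0) List.mem_cons_self), Units.val_one]
      simp only [dropZ, ChevalleyDatum.wordMat, List.map_map] at ih' ⊢
      simp [h0, ih']
    · simp only [dropZ, ChevalleyDatum.wordMat, List.map_map] at ih' ⊢
      simp [ht, ih']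

theorem lt_of_mem_dropZ {w : List (ℕ × ℤ)} (hw : ∀ p ∈ w, p.1 < 12) :
    ∀ p ∈ dropZ w, p.1 < 12 := fun p hp => hw p (List.mem_of_mem_filter hp)

/-- Two integer words agree modulo 3. -/
def eqW (w w' : List (ℕ × ℤ)) : Bool :=
  (List.range 14).all fun j =>
    let v := applyW chevG2 (dropZ w) (unitZ chevG2 j)
    let v' := applyW chevG2 (dropZ w') (unitZ chevG2 j)
    (List.range 14).all fun i => (v.getD i 0 - v'.getD i 0) % 3 == 0

theorem wordMat_eq_of_eqW [CharP F 3] {w w' : List (ℕ × ℤ)} (h : eqW w w' = true)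
    (hw : ∀ p ∈ w, p.1 < 12) (hw' : ∀ p ∈ w', p.1 < 12) :
    chevG2.wordMat F (w.map fun p => (p.1, (p.2 : F))) =
      chevG2.wordMat F (w'.map fun p => (p.1, (p.2 : F))) := by
  rw [← wordMat_dropZ w hw, ← wordMat_dropZ w' hw']
  ext a b
  rw [wordMat_apply (D := chevG2) _ (lt_of_mem_dropZ hw),
    wordMat_apply (D := chevG2) _ (lt_of_mem_dropZ hw')]
  simp only [eqW, List.all_eq_true, List.mem_range, beq_iff_eq] at h
  rw [← sub_eq_zero, ← Int.cast_sub, CharP.intCast_eq_zero_iff F 3]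
  exact Int.dvd_of_emod_eq_zero (h _ (idxNat_lt b) _ (idxNat_lt a))

/-- Some entry of an integer word is not that of the identity, modulo 3. -/
def neOne (w : List (ℕ × ℤ)) : Bool :=
  (List.range 14).any fun j =>
    let v := applyW chevG2 (dropZ w) (unitZ chevG2 j)
    (List.range 14).any fun i => !((v.getD i 0 - (if i = j then 1 else 0)) % 3 == 0)

theorem wordMat_ne_one [CharP F 3] {w : List (ℕ × ℤ)} (h : neOne w = true)
    (hw : ∀ p ∈ w, p.1 < 12) : chevG2.wordMat F (w.map fun p => (p.1, (p.2 : F))) ≠ 1 := by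
  intro e
  simp only [neOne, List.any_eq_true, List.mem_range, Bool.not_eq_true', beq_eq_false_iff_ne] at h
  obtain ⟨j, hj, i, hi, hij⟩ := h
  obtain ⟨b, rfl⟩ := exists_idxNat (D := chevG2) hj
  obtain ⟨a, rfl⟩ := exists_idxNat (D := chevG2) hi
  apply hij
  have h1 := congrFun (congrFun e a) b
  rw [← wordMat_dropZ w hw, wordMat_apply (D := chevG2) _ (lt_of_mem_dropZ hw),
    Matrix.one_apply] at h1
  refine Int.emod_eq_zero_of_dvd ((CharP.intCast_eq_zero_iff F 3 _).1 ?_)
  push_cast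
  rw [h1]
  simp only [idxNat_injective.eq_iff]
  split_ifs <;> simp

theorem checks :
    eqW (n0Word ++ n0Word) [] = true ∧ eqW (aWord ++ aWord) [] = true ∧
      eqW (bWord ++ bWord) [] = true ∧ eqW (n0Word ++ aWord) (aWord ++ n0Word) = true ∧
      eqW (n0Word ++ bWord) (bWord ++ n0Word) = true ∧
      eqW (aWord ++ bWord) (bWord ++ aWord) = true ∧
      neOne n0Word = true ∧ neOne aWord = true ∧ neOne bWord = true ∧
      neOne (n0Word ++ aWord) = true ∧ neOne (n0Word ++ bWord) = true ∧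
      neOne (aWord ++ bWord) = true ∧ neOne (n0Word ++ aWord ++ bWord) = true := by
  decide +kernel

theorem uW_intCast (m : ℕ) {t u v : ℤ} (ht : (t : F) ^ 3 ^ m = t) (hu : (u : F) ^ 3 ^ m = u)
    (hv : (v : F) ^ 3 ^ m = v) :
    ((uW m (t : F) u v : GL chevG2.Idx F) : Matrix chevG2.Idx chevG2.Idx F) =
      chevG2.wordMat F ((uZ t u v).map fun p => (p.1, (p.2 : F))) := by
  have h1 : (t : F) ^ (3 ^ m + 1) = t * t := by rw [pow_succ, ht]
  have h2 : (t : F) ^ (2 * 3 ^ m + 1) = t * t * t := by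
    rw [pow_succ, mul_comm 2, pow_mul, ht]; ring
  simp [coe_uW, uZ, reeWordU, g2a, g2b, g2ab, g2aab, g2aaab, g2aaabb, ht, hu, hv, h1, h2]

theorem wordMat_append (D : ChevalleyDatum) (w w' : List (ℕ × F)) :
    D.wordMat F (w ++ w') = D.wordMat F w * D.wordMat F w' := by
  simp [ChevalleyDatum.wordMat]

variable [Fintype F] {m : ℕ}

theorem card_eq_eight_mul_odd (hK : Fintype.card F = 3 ^ (2 * m + 1)) [CharP F 3] :
    (Nat.card ↥(G1 F m)).factorization 2 = 3 := by
  rw [card_G1 hK]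
  have hq : 3 ^ (2 * m + 1) % 8 = 3 := by
    rw [pow_succ, pow_mul, Nat.mul_mod, Nat.pow_mod]; norm_num
  set q := 3 ^ (2 * m + 1) with hqdef
  obtain ⟨c, hc⟩ : ∃ c, q = 8 * c + 3 := ⟨q / 8, by omega⟩
  have h1 : q - 1 = 2 * (4 * c + 1) := by omega
  have h2 : q ^ 3 + 1 = 4 * (128 * c ^ 3 + 144 * c ^ 2 + 54 * c + 7) := by rw [hc]; ring
  have hodd : Odd (q ^ 3) := by rw [hc]; exact (Nat.odd_iff.2 (by omega)).pow
  rw [h1, h2, show q ^ 3 * (2 * (4 * c + 1)) * (4 * (128 * c ^ 3 + 144 * c ^ 2 + 54 * c + 7)) =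
    2 ^ 3 * (q ^ 3 * (4 * c + 1) * (128 * c ^ 3 + 144 * c ^ 2 + 54 * c + 7)) by ring]
  rw [Nat.factorization_mul (by norm_num) (by positivity), Finsupp.add_apply,
    Nat.Prime.factorization_pow Nat.prime_two, Finsupp.single_eq_same,
    Nat.factorization_eq_zero_of_not_dvd]
  rw [← even_iff_two_dvd, Nat.not_even_iff_odd]
  refine (hodd.mul (by simp [parity_simps])).mul (by simp [parity_simps])

end Cfsg.Agent.Twisted.Ree
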