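/-
The Sylow 2-subgroups of the small Ree groups are elementary abelian of order 8.
-/
import Cfsg.Agent.Lib.Twisted.Ree.InvWords

set_option autoImplicit false

namespace Cfsg.Agent.Twisted.Ree

open Cfsg.Lie Matrix Chev

/-- Three commuting independent involutions generate a subgroup of order 8. -/
theorem exists_elementary_eight {G : Type*} [Group G] {n a b : G} (n2 : n * n = 1)
    (a2 : a * a = 1) (b2 : b * b = 1) (hna : n * a = a * n) (hnb : n * b = b * n)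
    (hab : a * b = b * a) (h1 : n ≠ 1) (h2 : a ≠ 1) (h3 : b ≠ 1) (h4 : n * a ≠ 1)
    (h5 : n * b ≠ 1) (h6 : a * b ≠ 1) (h7 : n * a * b ≠ 1) :
    ∃ E : Subgroup G, IsMulCommutative ↥E ∧ IsPGroup 2 ↥E ∧ Nat.card ↥E = 8 := by
  let c : G → Bool → G := fun g i => if i then g else 1
  have hc : ∀ g : G, g * g = 1 → ∀ i j, c g i * c g j = c g (xor i j) := by
    intro g hg i j; cases i <;> cases j <;> simp [c, hg]
  have hcc : ∀ g g' : G, g * g' = g' * g → ∀ i j, Commute (c g i) (c g' j) := by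
    intro g g' hg i j; cases i <;> cases j <;> simp [c, commute_iff_eq, hg]
  let f : Bool × Bool × Bool → G := fun x => c n x.1 * c a x.2.1 * c b x.2.2
  let op : Bool × Bool × Bool → Bool × Bool × Bool → Bool × Bool × Bool := fun x y =>
    (xor x.1 y.1, xor x.2.1 y.2.1, xor x.2.2 y.2.2)
  have hf : ∀ x y, f x * f y = f (op x y) := by
    intro x y
    simp only [f, op, ← hc n n2, ← hc a a2, ← hc b b2]
    calc c n x.1 * c a x.2.1 * c b x.2.2 * (c n y.1 * c a y.2.1 * c b y.2.2)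
        = c n x.1 * c a x.2.1 * (c b x.2.2 * c n y.1) * c a y.2.1 * c b y.2.2 := by group
      _ = c n x.1 * (c a x.2.1 * c n y.1) * (c b x.2.2 * c a y.2.1) * c b y.2.2 := by
          rw [(hcc n b hnb y.1 x.2.2).eq.symm]; group
      _ = _ := by
          rw [(hcc n a hna y.1 x.2.1).eq.symm, (hcc a b hab y.2.1 x.2.2).eq.symm]; group
  have hone : f (false, false, false) = 1 := by simp [f, c]
  have hinj : Function.Injective f := by
    intro x y e
    have h : f (op x y) = 1 := by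
      rw [← hf, e, hf]
      simp [op, hone]
    obtain ⟨i, j, k⟩ := x
    obtain ⟨i', j', k'⟩ := y
    cases i <;> cases j <;> cases k <;> cases i' <;> cases j' <;> cases k' <;>
      first
      | rfl
      | exact absurd h (by simp [f, op, c, h1, h2, h3, h4, h5, h6, h7])
  have hop : ∀ x y, op x y = op y x := fun x y => by simp [op, Bool.xor_comm]
  have hself : ∀ x, op x x = (false, false, false) := fun x => by simp [op]
  let E : Subgroup G :=
    { carrier := Set.range f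
      one_mem' := ⟨_, hone⟩
      mul_mem' := by rintro _ _ ⟨x, rfl⟩ ⟨y, rfl⟩; exact ⟨_, (hf x y).symm⟩
      inv_mem' := by
        rintro _ ⟨x, rfl⟩
        exact ⟨x, (inv_eq_of_mul_eq_one_right (by rw [hf, hself, hone])).symm⟩ }
  refine ⟨E, ⟨⟨?_⟩⟩, ?_, ?_⟩
  · rintro ⟨_, x, rfl⟩ ⟨_, y, rfl⟩
    exact Subtype.ext (by show f x * f y = f y * f x; rw [hf, hf, hop])
  · rintro ⟨_, x, rfl⟩
    exact ⟨1, Subtype.ext (by show f x ^ 2 ^ 1 = 1; rw [pow_one, sq, hf, hself, hone])⟩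
  · show Nat.card ↥(Set.range f) = 8
    rw [Nat.card_range_of_injective hinj]; simp

/-- The Sylow 2-subgroups of the small Ree group are abelian. -/
theorem isMulCommutative_sylow_two {F : Type*} [Field F] [Fintype F] {m : ℕ} (hK : Fintype.card F = 3 ^ (2 * m + 1))
    (T : Sylow 2 ↥(G1 F m)) : IsMulCommutative ↥(T : Subgroup ↥(G1 F m)) := by
  classical
  haveI := charP_three hK
  haveI : Fact (Nat.Prime 2) := ⟨Nat.prime_two⟩
  have hp : ∀ z : ℤ, (z = 0 ∨ z = 1 ∨ z = -1) → (z : F) ^ 3 ^ m = z := by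
    rintro z (rfl | rfl | rfl)
    · simp
    · simp
    · push_cast; exact (Odd.pow (by decide : Odd 3)).neg_one_pow
  obtain ⟨c1, c2, c3, c4, c5, c6, c7, c8, c9, c10, c11, c12, c13⟩ := checks
  let cw : List (ℕ × ℤ) → Matrix chevG2.Idx chevG2.Idx F := fun w =>
    chevG2.wordMat F (w.map fun p => (p.1, (p.2 : F)))
  have happ : ∀ w w', cw (w ++ w') = cw w * cw w' := fun w w' => by
    simp [cw, List.map_append, wordMat_append]
  let n : ↥(G1 F m) := ⟨n0 F, n0_mem_G1 m⟩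
  have hu : ∀ t u v : F, uW m t u v ∈ G1 F m := uW_mem_G1 m
  let a : ↥(G1 F m) := ⟨_, hu ((0 : ℤ) : F) (1 : ℤ) (0 : ℤ)⟩ * n *
    ⟨_, hu ((0 : ℤ) : F) (-1 : ℤ) (0 : ℤ)⟩
  let b : ↥(G1 F m) := ⟨_, hu ((0 : ℤ) : F) (0 : ℤ) (1 : ℤ)⟩ * n *
    ⟨_, hu ((0 : ℤ) : F) (1 : ℤ) (-1 : ℤ)⟩ * n * ⟨_, hu ((1 : ℤ) : F) (0 : ℤ) (-1 : ℤ)⟩
  let M : ↥(G1 F m) → Matrix chevG2.Idx chevG2.Idx F :=
    fun g => ((g : GL chevG2.Idx F) : Matrix chevG2.Idx chevG2.Idx F)
  have hM : Function.Injective M := fun g g' e => Subtype.ext (Units.ext e)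
  have hMm : ∀ g g', M (g * g') = M g * M g' := fun g g' => rfl
  have hn : M n = cw n0Word := coe_n0_word
  have ha : M a = cw aWord := by
    simp only [a, aWord, happ, hMm, hn]
    simp only [M, cw, uW_intCast m (hp 0 (Or.inl rfl)) (hp 1 (Or.inr (Or.inl rfl))) (hp 0 (Or.inl rfl)),
      uW_intCast m (hp 0 (Or.inl rfl)) (hp (-1) (Or.inr (Or.inr rfl))) (hp 0 (Or.inl rfl))]
  have hb : M b = cw bWord := by
    simp only [b, bWord, happ, hMm, hn]
    simp only [M, cw, uW_intCast m (hp 0 (Or.inl rfl)) (hp 0 (Or.inl rfl)) (hp 1 (Or.inr (Or.inl rfl))),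
      uW_intCast m (hp 0 (Or.inl rfl)) (hp 1 (Or.inr (Or.inl rfl))) (hp (-1) (Or.inr (Or.inr rfl))),
      uW_intCast m (hp 1 (Or.inr (Or.inl rfl))) (hp 0 (Or.inl rfl)) (hp (-1) (Or.inr (Or.inr rfl)))]
  have hlt : ∀ w ∈ [n0Word, aWord, bWord], ∀ p ∈ w, p.1 < 12 := by decide +kernel
  have hnl := hlt n0Word (by simp)
  have hal := hlt aWord (by simp)
  have hbl := hlt bWord (by simp)
  have hapl : ∀ {w w' : List (ℕ × ℤ)}, (∀ p ∈ w, p.1 < 12) → (∀ p ∈ w', p.1 < 12) →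
      ∀ p ∈ w ++ w', p.1 < 12 := fun h h' p hp => (List.mem_append.1 hp).elim (h p) (h' p)
  have hone : cw [] = 1 := by simp [cw, ChevalleyDatum.wordMat]
  have sq : ∀ {g : ↥(G1 F m)} {w}, M g = cw w → eqW (w ++ w) [] = true → (∀ p ∈ w, p.1 < 12) →
      g * g = 1 := fun {g w} hg h hw => hM (by
    rw [hMm, hg, ← happ]
    exact (wordMat_eq_of_eqW h (hapl hw hw) (by simp)).trans hone)
  have comm : ∀ {g g' : ↥(G1 F m)} {w w'}, M g = cw w → M g' = cw w' →
      eqW (w ++ w') (w' ++ w) = true → (∀ p ∈ w, p.1 < 12) → (∀ p ∈ w', p.1 < 12) →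
      g * g' = g' * g := fun {g g' w w'} hg hg' h hw hw' => hM (by
    rw [hMm, hMm, hg, hg', ← happ, ← happ]
    exact wordMat_eq_of_eqW h (hapl hw hw') (hapl hw' hw))
  have ne1 : ∀ {g : ↥(G1 F m)} {w}, M g = cw w → neOne w = true → (∀ p ∈ w, p.1 < 12) → g ≠ 1 :=
    fun {g w} hg h hw e => wordMat_ne_one (F := F) h hw (by
      rw [show chevG2.wordMat F _ = M g from hg.symm, e]; rfl)
  have n2 := sq hn c1 hnl
  have a2 := sq ha c2 hal
  have b2 := sq hb c3 hbl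
  have hna := comm hn ha c4 hnl hal
  have hnb := comm hn hb c5 hnl hbl
  have hab := comm ha hb c6 hal hbl
  have n1 := ne1 hn c7 hnl
  have a1 := ne1 ha c8 hal
  have b1 := ne1 hb c9 hbl
  have na1 := ne1 (g := n * a) (by rw [hMm, hn, ha, ← happ]) c10 (hapl hnl hal)
  have nb1 := ne1 (g := n * b) (by rw [hMm, hn, hb, ← happ]) c11 (hapl hnl hbl)
  have ab1 := ne1 (g := a * b) (by rw [hMm, ha, hb, ← happ]) c12 (hapl hal hbl)
  have nab1 := ne1 (g := n * a * b) (by rw [hMm, hMm, hn, ha, hb, ← happ, ← happ]) c13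
    (hapl (hapl hnl hal) hbl)
  obtain ⟨E, hEc, hEp, hE8⟩ :=
    exists_elementary_eight n2 a2 b2 hna hnb hab n1 a1 b1 na1 nb1 ab1 nab1
  obtain ⟨S, hS⟩ := hEp.exists_le_sylow
  have hScard : Nat.card ↥(S : Subgroup ↥(G1 F m)) = 8 := by
    rw [S.card_eq_multiplicity, card_eq_eight_mul_odd hK]; norm_num
  have hEcard : 8 ≤ Nat.card ↥E := hE8.ge
  have hSE : (S : Subgroup ↥(G1 F m)) = E :=
    (Subgroup.eq_of_le_of_card_ge hS (by rw [hScard]; exact hEcard)).symm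
  haveI : IsMulCommutative ↥(S : Subgroup ↥(G1 F m)) := hSE ▸ hEc
  obtain ⟨g, rfl⟩ := MulAction.exists_smul_eq ↥(G1 F m) S T
  refine ⟨⟨fun x y => ?_⟩⟩
  obtain ⟨x', hx'⟩ := (S.equivSMul g).surjective x
  obtain ⟨y', hy'⟩ := (S.equivSMul g).surjective y
  rw [← hx', ← hy', ← map_mul, ← map_mul, mul_comm']

end Cfsg.Agent.Twisted.Ree
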