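/-
The action of the small Ree group on the cosets of B¹: point stabilisers and two- and three-point
stabilisers.
-/
import Cfsg.Agent.Lib.Twisted.Ree.Simple

set_option autoImplicit false

namespace Cfsg.Agent.Twisted.Ree

open Cfsg.Lie Matrix Chev BNSetup

variable {F : Type*} [Field F] {m : ℕ}

/-- B¹ inside the small Ree group. -/
abbrev B1 (F : Type*) [Field F] (m : ℕ) : Subgroup ↥(G1 F m) :=
  (chevG2.borelSubgroup F ⊓ G1 F m).subgroupOf (G1 F m)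

theorem mem_B1 {x : ↥(G1 F m)} : x ∈ B1 F m ↔ (x : GL chevG2.Idx F) ∈ chevG2.borelSubgroup F :=
  ⟨fun h => (Subgroup.mem_inf.1 (Subgroup.mem_subgroupOf.1 h)).1,
    fun h => Subgroup.mem_subgroupOf.2 (Subgroup.mem_inf.2 ⟨h, x.2⟩)⟩

/-- n₀ in the small Ree group. -/
def nG (F : Type*) [Field F] (m : ℕ) : ↥(G1 F m) := ⟨n0 F, n0_mem_G1 m⟩

theorem mem_stab_coset (g a : ↥(G1 F m)) :
    g ∈ MulAction.stabilizer ↥(G1 F m) (a : ↥(G1 F m) ⧸ B1 F m) ↔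
      ((a⁻¹ * g * a : ↥(G1 F m)) : GL chevG2.Idx F) ∈ chevG2.borelSubgroup F := by
  rw [MulAction.mem_stabilizer_iff, MulAction.Quotient.smul_coe, eq_comm, QuotientGroup.eq, mem_B1,
    smul_eq_mul, mul_assoc]

theorem three_stab {u : GL chevG2.Idx F} (hu : u ∈ U1 F m) (g : ↥(G1 F m)) :
    g ∈ MulAction.stabilizer ↥(G1 F m) ((1 : ↥(G1 F m)) : ↥(G1 F m) ⧸ B1 F m) ⊓
        MulAction.stabilizer ↥(G1 F m) (nG F m : ↥(G1 F m) ⧸ B1 F m) ⊓
        MulAction.stabilizer ↥(G1 F m)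
          (((⟨u, hu.2⟩ : ↥(G1 F m)) * nG F m : ↥(G1 F m)) : ↥(G1 F m) ⧸ B1 F m) ↔
      (g : GL chevG2.Idx F) ∈ H1 F m ∧ (g : GL chevG2.Idx F) * u * (g : GL chevG2.Idx F)⁻¹ = u := by
  simp only [Subgroup.mem_inf, mem_stab_coset, inv_one, one_mul, mul_one, Subgroup.coe_mul,
    Subgroup.coe_inv, nG]
  constructor
  · rintro ⟨⟨h1, h2⟩, h3⟩
    have hgH : (g : GL chevG2.Idx F) ∈ chevG2.diagonalSubgroup F :=
      mem_H_of_conj_mem h1 (by simpa [n0_inv, mul_assoc] using h2)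
    refine ⟨⟨hgH, g.2⟩, ?_⟩
    have h5 : u⁻¹ * (g : GL chevG2.Idx F) * u ∈ chevG2.diagonalSubgroup F := by
      refine mem_H_of_conj_mem (Subgroup.mul_mem _ (Subgroup.mul_mem _
        (Subgroup.inv_mem _ (U1_le_borel hu)) h1) (U1_le_borel hu)) ?_
      simpa [n0_inv, mul_assoc] using h3
    have h6 : u⁻¹ * ((g : GL chevG2.Idx F) * u * (g : GL chevG2.Idx F)⁻¹) ∈
        chevG2.posUnipotent F ⊓ chevG2.diagonalSubgroup F := by
      refine ⟨Subgroup.mul_mem _ (Subgroup.inv_mem _ hu.1) ?_, ?_⟩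
      · have h := RootBN.Data.H_conj_U (D := dat F) ax hgH
          ((data_U (F := F) good facts).symm ▸ hu.1)
        exact data_U (F := F) good facts ▸ h
      · simpa [mul_assoc] using Subgroup.mul_mem _ h5 (Subgroup.inv_mem _ hgH)
    rw [U_inf_H facts good, Subgroup.mem_bot, inv_mul_eq_one] at h6
    exact h6.symm
  · rintro ⟨hg, he⟩
    have hn := n0_conj_H hg.1
    have he' : u⁻¹ * (g : GL chevG2.Idx F) * u = g := by
      rw [mul_inv_eq_iff_eq_mul] at he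
      rw [mul_assoc, he, inv_mul_cancel_left]
    refine ⟨⟨H1_le_borel hg, Subgroup.mem_sup_right ?_⟩, Subgroup.mem_sup_right ?_⟩
    · simpa [n0_inv, mul_assoc] using hn
    · rw [show (u * n0 F)⁻¹ * (g : GL chevG2.Idx F) * (u * n0 F) =
        (n0 F)⁻¹ * (u⁻¹ * g * u) * n0 F by group, he']
      simpa [n0_inv, mul_assoc] using hn

variable [Fintype F] [CharP F 3] (hK : Fintype.card F = 3 ^ (2 * m + 1))
include hK

/-- A coset other than B¹ is u n₀ B¹. -/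
theorem exists_coset (a : ↥(G1 F m)) (ha : a ∉ B1 F m) :
    ∃ u, ∃ hu : u ∈ U1 F m, (a : ↥(G1 F m) ⧸ B1 F m) =
      (((⟨u, hu.2⟩ : ↥(G1 F m)) * nG F m : ↥(G1 F m)) : ↥(G1 F m) ⧸ B1 F m) := by
  obtain ⟨u, hu, k, hk, w, hw, e⟩ := exists_of_not_mem_B1 hK a.2 (fun h => ha (mem_B1.2 h))
  refine ⟨u, hu, (QuotientGroup.eq.2 ?_).symm⟩
  rw [mem_B1]
  simp only [Subgroup.coe_mul, Subgroup.coe_inv, nG, e]
  rw [show (u * n0 F)⁻¹ * (u * k * n0 F * w) = ((n0 F)⁻¹ * k * n0 F) * w by group]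
  refine Subgroup.mul_mem _ (Subgroup.mem_sup_right ?_) (U1_le_borel hw)
  simpa [n0_inv] using n0_conj_H (F := F) hk.1

theorem card_three_stab {u : GL chevG2.Idx F} (hu : u ∈ U1 F m) (hne : u ≠ 1) :
    Nat.card ↥(MulAction.stabilizer ↥(G1 F m) ((1 : ↥(G1 F m)) : ↥(G1 F m) ⧸ B1 F m) ⊓
        MulAction.stabilizer ↥(G1 F m) (nG F m : ↥(G1 F m) ⧸ B1 F m) ⊓
        MulAction.stabilizer ↥(G1 F m)
          (((⟨u, hu.2⟩ : ↥(G1 F m)) * nG F m : ↥(G1 F m)) : ↥(G1 F m) ⧸ B1 F m)) ≤ 2 := by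
  classical
  suffices key : ∀ S : Subgroup ↥(G1 F m), (∀ g ∈ S, (g : GL chevG2.Idx F) ∈ H1 F m ∧
      (g : GL chevG2.Idx F) * u * (g : GL chevG2.Idx F)⁻¹ = u) → Nat.card ↥S ≤ 2 from
    key _ fun g hg => (three_stab hu g).1 hg
  intro S hS
  have hw : ∀ g : ↥S, wt ((g : ↥(G1 F m)) : GL chevG2.Idx F) ∈ ({1, -1} : Finset F) := by
    intro g
    obtain ⟨hk, he⟩ := hS g.1 g.2
    by_contra h
    simp only [Finset.mem_insert, Finset.mem_singleton, not_or] at h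
    refine hne (eq_one_of_fixed hK hk ?_ hu he)
    rw [sq]
    exact fun h' => (mul_self_eq_one_iff.1 h').elim h.1 h.2
  refine (Nat.card_le_card_of_injective (fun g : ↥S =>
    (⟨wt ((g : ↥(G1 F m)) : GL chevG2.Idx F), hw g⟩ : ↥({1, -1} : Finset F))) ?_).trans ?_
  · intro a b h
    have ha := (hS a.1 a.2).1
    have hb := (hS b.1 b.2).1
    exact Subtype.ext (Subtype.ext (torus_eq_of_wt ha.1 (maps_of_mem_G1 (pow_q hK) ha.2) hb.1
      (maps_of_mem_G1 (pow_q hK) hb.2) (congrArg Subtype.val h)))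
  · rw [Nat.card_eq_fintype_card, Fintype.card_coe]
    exact Finset.card_le_two

theorem exists_move {x y z : ↥(G1 F m) ⧸ B1 F m} (hxy : x ≠ y) (hxz : x ≠ z) (hyz : y ≠ z) :
    ∃ g : ↥(G1 F m), g • x = ((1 : ↥(G1 F m)) : ↥(G1 F m) ⧸ B1 F m) ∧
      g • y = (nG F m : ↥(G1 F m) ⧸ B1 F m) ∧ ∃ u, ∃ hu : u ∈ U1 F m, u ≠ 1 ∧
      g • z = (((⟨u, hu.2⟩ : ↥(G1 F m)) * nG F m : ↥(G1 F m)) : ↥(G1 F m) ⧸ B1 F m) := by
  obtain ⟨a, rfl⟩ := QuotientGroup.mk_surjective x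
  obtain ⟨b, rfl⟩ := QuotientGroup.mk_surjective y
  obtain ⟨c, rfl⟩ := QuotientGroup.mk_surjective z
  have ha : a⁻¹ • (a : ↥(G1 F m) ⧸ B1 F m) = ((1 : ↥(G1 F m)) : ↥(G1 F m) ⧸ B1 F m) := by
    rw [MulAction.Quotient.smul_coe, smul_eq_mul, inv_mul_cancel]
  obtain ⟨u, hu, eu⟩ := exists_coset hK (a⁻¹ * b) (fun h => hxy (QuotientGroup.eq.2 h))
  obtain ⟨v, hv, ev⟩ := exists_coset hK (a⁻¹ * c) (fun h => hxz (QuotientGroup.eq.2 h))
  refine ⟨(⟨u, hu.2⟩ : ↥(G1 F m))⁻¹ * a⁻¹, ?_, ?_, u⁻¹ * v,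
    Subgroup.mul_mem _ (Subgroup.inv_mem _ hu) hv, ?_, ?_⟩
  · rw [mul_smul, ha, MulAction.Quotient.smul_coe, smul_eq_mul, mul_one, QuotientGroup.eq, mul_one,
      inv_inv, mem_B1]
    exact U1_le_borel hu
  · rw [mul_smul, MulAction.Quotient.smul_coe, smul_eq_mul, eu, MulAction.Quotient.smul_coe,
      smul_eq_mul, inv_mul_cancel_left]
  · intro h
    rw [inv_mul_eq_one] at h
    subst h
    exact hyz (MulAction.injective a⁻¹ (by
      simp only [MulAction.Quotient.smul_coe, smul_eq_mul]; rw [eu, ev]))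
  · rw [mul_smul, MulAction.Quotient.smul_coe, smul_eq_mul, ev, MulAction.Quotient.smul_coe,
      smul_eq_mul]
    congr 1
    exact Subtype.ext (mul_assoc _ _ _).symm

theorem card_stab_le {x y z : ↥(G1 F m) ⧸ B1 F m} (hxy : x ≠ y) (hxz : x ≠ z) (hyz : y ≠ z) :
    Nat.card ↥(MulAction.stabilizer ↥(G1 F m) x ⊓ MulAction.stabilizer ↥(G1 F m) y ⊓
      MulAction.stabilizer ↥(G1 F m) z) ≤ 2 := by
  obtain ⟨g, hx, hy, u, hu, hne, hz⟩ := exists_move hK hxy hxz hyz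
  have key : ∀ p : ↥(G1 F m) ⧸ B1 F m, MulAction.stabilizer ↥(G1 F m) (g • p) =
      (MulAction.stabilizer ↥(G1 F m) p).map (MulAut.conj g).toMonoidHom :=
    fun p => MulAction.stabilizer_smul_eq_stabilizer_map_conj g p
  have h := card_three_stab hK hu hne
  rw [← hx, ← hy, ← hz, key, key, key,
    ← Subgroup.map_inf _ _ _ (MulAut.conj g).injective,
    ← Subgroup.map_inf _ _ _ (MulAut.conj g).injective,
    Subgroup.card_map_of_injective (MulAut.conj g).injective] at h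
  exact h

end Cfsg.Agent.Twisted.Ree
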