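/-
Multiplication in the coordinates of U, and the cubes of the elements of U¹.
-/
import Cfsg.Agent.Lib.Twisted.Ree.Simple

set_option autoImplicit false

namespace Cfsg.Agent.Twisted.Ree

open Cfsg.Lie Matrix Chev BNSetup

variable {F : Type*} [Field F] [CharP F 3]


/-- All terms of the commutator formula for the pair vanish in characteristic 3. -/
def TrivPair (r s : ℕ) : Prop :=
  r < 12 ∧ s < 12 ∧ s ≠ r ∧ s ≠ chevG2.neg r ∧
    (chevG2.commTerms r s).all (fun x => decide (x.1 < 12) && x.2.1 % 3 == 0) = true

theorem commute_of_trivPair {r s : ℕ} (h : TrivPair r s) (t v : F) :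
    Commute (xe good s v) (xe good r t) := by
  obtain ⟨hr, hs, h1, h2, h3⟩ := h
  apply Units.ext
  simp only [Units.val_mul, coe_xe]
  rw [good.comm_formula hr hs h1 h2 t v]
  have : chevG2.wordMat F (chevG2.commWord F r s t v) = 1 := by
    refine List.prod_eq_one fun y hy => ?_
    simp only [ChevalleyDatum.commWord, List.map_map, List.mem_map] at hy
    obtain ⟨z, hz, rfl⟩ := hy
    have hall := List.all_eq_true.1 h3 z hz
    simp only [Bool.and_eq_true, decide_eq_true_eq, beq_iff_eq] at hall
    simp only [Function.comp_apply]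
    rw [cast_eq_of_mod (F := F) (b := 0) (by simpa using hall.2), Int.cast_zero, zero_mul,
      zero_mul, good.x_zero hall.1]
  rw [this, mul_one]

theorem trivPair_list : TrivPair 7 9 ∧ TrivPair 7 10 ∧ TrivPair 7 11 ∧ TrivPair 6 8 ∧ TrivPair 6 9 ∧
    TrivPair 6 11 :=
  ⟨⟨by decide, by decide, by decide, by decide, by decide +kernel⟩,
    ⟨by decide, by decide, by decide, by decide, by decide +kernel⟩,
    ⟨by decide, by decide, by decide, by decide, by decide +kernel⟩,
    ⟨by decide, by decide, by decide, by decide, by decide +kernel⟩,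
    ⟨by decide, by decide, by decide, by decide, by decide +kernel⟩,
    ⟨by decide, by decide, by decide, by decide, by decide +kernel⟩⟩

theorem tail_mul_seven (c d f g a : F) :
    tail c d f g * xe good 7 a = xe good 7 a * tail c (d + 2 * a * c) f g := by
  obtain ⟨p9, p10, p11, -, -, -⟩ := trivPair_list
  have h8 : xe good 8 c * xe good 7 a = xe good 7 a * xe good 8 c * xe good 9 (2 * a * c) := by
    apply Units.ext
    simp only [Units.val_mul, coe_xe]
    rw [good.comm_formula (r := 7) (s := 8) (by decide) (by decide) (by decide) (by decide) a c,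
      ChevalleyDatum.commWord,
      show chevG2.commTerms 7 8 = [(9, -2, 1, 1), (10, -3, 2, 1), (11, 3, 1, 2)] by decide +kernel]
    simp only [ChevalleyDatum.wordMat, List.map_cons, List.map_nil, List.prod_cons, List.prod_nil,
      mul_one]
    rw [cast_eq_of_mod (F := F) (a := -3) (b := 0) (by decide),
      cast_eq_of_mod (F := F) (a := 3) (b := 0) (by decide), Int.cast_zero, zero_mul, zero_mul,
      zero_mul, zero_mul, good.x_zero (by decide : 10 < chevG2.nroots),
      good.x_zero (by decide : 11 < chevG2.nroots), mul_one, mul_one]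
    congr 2
    push_cast
    ring
  have hR : Commute (xe good 9 d * xe good 10 f * xe good 11 g) (xe good 7 a) :=
    ((commute_of_trivPair p9 a d).mul_left (commute_of_trivPair p10 a f)).mul_left
      (commute_of_trivPair p11 a g)
  have e : ∀ d', tail c d' f g = xe good 8 c * (xe good 9 d' * xe good 10 f * xe good 11 g) :=
    fun d' => by simp [tail, mul_assoc]
  rw [e, e, mul_assoc, hR.eq, ← mul_assoc, h8, add_comm d, ← xe_add good (r := 9) (by decide)]
  simp only [mul_assoc]

theorem tail_mul_six (c d f g b : F) :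
    tail c d f g * xe good 6 b = xe good 6 b * tail c d f (g - b * f) := by
  obtain ⟨-, -, -, p8, p9, p11⟩ := trivPair_list
  have h10 : xe good 10 f * xe good 6 b = xe good 6 b * xe good 10 f * xe good 11 (-(b * f)) := by
    apply Units.ext
    simp only [Units.val_mul, coe_xe]
    rw [good.comm_formula (r := 6) (s := 10) (by decide) (by decide) (by decide) (by decide) b f,
      ChevalleyDatum.commWord,
      show chevG2.commTerms 6 10 = [(11, 1, 1, 1)] by decide +kernel]
    simp only [ChevalleyDatum.wordMat, List.map_cons, List.map_nil, List.prod_cons, List.prod_nil,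
      mul_one]
    congr 2
    push_cast
    ring
  have hL : Commute (xe good 8 c * xe good 9 d) (xe good 6 b) :=
    (commute_of_trivPair p8 b c).mul_left (commute_of_trivPair p9 b d)
  have h11 : Commute (xe good 11 g) (xe good 6 b) := commute_of_trivPair p11 b g
  simp only [tail]
  rw [mul_assoc (xe good 8 c * xe good 9 d * xe good 10 f) (xe good 11 g) (xe good 6 b), h11.eq,
    ← mul_assoc, mul_assoc (xe good 8 c * xe good 9 d) (xe good 10 f) (xe good 6 b), h10,
    ← mul_assoc, ← mul_assoc, hL.eq, sub_eq_neg_add, ← xe_add good (r := 11) (by decide)]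
  simp only [mul_assoc]

theorem uOf_mul (a b c d f g a' b' c' d' f' g' : F) :
    uOf a b c d f g * uOf a' b' c' d' f' g' =
      uOf (a + a') (b + b') (a' * b + c + c') (a' ^ 2 * b + (d + 2 * a' * c) + d')
        (-(a' ^ 3 * b) + f + f')
        (-(a' ^ 3 * b ^ 2) + g - b' * (-(a' ^ 3 * b) + f) + g') := by
  simp only [uOf]
  have e1 : xe good 7 a * xe good 6 b * tail c d f g * (xe good 7 a' * xe good 6 b' * tail c' d' f' g') =
      xe good 7 a * xe good 6 b * (tail c d f g * xe good 7 a') * xe good 6 b' * tail c' d' f' g' := by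
    group
  rw [e1, tail_mul_seven, ← mul_assoc (xe good 7 a * xe good 6 b), mul_assoc (xe good 7 a),
    six_seven, mul_assoc (xe good 7 a) (_ * tail _ _ _ _), mul_assoc (xe good 7 a' * xe good 6 b),
    tail_mul, mul_assoc (xe good 7 a) _ (xe good 6 b'), mul_assoc (xe good 7 a' * xe good 6 b) _ (xe good 6 b'),
    tail_mul_six, ← mul_assoc (xe good 7 a' * xe good 6 b), mul_assoc (xe good 7 a') (xe good 6 b),
    xe_add good (r := 6) (by decide), ← mul_assoc, ← mul_assoc, xe_add good (r := 7) (by decide),
    mul_assoc (xe good 7 (a + a') * xe good 6 (b + b')) (tail _ _ _ _), tail_mul]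

theorem uOf_cube (a b c d f g : F) :
    uOf a b c d f g ^ 3 = uOf 0 0 0 (-(a ^ 2 * b)) 0 (-(a ^ 3 * b ^ 2)) := by
  have h3 : (3 : F) = 0 := by exact_mod_cast CharP.cast_eq_zero F 3
  rw [pow_succ, pow_two, uOf_mul, uOf_mul]
  congr 1 <;>
    first
      | linear_combination a * h3
      | linear_combination b * h3
      | linear_combination (a * b + c) * h3
      | linear_combination (2 * a ^ 2 * b + 2 * a * c + d) * h3
      | linear_combination (f - a ^ 3 * b) * h3
      | linear_combination (g - b * f) * h3

omit [CharP F 3] in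
theorem uOf_zero : uOf (0 : F) 0 0 0 0 0 = 1 := by
  simp [uOf, tail, xe_zero good (r := 7) (by decide), xe_zero good (r := 6) (by decide),
    xe_zero good (r := 8) (by decide), xe_zero good (r := 9) (by decide),
    xe_zero good (r := 10) (by decide), xe_zero good (r := 11) (by decide)]

omit [CharP F 3] in
theorem uW_zero (m : ℕ) : uW m (0 : F) 0 0 = 1 := by
  have he : (3 ^ m : ℕ) ≠ 0 := by positivity
  rw [uW]
  simp [zero_pow he, uOf_zero]

theorem uW_pow_three_iff (m : ℕ) (t u v : F) : uW m t u v ^ 3 = 1 ↔ t = 0 := by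
  rw [uW, uOf_cube, ← uOf_zero]
  constructor
  · intro h
    obtain ⟨-, -, -, h4, -, -⟩ := uOf_inj h
    simp only [neg_eq_zero, mul_eq_zero, pow_eq_zero_iff (two_ne_zero),
      pow_eq_zero_iff (show (3 : ℕ) ^ m ≠ 0 by positivity), or_self] at h4
    exact h4
  · rintro rfl
    simp

end Cfsg.Agent.Twisted.Ree
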