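import Cfsg.Agent.Lib.Twisted.Ree.FieldAut
import Cfsg.Agent.Lib.SolvableTransitive.Field

/-!
The automorphisms of the small Ree groups are inner times field.

* `gU_cube`, `eq_Z_of_central`: the layers of U¹ are characteristic;
* `torus_fixed_imp_conj`: a normalised automorphism fixing the torus is conjugation by a torus
  element;
* `exists_conj_fieldAut`: every automorphism is inner times field;
* `card_out`, `card_ringAut`: the outer automorphism group has order `2m + 1`.
-/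

set_option autoImplicit false

namespace Cfsg.Agent.Twisted.Ree

open Cfsg.Lie Matrix Chev
open scoped Pointwise

section Rigid

variable {F : Type*} [Field F] [Fintype F] [CharP F 3] {m : ℕ}
  (hK : Fintype.card F = 3 ^ (2 * m + 1))

omit [Fintype F] in
theorem two_ne_zero' : (2 : F) ≠ 0 := by
  intro h
  have h3 : (3 : F) = 0 := by exact_mod_cast CharP.cast_eq_zero F 3
  exact one_ne_zero (show (1 : F) = 0 by linear_combination h3 - h)

include hK

theorem gU_cube (t u v : F) :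
    gU m t u v * gU m t u v * gU m t u v = gU m 0 0 (-(tau m t * t ^ 2)) := by
  have h3 : (3 : F) = 0 := by exact_mod_cast CharP.cast_eq_zero F 3
  rw [gU_mul hK, gU_mul hK]
  congr 1
  · linear_combination t * h3
  · linear_combination (u - t * tau m t) * h3
  · linear_combination (v - t * u) * h3

/-- The center of U¹ is the last layer. -/
theorem eq_Z_of_central {g : ↥(G1 F m)} (hg : g ∈ upperU hK)
    (h : ∀ y ∈ upperU hK, g * y = y * g) : ∃ v, g = gU m 0 0 v := by
  obtain ⟨t, u, v, rfl⟩ := hg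
  have h1 := h (gU m 0 1 0) ⟨_, _, _, rfl⟩
  rw [gU_mul hK, gU_mul hK] at h1
  have ht : t = 0 := by
    have := (gU_inj h1).2.2
    simp [tau_zero] at this
    linear_combination this
  subst ht
  have h2 := h (gU m 1 0 0) ⟨_, _, _, rfl⟩
  rw [gU_mul hK, gU_mul hK] at h2
  have hu : u = 0 := by
    have := (gU_inj h2).2.2
    simp [tau_zero] at this
    linear_combination this
  subst hu
  exact ⟨v, rfl⟩

omit [CharP F 3] in
theorem exists_cube_root (v : F) : ∃ t : F, -(tau m t * t ^ 2) = v := by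
  rcases eq_or_ne v 0 with rfl | hv
  · exact ⟨0, by simp [tau_zero]⟩
  · obtain ⟨c, hc⟩ := exists_weight_two hK (-v) (neg_ne_zero.2 hv)
    exact ⟨c, by rw [tau, ← pow_add, hc, neg_neg]⟩

variable {β : MulAut ↥(G1 F m)} (hU : ∀ y, β y ∈ upperU hK ↔ y ∈ upperU hK)
include hU

theorem exists_Z_image (v : F) : ∃ v', β (gU m 0 0 v) = gU m 0 0 v' := by
  refine eq_Z_of_central hK ((hU _).2 ⟨_, _, _, rfl⟩) fun y hy => ?_
  obtain ⟨y, rfl⟩ := β.surjective y
  obtain ⟨t, u, w, rfl⟩ := (hU y).1 hy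
  rw [← map_mul, ← map_mul, (gU_commute_Z hK t u w v).eq]

theorem exists_layer_image (u v : F) : ∃ u' v', β (gU m 0 u v) = gU m 0 u' v' := by
  obtain ⟨t, u', v', h⟩ := (hU _).2 (⟨_, _, _, rfl⟩ : gU m 0 u v ∈ upperU hK)
  have h1 := congrArg β (gU_cube hK (0 : F) u v)
  rw [map_mul, map_mul, h, gU_cube hK, show -(tau m (0 : F) * 0 ^ 2) = 0 by simp, gU_zero,
    map_one, ← gU_zero (F := F) (m := m)] at h1
  have h2 := (gU_inj h1).2.2
  rcases eq_or_ne t 0 with rfl | ht
  · exact ⟨u', v', h⟩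
  · exact absurd h2 (neg_ne_zero.2 (mul_ne_zero (pow_ne_zero _ ht) (pow_ne_zero _ ht)))

variable (hn : (nG F m)⁻¹ * β (nG F m) ∈ B1 F m)
include hn

/-- The action on the torus is a field automorphism. -/
theorem exists_field_torus :
    ∃ σ : RingAut F, ∀ c : Fˣ, β (gT hK c) = gT hK (Units.map σ.toRingHom.toMonoidHom c) := by
  choose η hη using exists_torus_image hK hU hn
  choose C hC using exists_Z_image hK hU
  have hηmul : ∀ c d, η (c * d) = η c * η d := fun c d => gT_inj hK (by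
    rw [← hη, gT_mul hK, map_mul, hη, hη, gT_mul hK])
  have hadd : ∀ a b, C (a + b) = C a + C b := fun a b => by
    have h := congrArg β (gU_zero_mul (m := m) hK 0 a 0 b)
    rw [map_mul, add_zero, hC, hC, hC, gU_zero_mul hK] at h
    exact (gU_inj h).2.2.symm
  have hwt : ∀ (c : Fˣ) v, C ((c : F) ^ (3 ^ (m + 1) + 2) * v) =
      (η c : F) ^ (3 ^ (m + 1) + 2) * C v := fun c v => by
    have h := congrArg β (gT_conj (m := m) hK c 0 0 v)
    rw [map_mul, map_mul, map_inv] at h
    simp only [mul_zero, hC, hη, gT_conj hK] at h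
    exact (gU_inj h).2.2.symm
  have hC0 : C 0 = 0 := by
    have := hadd 0 0
    rw [add_zero] at this
    exact left_eq_add.1 this
  have hc1 : C 1 ≠ 0 := fun h => by
    have h2 := hC 1
    rw [h, gU_zero, EmbeddingLike.map_eq_one_iff, ← gU_zero (F := F) (m := m)] at h2
    exact one_ne_zero (gU_inj h2).2.2
  let s : F → F := fun x => C x / C 1
  have hs_pow : ∀ c : Fˣ, s ((c : F) ^ (3 ^ (m + 1) + 2)) = (η c : F) ^ (3 ^ (m + 1) + 2) :=
    fun c => by
      show C _ / C 1 = _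
      rw [← mul_one ((c : F) ^ _), hwt, mul_div_cancel_right₀ _ hc1]
  have smul' : ∀ x y, s (x * y) = s x * s y := by
    intro x y
    rcases eq_or_ne x 0 with rfl | hx
    · simp [s, hC0]
    rcases eq_or_ne y 0 with rfl | hy
    · simp [s, hC0]
    obtain ⟨c, rfl⟩ := exists_weight_two hK x hx
    obtain ⟨d, rfl⟩ := exists_weight_two hK y hy
    rw [← mul_pow, ← Units.val_mul, hs_pow, hs_pow, hs_pow, hηmul, Units.val_mul, mul_pow]
  let sHom : F →+* F :=
    { toFun := s, map_one' := div_self hc1, map_mul' := smul'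
      map_zero' := by simp [s, hC0]
      map_add' := fun x y => by show C _ / C 1 = _ / C 1 + _ / C 1; rw [hadd, add_div] }
  refine ⟨RingEquiv.ofBijective sHom (Finite.injective_iff_bijective.1 sHom.injective),
    fun c => ?_⟩
  rw [hη]
  congr 1
  refine Units.ext ?_
  show (η c : F) = s c
  have hne : s (c : F) ≠ 0 := (map_ne_zero sHom).2 c.ne_zero
  have h : s (c : F) ^ (3 ^ (m + 1) + 2) = (η c : F) ^ (3 ^ (m + 1) + 2) := by
    rw [← hs_pow]
    exact (map_pow sHom (c : F) _).symm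
  have h1 := eq_one_of_pow hK (div_ne_zero hne (η c).ne_zero)
    (by rw [div_pow, h, div_self (pow_ne_zero _ (η c).ne_zero)])
  exact ((div_eq_one_iff_eq (η c).ne_zero).1 h1).symm

variable (hT : ∀ c : Fˣ, β (gT hK c) = gT hK c)
include hT

/-- An automorphism fixing the torus and normalised on U¹ is a torus conjugation. -/
theorem torus_fixed_imp_conj (hm : 1 ≤ m) : ∃ a : Fˣ, β = MulAut.conj (gT hK a) := by
  classical
  -- normalise the first layer
  have hXim : ∀ t, ∃ t' u' v', β (gU m (t : F) 0 0) = gU m t' u' v' := fun t =>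
    (hU _).2 ⟨_, _, _, rfl⟩
  choose f p₀ r₀ hf using hXim
  have hfc : ∀ (c : Fˣ) t, f ((c : F) * t) = (c : F) * f t := fun c t => by
    have h := congrArg β (gT_conj (m := m) hK c t 0 0)
    rw [map_mul, map_mul, map_inv] at h
    simp only [mul_zero, hf, hT, gT_conj hK] at h
    exact (gU_inj h).1.symm
  have hf1 : f 1 ≠ 0 := fun h => by
    obtain ⟨a, b, hab⟩ := exists_layer_image hK (β := β.symm)
      (fun y => by rw [← hU (β.symm y), MulEquiv.apply_symm_apply]) (p₀ 1) (r₀ 1)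
    have h1 : β.symm (β (gU m 1 0 0)) = gU m 1 0 0 := β.symm_apply_apply _
    rw [hf, h, hab] at h1
    exact one_ne_zero (gU_inj h1).1.symm
  refine ⟨Units.mk0 (f 1) hf1, ?_⟩
  set k := gT (m := m) hK (Units.mk0 (f 1) hf1) with hk
  obtain ⟨γ, hγ⟩ : ∃ γ, γ = (MulAut.conj k)⁻¹ * β := ⟨_, rfl⟩
  have hγap : ∀ z, γ z = k⁻¹ * β z * k := fun z => by
    simp [hγ, MulAut.inv_apply, MulAut.conj_symm_apply]
  have hkB : k ∈ B1 F m := gT_mem_B1 hK _
  have hγU : ∀ y, γ y ∈ upperU hK ↔ y ∈ upperU hK := fun y => by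
    rw [hγap, ← hU y]
    have := (mem_B1_iff_normalizes hK k⁻¹).1 (inv_mem hkB) (β y)
    rw [inv_inv] at this
    exact this.symm
  have hγn : (nG F m)⁻¹ * γ (nG F m) ∈ B1 F m := by
    have h := mul_mem (mul_mem (inv_mem (conj_gT_mem_B1 hK (Units.mk0 (f 1) hf1))) hn) hkB
    rw [hγap]
    convert h using 1
    simp only [← hk]
    group
  have hγT : ∀ c, γ (gT hK c) = gT hK c := fun c => by
    rw [hγap, hT, hk, mul_assoc, ← gT_mul hK, mul_comm c, gT_mul hK, inv_mul_cancel_left]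
  have hXim' : ∀ t, ∃ u' v', γ (gU m (t : F) 0 0) = gU m t u' v' := fun t => by
    obtain ⟨t', u', v', h⟩ := (hγU (gU m t 0 0)).2 ⟨_, _, _, rfl⟩
    rcases eq_or_ne t 0 with rfl | ht
    · rw [gU_zero, map_one]
      exact ⟨0, 0, gU_zero.symm⟩
    · have h' := h
      rw [hγap, hf, mul_assoc, inv_mul_eq_iff_eq_mul, ← eq_mul_inv_iff_mul_eq, hk,
        gT_conj hK] at h'
      have h1 := (gU_inj h').1
      have h2 : f t = t * f 1 := by simpa using hfc (Units.mk0 t ht) 1
      rw [h2, Units.val_mk0, mul_comm (f 1)] at h1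
      obtain rfl := (mul_right_cancel₀ hf1 h1).symm
      exact ⟨u', v', h⟩
  choose p r hX using hXim'
  -- the last layer
  have hZ : ∀ v, γ (gU m 0 0 v) = gU m 0 0 v := fun v => by
    obtain ⟨t, rfl⟩ := exists_cube_root hK v
    rw [← gU_cube hK t 0 0, map_mul, map_mul, hX, gU_cube hK, gU_cube hK]
  -- the middle layer
  choose g h hY using fun u => exists_layer_image hK hγU u 0
  have hgadd : ∀ a b, g (a + b) = g a + g b ∧ h (a + b) = h a + h b := fun a b => by
    have e := congrArg γ (gU_zero_mul (m := m) hK a 0 b 0)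
    rw [map_mul, add_zero, hY, hY, hY, gU_zero_mul hK] at e
    exact ⟨(gU_inj e).2.1.symm, (gU_inj e).2.2.symm⟩
  have hgwt : ∀ (c : Fˣ) u, g ((c : F) ^ (3 ^ (m + 1) + 1) * u) =
        (c : F) ^ (3 ^ (m + 1) + 1) * g u ∧
      h ((c : F) ^ (3 ^ (m + 1) + 1) * u) = (c : F) ^ (3 ^ (m + 1) + 2) * h u := fun c u => by
    have e := congrArg γ (gT_conj (m := m) hK c 0 u 0)
    rw [map_mul, map_mul, map_inv] at e
    simp only [mul_zero, hY, hγT, gT_conj hK] at e
    exact ⟨(gU_inj e).2.1.symm, (gU_inj e).2.2.symm⟩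
  have hθ1 : (-1 : F) ^ (3 ^ (m + 1) + 1) = 1 := by
    rw [pow_succ, (odd_theta (m := m)).neg_one_pow]; norm_num
  have hθ2 : (-1 : F) ^ (3 ^ (m + 1) + 2) = -1 := by
    rw [pow_succ, hθ1, one_mul]
  have eq_zero_of_neg : ∀ x : F, x = -x → x = 0 := fun x e =>
    (mul_eq_zero.1 (show (2 : F) * x = 0 by linear_combination e)).resolve_left two_ne_zero'
  have hh0 : ∀ u, h u = 0 := fun u => by
    refine eq_zero_of_neg _ ?_
    simpa [hθ1, hθ2] using (hgwt (-1) u).2
  have hg_sq : ∀ a : F, g (a ^ 2) = a ^ 2 * g 1 := fun a => by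
    rcases eq_or_ne a 0 with rfl | ha
    · have := (hgadd 0 0).1
      rw [add_zero] at this
      simpa using left_eq_add.1 this
    · obtain ⟨c, hc⟩ := exists_weight_one hK a ha
      rw [← hc]
      simpa using (hgwt c 1).1
  have hg : ∀ u, g u = u * g 1 := fun u => by
    obtain ⟨a, b, rfl⟩ := span_sq (F := F) u
    have := (hgadd (a ^ 2 - b ^ 2) (b ^ 2)).1
    rw [sub_add_cancel, hg_sq, hg_sq] at this
    linear_combination -this
  have hg1 : g 1 = 1 := by
    have e := congrArg γ (show gU m (1 : F) 0 0 * gU m 0 1 0 =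
        gU m 0 0 1 * gU m 0 1 0 * gU m 1 0 0 by
      rw [gU_mul hK, gU_mul hK, gU_mul hK]; congr 1 <;> simp [tau_zero])
    rw [map_mul, map_mul, map_mul] at e
    simp only [hX, hY, hh0, hZ, gU_mul hK] at e
    have e3 := (gU_inj e).2.2
    simp [tau_zero] at e3
    linear_combination e3
  have hA : ∀ u v, γ (gU m 0 u v) = gU m 0 u v := fun u v => by
    rw [gU_split hK u v, map_mul, hY, hh0, hZ, hg, hg1, mul_one]
  -- the first layer
  have hgen : ∀ s u v, γ (gU m s u v) = gU m s (p s + u) (r s + v) := fun s u v => by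
    rw [show gU m s u v = gU m s 0 0 * gU m 0 u v by
        rw [gU_mul hK]; congr 1 <;> simp [tau_zero],
      map_mul, hX, hA, gU_mul hK]
    congr 1 <;> simp [tau_zero]
  have hadd : ∀ a b, p (a + b) = p a + p b ∧ r (a + b) = r a + r b - b * p a := fun a b => by
    have e := congrArg γ (gU_mul (m := m) hK a 0 0 b 0 0)
    rw [map_mul, hX, hX, hgen, gU_mul hK] at e
    obtain ⟨-, e2, e3⟩ := gU_inj e
    exact ⟨by linear_combination -e2, by linear_combination -e3⟩
  have hwtX : ∀ (c : Fˣ) t, p ((c : F) * t) = (c : F) ^ (3 ^ (m + 1) + 1) * p t ∧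
      r ((c : F) * t) = (c : F) ^ (3 ^ (m + 1) + 2) * r t := fun c t => by
    have e := congrArg γ (gT_conj (m := m) hK c t 0 0)
    rw [map_mul, map_mul, map_inv] at e
    simp only [mul_zero, hX, hγT, gT_conj hK] at e
    exact ⟨(gU_inj e).2.1.symm, (gU_inj e).2.2.symm⟩
  have hp : ∀ t, p t = 0 := fun t => by
    have p0 : p 0 = 0 := by
      have := (hadd 0 0).1
      rw [add_zero] at this
      exact left_eq_add.1 this
    have h1 : p (-t) = p t := by simpa [hθ1] using (hwtX (-1) t).1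
    have h2 := (hadd t (-t)).1
    rw [add_neg_cancel, p0, h1] at h2
    exact eq_zero_of_neg _ (by linear_combination -h2)
  have hradd : ∀ a b, r (a + b) = r a + r b := fun a b => by
    rw [(hadd a b).2, hp, mul_zero, sub_zero]
  have r0 : r 0 = 0 := by
    have h0 := hradd 0 0
    rw [add_zero] at h0
    exact left_eq_add.1 h0
  have hrw : ∀ t, r t = tau m t * t ^ 2 * r 1 := fun t => by
    rcases eq_or_ne t 0 with rfl | ht
    · simp [r0]
    · have := (hwtX (Units.mk0 t ht) 1).2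
      rw [Units.val_mk0, mul_one, pow_add] at this
      exact this
  have hr1 : r 1 = 0 := by
    by_contra h1
    have h3 : (3 : F) = 0 := by exact_mod_cast CharP.cast_eq_zero F 3
    have hτ : ∀ x : F, tau m (1 + x) = 1 + tau m x := fun x => by
      haveI : Fact (Nat.Prime 3) := ⟨Nat.prime_three⟩
      rw [tau, add_pow_char_pow, one_pow]; rfl
    have hτ1 : tau m (1 : F) = 1 := one_pow _
    have hτn : ∀ x : F, tau m (-x) = -tau m x := fun x => (odd_theta (m := m)).neg_pow x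
    have he : ∀ x : F, (1 + tau m x) * (1 + x) ^ 2 = 1 + tau m x * x ^ 2 := fun x => by
      have e := hradd 1 x
      rw [hrw, hrw x, hτ] at e
      exact mul_right_cancel₀ h1 (by linear_combination e)
    obtain ⟨k', hk', hc⟩ := exists_sq_ne_one hK hm
    have hx : ∀ x : F, x ≠ 0 → tau m x = x := fun x hx => by
      have e1 := he x
      have e2 := he (-x)
      rw [hτn] at e2
      have : x * (tau m x - x) = 0 := by
        linear_combination e1 + e2 - (x * tau m x + x ^ 2) * h3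
      exact sub_eq_zero.1 ((mul_eq_zero.1 this).resolve_left hx)
    have hne : wt k' ≠ 0 := (torus_form hk'.1).1
    have h4 : tau m (tau m (wt k')) = wt k' ^ 3 := by
      rw [tau, tau, ← pow_mul, ← pow_add, show m + 1 + (m + 1) = (2 * m + 1) + 1 by omega,
        pow_succ, pow_mul, pow_q hK]
    rw [hx _ hne, hx _ hne] at h4
    exact hc (mul_right_cancel₀ hne (by linear_combination -h4))
  have hγ1 : γ = 1 := eq_one_of_fix hK γ (fun y hy => by
    obtain ⟨t, u, v, rfl⟩ := hy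
    rw [hgen, hp, hrw, hr1, mul_zero, zero_add, zero_add])
    (fun x hx => (aut_mem_B1 hK hγU x).2 hx) hγn
  rw [hγ, inv_mul_eq_one] at hγ1
  exact hγ1.symm

end Rigid

section Normalise

variable {F : Type*} [Field F] [Fintype F] [CharP F 3] {m : ℕ}
  (hK : Fintype.card F = 3 ^ (2 * m + 1))
include hK

/-- Every automorphism of the small Ree group is inner times field. -/
theorem exists_conj_fieldAut (hm : 1 ≤ m) (α : MulAut ↥(G1 F m)) :
    ∃ (g : ↥(G1 F m)) (σ : RingAut F), α = MulAut.conj g * fieldAut F m σ := by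
  haveI : Fact (Nat.Prime 3) := ⟨Nat.prime_three⟩
  obtain ⟨Q, hQ⟩ := exists_sylow_upperU (m := m) hK
  let P : Sylow 3 ↥(G1 F m) := Sylow.ofCard ((upperU hK).map α.toMonoidHom) (by
    rw [← Nat.card_congr ((upperU hK).equivMapOfInjective α.toMonoidHom α.injective).toEquiv, ← hQ,
      Q.card_eq_multiplicity])
  obtain ⟨g, hg⟩ := MulAction.exists_smul_eq ↥(G1 F m) Q P
  obtain ⟨α₁, hα₁⟩ : ∃ α₁, α₁ = (MulAut.conj g)⁻¹ * α := ⟨_, rfl⟩
  have hα₁ap : ∀ z, α₁ z = g⁻¹ * α z * g := fun z => by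
    simp [hα₁, MulAut.inv_apply, MulAut.conj_symm_apply]
  have hmapU : (upperU hK).map α.toMonoidHom = MulAut.conj g • upperU hK := by
    rw [← hQ, ← Sylow.coe_subgroup_smul, hg, hQ, Sylow.coe_ofCard]
  have hU₁ : ∀ y, α₁ y ∈ upperU hK ↔ y ∈ upperU hK := fun y => by
    have h1 : α y ∈ (upperU hK).map α.toMonoidHom ↔ y ∈ upperU hK :=
      Subgroup.mem_map_iff_mem α.injective
    rw [← h1, hmapU, Subgroup.mem_pointwise_smul_iff_inv_smul_mem, MulAut.smul_def, hα₁ap]
    simp [MulAut.inv_apply, MulAut.conj_symm_apply]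
  have hnB : nG F m ∉ B1 F m := fun h => n0_not_borel (mem_B1.1 h)
  have hαn : α₁ (nG F m) ∉ B1 F m := fun h => hnB ((aut_mem_B1 hK hU₁ _).1 h)
  obtain ⟨u, hu, hcos⟩ := exists_coset hK _ hαn
  obtain ⟨u', hu'⟩ : ∃ u' : ↥(G1 F m), u' = ⟨u, hu.2⟩ := ⟨_, rfl⟩
  have hu'U : u' ∈ upperU hK := by
    rw [upperU_eq hK, hu']; exact Subgroup.mem_subgroupOf.2 hu
  obtain ⟨α₂, hα₂⟩ : ∃ α₂, α₂ = (MulAut.conj u')⁻¹ * α₁ := ⟨_, rfl⟩
  have hα₂ap : ∀ z, α₂ z = u'⁻¹ * α₁ z * u' := fun z => by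
    simp [hα₂, MulAut.inv_apply, MulAut.conj_symm_apply]
  have hU₂ : ∀ y, α₂ y ∈ upperU hK ↔ y ∈ upperU hK := fun y => by
    rw [hα₂ap, Subgroup.mul_mem_cancel_right _ hu'U,
      Subgroup.mul_mem_cancel_left _ (inv_mem hu'U), hU₁]
  have hn₂ : (nG F m)⁻¹ * α₂ (nG F m) ∈ B1 F m := by
    rw [← hu', QuotientGroup.eq] at hcos
    have h := mul_mem (inv_mem hcos) (upperU_le_B1 hK hu'U)
    rw [hα₂ap]
    convert h using 1
    group
  obtain ⟨σ, hσ⟩ := exists_field_torus hK hU₂ hn₂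
  obtain ⟨β, hβ⟩ : ∃ β, β = (fieldAut F m σ)⁻¹ * α₂ := ⟨_, rfl⟩
  have hβU : ∀ y, β y ∈ upperU hK ↔ y ∈ upperU hK := fun y => by
    rw [← fieldAut_mem_upperU hK σ (β y), ← hU₂ y]
    rw [hβ, MulAut.mul_apply, MulAut.apply_inv_self]
  have hβn : (nG F m)⁻¹ * β (nG F m) ∈ B1 F m := by
    rw [← aut_mem_B1 hK (fieldAut_mem_upperU hK σ)]
    rw [map_mul, map_inv, fieldAut_nG, hβ, MulAut.mul_apply, MulAut.apply_inv_self]
    exact hn₂
  have hβT : ∀ c, β (gT hK c) = gT hK c := fun c => (fieldAut F m σ).injective (by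
    rw [hβ, MulAut.mul_apply, MulAut.apply_inv_self, hσ, fieldAut_gT hK])
  obtain ⟨a, ha⟩ := torus_fixed_imp_conj hK hβU hβn hβT hm
  refine ⟨g * u' * fieldAut F m σ (gT hK a), σ, ?_⟩
  have e : α = MulAut.conj g * MulAut.conj u' * (fieldAut F m σ * β) := by
    rw [hβ, hα₂, hα₁]
    simp only [mul_inv_cancel_left, mul_assoc]
  rw [e, ha, map_mul, map_mul, mul_assoc _ (MulAut.conj _) (fieldAut F m σ)]
  congr 1
  refine MulEquiv.ext fun z => ?_
  simp [MulAut.mul_apply, MulAut.conj_apply]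

/-- Only the identity field automorphism is inner. -/
theorem fieldAut_inner_imp {σ : RingAut F} {g : ↥(G1 F m)}
    (h : fieldAut F m σ = MulAut.conj g) : σ = 1 := by
  have hB : g ∈ B1 F m := (mem_B1_iff_normalizes hK g).2 fun y => by
    rw [← MulAut.conj_apply, ← h, fieldAut_mem_upperU hK]
  have hn : g * nG F m * g⁻¹ = nG F m := by
    rw [← MulAut.conj_apply, ← h, fieldAut_nG]
  obtain ⟨c, hc⟩ := exists_torus_of_fix hK hB (by
    rw [mul_inv_eq_iff_eq_mul] at hn
    rwa [mul_assoc, hn, inv_mul_cancel_left])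
  have key : ∀ t, σ t = (c : F) * t := fun t => by
    have e := congrArg (fun φ : MulAut ↥(G1 F m) => φ (gU m t 0 0)) h
    simp only [fieldAut_gU, MulAut.conj_apply, hc, gT_conj hK] at e
    exact (gU_inj e).1
  have hc1 : (c : F) = 1 := by simpa using (key 1).symm
  ext t
  rw [key, hc1, one_mul]
  rfl

theorem card_out (hm : 1 ≤ m) :
    Nat.card (MulAut ↥(G1 F m) ⧸ (MulAut.conj : ↥(G1 F m) →* MulAut ↥(G1 F m)).range) =
      Nat.card (RingAut F) := by
  symm
  refine Nat.card_eq_of_bijective (fun σ => QuotientGroup.mk (fieldAut F m σ)) ⟨?_, ?_⟩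
  · intro σ τ h
    obtain ⟨g, hg⟩ := QuotientGroup.eq.1 h
    have := fieldAut_inner_imp hK (σ := σ⁻¹ * τ) (g := g) (by rw [map_mul, map_inv, hg])
    exact inv_mul_eq_one.1 this
  · intro q
    obtain ⟨α, rfl⟩ := QuotientGroup.mk_surjective q
    obtain ⟨g, σ, rfl⟩ := exists_conj_fieldAut hK hm α
    refine ⟨σ, QuotientGroup.eq.2 ⟨(fieldAut F m σ).symm g, ?_⟩⟩
    ext z : 1
    simp [MulAut.mul_apply, MulAut.conj_apply, MulAut.inv_apply]

theorem card_ringAut : Nat.card (RingAut F) = 2 * m + 1 := by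
  haveI : Fact (Nat.Prime 3) := ⟨Nat.prime_three⟩
  exact (SolvableTransitive.ringAut_facts 3 (d := 2 * m + 1) (by rw [Nat.card_eq_fintype_card, hK])).1

end Normalise

end Cfsg.Agent.Twisted.Ree
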