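import Cfsg.Agent.Lib.Twisted.Ree.InvWords

/-!
The element permuting the generators of a Sylow 2-subgroup, as a word.
-/

set_option autoImplicit false

namespace Cfsg.Agent.Twisted.Ree

/-- An element `g` with `g n = n a b g`, `g (n a b) = b g` and `g b = n (n a b) g`. -/
theorem conj_checks :
    eqW ((uZ 0 0 1 ++ n0Word ++ uZ 1 1 1) ++ n0Word)
        (n0Word ++ aWord ++ bWord ++ (uZ 0 0 1 ++ n0Word ++ uZ 1 1 1)) = true ∧
      eqW ((uZ 0 0 1 ++ n0Word ++ uZ 1 1 1) ++ (n0Word ++ aWord ++ bWord))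
        (bWord ++ (uZ 0 0 1 ++ n0Word ++ uZ 1 1 1)) = true ∧
      eqW ((uZ 0 0 1 ++ n0Word ++ uZ 1 1 1) ++ bWord)
        (n0Word ++ (n0Word ++ aWord ++ bWord) ++ (uZ 0 0 1 ++ n0Word ++ uZ 1 1 1)) = true := by
  decide +kernel

end Cfsg.Agent.Twisted.Ree
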