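/-
Two generation of the small Ree group: a torus generator and a unipotent times the Weyl element.
-/
import Cfsg.Agent.Lib.Twisted.Ree.Simple
import Cfsg.Agent.Lib.Twisted.Ree.Mult

set_option autoImplicit false

namespace Cfsg.Agent.Twisted.Ree

open Cfsg.Lie Matrix Chev BNSetup

variable {F : Type*} [Field F] [Fintype F] [CharP F 3] {m : ℕ}

section
variable (hK : Fintype.card F = 3 ^ (2 * m + 1))
include hK

theorem uW_mul_uW (t u v t' u' v' : F) : uW m t u v * uW m t' u' v' =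
    uW m (t + t') (-((t' ^ 3 ^ m) ^ 3 * t) + u + u')
      (-((t' ^ 3 ^ m) ^ 3 * t ^ 2) + v - t' * (-((t' ^ 3 ^ m) ^ 3 * t) + u) + v') := by
  obtain ⟨t₀, u₀, v₀, e⟩ :=
    (mem_U1_iff hK).1 (Subgroup.mul_mem _ (uW_mem_U1 m t u v) (uW_mem_U1 m t' u' v'))
  have e' := e
  simp only [uW] at e'
  rw [uOf_mul] at e'
  obtain ⟨-, h1, -, -, h2, h3⟩ := uOf_inj e'
  rw [e, ← h1, ← h2, ← h3]

omit [CharP F 3] in
theorem exists_pow_eq_sq {c : F} (_hc : c ≠ 0) : ∃ d : F, d ≠ 0 ∧ d ^ (3 ^ (m + 1) + 1) = c ^ 2 := by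
  obtain ⟨j, hj⟩ : ∃ j, 3 ^ (m + 1) = j + 1 := ⟨_, (Nat.sub_add_cancel (Nat.one_le_pow _ _ (by norm_num))).symm⟩
  refine ⟨c ^ j, pow_ne_zero _ _hc, ?_⟩
  have h1 : c ^ ((j + 1) * (j + 1)) = c ^ 3 := by
    rw [← hj, ← pow_add, show m + 1 + (m + 1) = (2 * m + 1) + 1 by ring, pow_succ, pow_mul]
    rw [show c ^ 3 ^ (2 * m + 1) = c from by rw [← hK, FiniteField.pow_card]]
  rw [hj, ← pow_mul]
  have h2 : c ^ (j * (j + 1 + 1)) * c = c ^ 2 * c := by
    rw [← pow_succ, ← pow_succ, show j * (j + 1 + 1) + 1 = (j + 1) * (j + 1) by ring, h1]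
  exact mul_right_cancel₀ _hc h2

omit [CharP F 3] in
theorem exists_ne_pow (hm : 1 ≤ m) : ∃ s : F, s ^ 3 ^ (m + 1) ≠ s := by
  by_contra hall
  push Not at hall
  classical
  have h3 : ∀ s : F, s ^ 3 = s := fun s => by
    have h1 : s ^ 3 ^ (2 * m + 1) = s := by rw [← hK, FiniteField.pow_card]
    have h2 : s ^ 3 ^ (2 * m + 2) = s := by
      rw [show 2 * m + 2 = (m + 1) + (m + 1) by ring, pow_add, pow_mul, hall, hall]
    rwa [pow_succ, pow_mul, h1] at h2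
  have h4 : Fintype.card F ≤ 3 := by
    refine (Finset.card_le_card (t := ({0, 1, -1} : Finset F)) fun s _ => ?_ :
      Finset.univ.card ≤ _).trans Finset.card_le_three
    have : s * ((s - 1) * (s + 1)) = 0 := by linear_combination h3 s
    rcases mul_eq_zero.1 this with h | h
    · simp [h]
    · rcases mul_eq_zero.1 h with h | h
      · simp [sub_eq_zero.1 h]
      · simp [eq_neg_of_add_eq_zero_left h]
  have h5 : 3 ^ 2 ≤ 3 ^ (2 * m + 1) := Nat.pow_le_pow_right (by norm_num) (by omega)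
  omega

theorem exists_mem_H1 {c : F} (hc : c ≠ 0) : ∃ k ∈ H1 F m, wt k = c := by
  obtain ⟨k, hk, hkG, e⟩ := exists_torus hK hc
  exact ⟨k, ⟨hk, hkG⟩, e⟩

theorem exists_pair (hm : 1 ≤ m) : ∃ a ∈ G1 F m, ∃ b ∈ G1 F m,
    Subgroup.closure ({a, b} : Set (GL chevG2.Idx F)) = G1 F m := by
  classical
  obtain ⟨ζ, hζ⟩ := IsCyclic.exists_generator (α := Fˣ)
  obtain ⟨h, hh, hwt⟩ := exists_mem_H1 hK ζ.ne_zero
  set u₀ : GL chevG2.Idx F := uW m 1 0 0 with hu₀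
  refine ⟨h, hh.2, u₀ * n0 F, Subgroup.mul_mem _ (uW_mem_G1 _ _ _ _) (n0_mem_G1 m), ?_⟩
  set M := Subgroup.closure ({h, u₀ * n0 F} : Set (GL chevG2.Idx F)) with hM
  have hb : u₀ * n0 F ∈ M := Subgroup.subset_closure (by simp)
  refine le_antisymm ((Subgroup.closure_le _).2 ?_) ?_
  · rintro x (rfl | rfl)
    · exact hh.2
    · exact Subgroup.mul_mem _ (uW_mem_G1 _ _ _ _) (n0_mem_G1 m)
  -- the torus
  have hH : ∀ k ∈ H1 F m, k ∈ M := by
    intro k hk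
    obtain ⟨j, hj⟩ := Subgroup.mem_zpowers_iff.1 (hζ (torusEquiv hK ⟨k, hk⟩))
    have e1 : torusEquiv hK ⟨h, hh⟩ = ζ := Units.ext hwt
    have e2 : (⟨k, hk⟩ : ↥(H1 F m)) = ⟨h, hh⟩ ^ j :=
      (torusEquiv hK).injective (by rw [map_zpow, e1, hj])
    have e3 : k = h ^ j := by simpa using congrArg Subtype.val e2
    exact e3 ▸ Subgroup.zpow_mem _ (Subgroup.subset_closure (by simp)) j
  have hconj : ∀ c : F, c ≠ 0 → ∀ t u v : F, uW m t u v ∈ M →
      uW m (c * t) (c ^ (3 ^ (m + 1) + 1) * u) (c ^ (3 ^ (m + 1) + 2) * v) ∈ M := by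
    intro c hc t u v hx
    obtain ⟨k, hk, rfl⟩ := exists_mem_H1 hK hc
    rw [← torus_conj_uW hK hk]
    exact M.mul_mem (M.mul_mem (hH k hk) hx) (M.inv_mem (hH k hk))
  -- a first unipotent element
  set k := n0 F * h * (n0 F)⁻¹ with hk
  have hkH : k ∈ H1 F m := ⟨n0_conj_H hh.1,
    Subgroup.mul_mem _ (Subgroup.mul_mem _ (n0_mem_G1 m) hh.2) (Subgroup.inv_mem _ (n0_mem_G1 m))⟩
  have hk1 : wt k ≠ 1 := by
    intro e
    have e1 : k = 1 := torus_eq_of_wt hkH.1 (maps_of_mem_G1 (pow_q hK) hkH.2) (Subgroup.one_mem _)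
      Maps.one (by rw [e]; simp [wt])
    have e2 : h = 1 := by rwa [hk, conj_eq_one_iff] at e1
    have e3 : (ζ : F) = 1 := by rw [← hwt, e2]; simp [wt]
    obtain ⟨s, hs, hs2⟩ := exists_sq_ne_one hK hm
    obtain ⟨j, hj⟩ := Subgroup.mem_zpowers_iff.1 (hζ (Units.mk0 (wt s) (torus_form hs.1).1))
    have e4 : ζ = 1 := Units.ext e3
    rw [e4, _root_.one_zpow] at hj
    exact hs2 (by rw [show wt s = 1 from (congrArg Units.val hj).symm, one_pow])
  obtain ⟨t₁, ht₁, u₁, v₁, hx₁⟩ : ∃ t₁ : F, t₁ ≠ 0 ∧ ∃ u₁ v₁ : F, uW m t₁ u₁ v₁ ∈ M := by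
    have h1 : u₀ * k * u₀⁻¹ * k⁻¹ ∈ M := by
      refine M.mul_mem ?_ (M.inv_mem (hH k hkH))
      have := M.mul_mem (M.mul_mem hb (Subgroup.subset_closure
        (show h ∈ ({h, u₀ * n0 F} : Set (GL chevG2.Idx F)) by simp))) (M.inv_mem hb)
      rwa [hk, show u₀ * (n0 F * h * (n0 F)⁻¹) * u₀⁻¹ = u₀ * n0 F * h * (u₀ * n0 F)⁻¹ by group]
    obtain ⟨t', u', v', e⟩ := (mem_U1_iff hK).1 (Subgroup.inv_mem _ (uW_mem_U1 m (1 : F) 0 0))
    rw [show u₀ * k * u₀⁻¹ * k⁻¹ = u₀ * (k * u₀⁻¹ * k⁻¹) by group, hu₀, e,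
      torus_conj_uW hK hkH, uW_mul_uW hK] at h1
    refine ⟨_, ?_, _, _, h1⟩
    have e' : uW m 1 0 0 * uW m t' u' v' = uW m (0 : F) 0 0 := by
      rw [← e, mul_inv_cancel, uW_zero]
    rw [uW_mul_uW hK] at e'
    obtain ⟨e1, -, -⟩ := uW_inj e'
    intro e2
    exact hk1 (by linear_combination (wt k) * e1 - e2)
  have hall : ∀ t : F, ∃ u v : F, uW m t u v ∈ M := by
    intro t
    by_cases ht : t = 0
    · exact ⟨0, 0, by rw [ht, uW_zero]; exact M.one_mem⟩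
    · have := hconj (t / t₁) (div_ne_zero ht ht₁) _ _ _ hx₁
      rw [div_mul_cancel₀ _ ht₁] at this
      exact ⟨_, _, this⟩
  -- the centre
  have hcen : ∀ v : F, uW m 0 0 v ∈ M := by
    intro v
    have hcube : ∀ t : F, uW m 0 0 (-(t ^ (3 ^ (m + 1) + 2))) ∈ M := by
      intro t
      obtain ⟨u, w, hx⟩ := hall t
      obtain ⟨t₂, u₂, v₂, e⟩ := (mem_U1_iff hK).1 (Subgroup.pow_mem _ (uW_mem_U1 m t u w) 3)
      have e' := e
      simp only [uW] at e'
      rw [uOf_cube] at e'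
      obtain ⟨-, e1, -, -, e2, e3⟩ := uOf_inj e'
      have h2 := M.pow_mem hx 3
      rw [e, ← e1, ← e2, ← e3] at h2
      convert h2 using 3
      rw [pow_add, pow_succ 3 m, pow_mul]
    have hinj : Function.Injective fun t : F => t ^ (3 ^ (m + 1) + 2) := by
      intro a b hab
      simp only at hab
      by_cases hb0 : b = 0
      · rw [hb0, zero_pow (by positivity)] at hab
        rw [hb0, eq_zero_of_pow_eq_zero hab]
      · have h2 : (a / b) ^ (3 ^ (m + 1) + 2) = 1 := by rw [div_pow, hab, div_self (pow_ne_zero _ hb0)]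
        have hab0 : a / b ≠ 0 := fun e => by rw [e, zero_pow (by positivity)] at h2; exact zero_ne_one h2
        exact (div_eq_one_iff_eq hb0).1 (eq_one_of_pow hK hab0 h2)
    obtain ⟨t, ht⟩ := Finite.injective_iff_surjective.1 hinj (-v)
    have := hcube t
    simp only at ht
    rwa [ht, neg_neg] at this
  -- the middle layer
  have hdrop : ∀ u v : F, uW m 0 u v ∈ M → uW m 0 u 0 ∈ M := by
    intro u v hx
    have := M.mul_mem hx (hcen (-v))
    rw [uW_mul_uW hK] at this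
    simpa using this
  obtain ⟨x, hx0, hx⟩ : ∃ x : F, x ≠ 0 ∧ uW m 0 x 0 ∈ M := by
    obtain ⟨s, hs⟩ := exists_ne_pow hK hm
    obtain ⟨u, v, hg⟩ := hall 1
    obtain ⟨u', v', hg'⟩ := hall s
    obtain ⟨t₂, u₂, v₂, e⟩ := (mem_U1_iff hK).1 (Subgroup.mul_mem _
      (Subgroup.mul_mem _ (uW_mem_U1 m (1 : F) u v) (uW_mem_U1 m s u' v'))
      (Subgroup.inv_mem _ (Subgroup.mul_mem _ (uW_mem_U1 m s u' v') (uW_mem_U1 m (1 : F) u v))))
    have h2 := M.mul_mem (M.mul_mem hg hg') (M.inv_mem (M.mul_mem hg' hg))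
    rw [e] at h2
    rw [mul_inv_eq_iff_eq_mul, uW_mul_uW hK, uW_mul_uW hK, uW_mul_uW hK] at e
    obtain ⟨e1, e2, -⟩ := uW_inj e
    obtain rfl : t₂ = 0 := by linear_combination -e1
    refine ⟨u₂, fun hu => hs ?_, hdrop _ _ h2⟩
    have e3 : (s ^ 3 ^ m) ^ 3 = s ^ 3 ^ (m + 1) := by rw [← pow_mul, pow_succ]
    simp only [one_pow, mul_one, one_mul, hu, zero_add, mul_zero, neg_zero, e3] at e2
    linear_combination -e2
  have hadd : ∀ a b : F, uW m 0 a 0 ∈ M → uW m 0 b 0 ∈ M → uW m 0 (a + b) 0 ∈ M := by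
    intro a b ha hb'
    have := M.mul_mem ha hb'
    rw [uW_mul_uW hK] at this
    simpa using this
  have hneg : ∀ a : F, uW m 0 a 0 ∈ M → uW m 0 (-a) 0 ∈ M := by
    intro a ha
    have h3 : (3 : F) = 0 := by exact_mod_cast CharP.cast_eq_zero F 3
    have := hadd _ _ ha ha
    rwa [show a + a = -a by linear_combination a * h3] at this
  have hsq : ∀ c : F, uW m 0 (c ^ 2 * x) 0 ∈ M := by
    intro c
    by_cases hc : c = 0
    · simp [hc, uW_zero, M.one_mem]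
    · obtain ⟨d, hd, hdc⟩ := exists_pow_eq_sq hK hc
      have := hconj d hd _ _ _ hx
      simpa [hdc] using this
  have hmid : ∀ a : F, uW m 0 a 0 ∈ M := by
    intro a
    have := hadd _ _ (hsq (a / x + 1)) (hneg _ (hsq (a / x - 1)))
    have h3 : (3 : F) = 0 := by exact_mod_cast CharP.cast_eq_zero F 3
    convert this using 2
    field_simp
    linear_combination (-(a * x)) * h3
  have hU : ∀ t u v : F, uW m t u v ∈ M := by
    intro t u v
    obtain ⟨u', v', hx'⟩ := hall t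
    have := M.mul_mem (M.mul_mem hx' (hmid (u - u'))) (hcen (v - v' + 0))
    rw [uW_mul_uW hK, uW_mul_uW hK] at this
    convert this using 2 <;> simp
  have hn0 : n0 F ∈ M := by
    have := M.mul_mem (M.inv_mem (hU 1 0 0)) hb
    rwa [hu₀, inv_mul_cancel_left] at this
  intro g hg
  exact G1_induction (P := fun g => (g : GL chevG2.Idx F) ∈ M) hU
    (fun t u v => M.mul_mem (M.mul_mem hn0 (hU t u v)) (M.inv_mem hn0)) M.one_mem
    (fun _ _ => M.mul_mem) (fun _ => M.inv_mem) ⟨g, hg⟩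

end

end Cfsg.Agent.Twisted.Ree
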