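/-
²G₂(3): a homomorphism onto the group of order three and the simple kernel of order 504.
-/
import Cfsg.Agent.Lib.Twisted.Ree.Generation
import Cfsg.Agent.Lib.Transfer.Invariant
import Cfsg.Agent.Lib.PGroup.Frattini
import Cfsg.Agent.S0496

set_option autoImplicit false
set_option linter.style.haveILetI false

namespace Cfsg.Agent.Twisted.Ree

open Cfsg.Lie Matrix Chev BNSetup
open scoped commutatorElement

variable {F : Type*} [Field F] [Fintype F] [CharP F 3] (hK : Fintype.card F = 3 ^ (2 * 0 + 1))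
include hK

theorem cube_eq (x : F) : x ^ 3 = x := by
  have := FiniteField.pow_card x
  rwa [hK, Nat.mul_zero, Nat.zero_add, pow_one] at this

theorem sq_eq_one {c : F} (hc : c ≠ 0) : c ^ 2 = 1 :=
  mul_left_cancel₀ hc (by rw [mul_one, ← pow_succ', cube_eq hK])

/-- U inside the group. -/
abbrev Usub (F : Type*) [Field F] : Subgroup ↥(G1 F 0) := (U1 F 0).subgroupOf (G1 F 0)

/-- An element of U inside the group. -/
def uel (t u v : F) : ↥(G1 F 0) := ⟨uW 0 t u v, uW_mem_G1 _ _ _ _⟩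

omit hK [Fintype F] in
theorem uel_mem (t u v : F) : uel t u v ∈ Usub F := Subgroup.mem_subgroupOf.2 (uW_mem_U1 0 t u v)

theorem exists_uel {x : ↥(G1 F 0)} (hx : x ∈ Usub F) : ∃ t u v, x = uel t u v := by
  obtain ⟨t, u, v, e⟩ := (mem_U1_iff hK).1 (Subgroup.mem_subgroupOf.1 hx)
  exact ⟨t, u, v, Subtype.ext e⟩

theorem uel_mul (t u v t' u' v' : F) : ∃ w, uel t u v * uel t' u' v' =
    uel (t + t') (u + u' - t * t') w := by
  refine ⟨-((t' ^ 3 ^ 0) ^ 3 * t ^ 2) + v - t' * (-((t' ^ 3 ^ 0) ^ 3 * t) + u) + v', Subtype.ext ?_⟩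
  show uW 0 t u v * uW 0 t' u' v' = uW 0 _ _ _
  rw [uW_mul_uW hK, show -((t' ^ 3 ^ 0) ^ 3 * t) + u + u' = u + u' - t * t' by
    rw [pow_zero, pow_one, cube_eq hK]; ring]

/-- The coordinates of an element of U. -/
noncomputable def tc (x : ↥(Usub F)) : F := (exists_uel hK x.2).choose

/-- The second coordinate. -/
noncomputable def uc (x : ↥(Usub F)) : F := (exists_uel hK x.2).choose_spec.choose

theorem coords_eq {x : ↥(Usub F)} {t u v : F} (e : x.1 = uel t u v) : tc hK x = t ∧ uc hK x = u := by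
  obtain ⟨w, hw⟩ := (exists_uel hK x.2).choose_spec.choose_spec
  obtain ⟨h1, h2, -⟩ := uW_inj (congrArg Subtype.val (e.symm.trans hw) : uW 0 t u v = uW 0 _ _ w)
  exact ⟨h1.symm, h2.symm⟩

theorem exists_coords (x : ↥(Usub F)) : ∃ w, x.1 = uel (tc hK x) (uc hK x) w :=
  (exists_uel hK x.2).choose_spec.choose_spec

/-- The character u - t². -/
noncomputable def chiU : ↥(Usub F) →* Multiplicative F where
  toFun x := Multiplicative.ofAdd (uc hK x - tc hK x ^ 2)
  map_one' := by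
    obtain ⟨h1, h2⟩ := coords_eq hK (x := 1) (t := 0) (u := 0) (v := 0) (Subtype.ext (uW_zero 0).symm)
    rw [h1, h2]
    simp
  map_mul' a b := by
    obtain ⟨w₁, h₁⟩ := exists_coords hK a
    obtain ⟨w₂, h₂⟩ := exists_coords hK b
    obtain ⟨w, hw⟩ := uel_mul hK (tc hK a) (uc hK a) w₁ (tc hK b) (uc hK b) w₂
    obtain ⟨h1, h2⟩ := coords_eq hK (x := a * b) (v := w) ((congrArg₂ (· * ·) h₁ h₂).trans hw)
    show Multiplicative.ofAdd _ = Multiplicative.ofAdd _
    rw [h1, h2]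
    have h3 : (3 : F) = 0 := by exact_mod_cast CharP.cast_eq_zero F 3
    congr 1
    show _ = uc hK a - tc hK a ^ 2 + (uc hK b - tc hK b ^ 2)
    linear_combination (-(tc hK a) * tc hK b) * h3

theorem chiU_uel (t u v : F) :
    chiU hK ⟨uel t u v, uel_mem t u v⟩ = Multiplicative.ofAdd (u - t ^ 2) := by
  obtain ⟨h1, h2⟩ := coords_eq hK (x := ⟨uel t u v, uel_mem t u v⟩) rfl
  show Multiplicative.ofAdd _ = _
  rw [h1, h2]

theorem chiU_torus {k : ↥(G1 F 0)} (hk : (k : GL chevG2.Idx F) ∈ H1 F 0) {x : ↥(G1 F 0)}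
    (hx : x ∈ Usub F) : ∃ h : k * x * k⁻¹ ∈ Usub F, chiU hK ⟨_, h⟩ = chiU hK ⟨x, hx⟩ := by
  obtain ⟨t, u, v, rfl⟩ := exists_uel hK hx
  set c := wt (k : GL chevG2.Idx F)
  have hc : c ^ 2 = 1 := sq_eq_one hK (torus_form hk.1).1
  have e : k * uel t u v * k⁻¹ = uel (c * t) u (c ^ (3 ^ (0 + 1) + 2) * v) := Subtype.ext (by
    show (k : GL chevG2.Idx F) * uW 0 t u v * (k : GL chevG2.Idx F)⁻¹ = uW 0 _ _ _
    rw [torus_conj_uW hK hk, show (3 : ℕ) ^ (0 + 1) + 1 = 2 * 2 by norm_num, pow_mul, hc, one_pow,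
      one_mul])
  refine ⟨e ▸ uel_mem _ _ _, ?_⟩
  simp only [e, chiU_uel, mul_pow, hc, one_mul]

theorem exists_mem_borel {g : ↥(G1 F 0)} (hg : (g : GL chevG2.Idx F) ∈ chevG2.borelSubgroup F) :
    ∃ u ∈ Usub F, ∃ k : ↥(G1 F 0), (k : GL chevG2.Idx F) ∈ H1 F 0 ∧ g = u * k := by
  obtain ⟨u, hu, k, hk, e⟩ := exists_of_mem_B1 hK ⟨hg, g.2⟩
  exact ⟨⟨u, hu.2⟩, hu, ⟨k, hk.2⟩, hk, Subtype.ext e⟩

theorem chiU_invariant (g : ↥(G1 F 0)) (x : ↥(Usub F)) (h : g⁻¹ * x.1 * g ∈ Usub F) :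
    chiU hK ⟨_, h⟩ = chiU hK x := by
  by_cases hB : ((g⁻¹ : ↥(G1 F 0)) : GL chevG2.Idx F) ∈ chevG2.borelSubgroup F
  · obtain ⟨u, hu, k, hk, e⟩ := exists_mem_borel hK hB
    obtain ⟨h1, h2⟩ := chiU_torus hK hk x.2
    have e' : (⟨_, h⟩ : ↥(Usub F)) = ⟨u, hu⟩ * ⟨_, h1⟩ * ⟨u, hu⟩⁻¹ := Subtype.ext (by
      show g⁻¹ * x.1 * g = u * (k * x.1 * k⁻¹) * u⁻¹
      rw [← inv_inv g, inv_inv g⁻¹, e]
      group)
    rw [e', map_mul, map_mul, map_inv, h2, mul_right_comm, mul_inv_cancel, one_mul]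
  · obtain ⟨u, hu, k, hk, w, hw, e⟩ := exists_of_not_mem_B1 hK (g⁻¹).2 hB
    have hx : w * ((x.1 : ↥(G1 F 0)) : GL chevG2.Idx F) * w⁻¹ ∈ U1 F 0 :=
      mul_mem (mul_mem hw x.2) (inv_mem hw)
    have h' : ((g⁻¹ * x.1 * g : ↥(G1 F 0)) : GL chevG2.Idx F) ∈ U1 F 0 := h
    have e2 : n0 F * (w * ((x.1 : ↥(G1 F 0)) : GL chevG2.Idx F) * w⁻¹) * (n0 F)⁻¹ =
        k⁻¹ * (u⁻¹ * ((g⁻¹ * x.1 * g : ↥(G1 F 0)) : GL chevG2.Idx F) * u) * k⁻¹⁻¹ := by
      simp only [Subgroup.coe_mul]
      rw [e, show ((g : GL chevG2.Idx F)) = (((g⁻¹ : ↥(G1 F 0)) : GL chevG2.Idx F))⁻¹ by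
        rw [Subgroup.coe_inv, inv_inv], e]
      group
    have h3 : w * ((x.1 : ↥(G1 F 0)) : GL chevG2.Idx F) * w⁻¹ = 1 := by
      refine eq_one_of_conj_mem hx.1 (e2 ▸ U1_le_borel (conj_U1_by_H1 hK (inv_mem hk) ?_))
      exact mul_mem (mul_mem (inv_mem hu) h') hu
    rw [conj_eq_one_iff] at h3
    obtain rfl : x = 1 := Subtype.ext (Subtype.ext h3)
    rw [show (⟨g⁻¹ * (1 : ↥(Usub F)).1 * g, h⟩ : ↥(Usub F)) = 1 from Subtype.ext (by simp)]

theorem card_Gm : Nat.card ↥(G1 F 0) = 1512 := by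
  rw [card_G1 hK]; rfl

theorem card_Usub : Nat.card ↥(Usub F) = 27 := by
  rw [Nat.card_congr (Subgroup.subgroupOfEquivOfLe inf_le_right).toEquiv, card_U1 hK]; rfl

theorem index_Usub : (Usub F).index = 56 := by
  have h := Subgroup.card_mul_index (Usub F)
  rw [card_Usub hK, card_Gm hK] at h
  omega

/-- The transfer. -/
noncomputable def sgn : ↥(G1 F 0) →* Multiplicative F :=
  MonoidHom.transfer (chiU hK)

theorem sgn_uel (t u v : F) :
    sgn hK (uel t u v) = Multiplicative.ofAdd (2 * (u - t ^ 2)) := by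
  rw [sgn, show uel t u v = ((⟨uel t u v, uel_mem t u v⟩ : ↥(Usub F)) : ↥(G1 F 0)) from rfl,
    TransferInvariant.transfer_apply (chiU hK) (chiU_invariant hK), index_Usub hK, chiU_uel,
    ← ofAdd_nsmul]
  congr 1
  have h3 : (3 : F) = 0 := by exact_mod_cast CharP.cast_eq_zero F 3
  rw [nsmul_eq_mul]
  push_cast
  linear_combination (18 * (u - t ^ 2)) * h3

theorem sgn_surjective : Function.Surjective (sgn hK) := by
  intro a
  refine ⟨uel 0 (2 * Multiplicative.toAdd a) 0, ?_⟩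
  rw [sgn_uel hK]
  apply Multiplicative.toAdd.injective
  have h3 : (3 : F) = 0 := by exact_mod_cast CharP.cast_eq_zero F 3
  show 2 * (2 * Multiplicative.toAdd a - (0 : F) ^ 2) = Multiplicative.toAdd a
  linear_combination (Multiplicative.toAdd a) * h3

theorem index_commutator_le : (commutator ↥(G1 F 0)).index ≤ 3 := by
  classical
  set π := Abelianization.of (G := ↥(G1 F 0))
  have h3 : (3 : F) = 0 := by exact_mod_cast CharP.cast_eq_zero F 3
  obtain ⟨k, hk, hwt⟩ := exists_mem_H1 hK (show (-1 : F) ≠ 0 by simp)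
  set K : ↥(G1 F 0) := ⟨k, hk.2⟩
  have hflip : ∀ t u v : F, π (uel t u v) = π (uel (-t) u (-v)) := by
    intro t u v
    have e : K * uel t u v * K⁻¹ = uel (-t) u (-v) := Subtype.ext (by
      show k * uW 0 t u v * k⁻¹ = _
      rw [torus_conj_uW hK hk, hwt]
      show uW 0 _ _ _ = uW 0 _ _ _
      congr 1 <;> norm_num)
    rw [← e, map_mul, map_mul, map_inv, mul_right_comm, mul_inv_cancel, one_mul]
  have hpow : ∀ x : ↥(Usub F), (chiU hK x) ^ 3 = 1 := by
    intro x
    apply Multiplicative.toAdd.injective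
    show (3 : ℕ) • Multiplicative.toAdd (chiU hK x) = 0
    rw [nsmul_eq_mul]
    push_cast
    rw [h3, zero_mul]
  have hadd : ∀ u v u' v' : F, π (uel 0 u v) * π (uel 0 u' v') = π (uel 0 (u + u') (v + v')) := by
    intro u v u' v'
    rw [← map_mul]
    refine congrArg π (Subtype.ext ((uW_mul_uW hK 0 u v 0 u' v').trans ?_))
    show uW 0 _ _ _ = uW 0 _ _ _
    congr 1 <;> ring
  have hv : ∀ v : F, π (uel 0 0 v) = 1 := by
    intro v
    have h1 : π (uel 0 0 v) * π (uel 0 0 v) = 1 := by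
      have e := hflip 0 0 v
      rw [neg_zero] at e
      conv_lhs => arg 1; rw [e]
      rw [hadd, neg_add_cancel, add_zero]
      exact (congrArg π (Subtype.ext (uW_zero 0) : uel (0 : F) 0 0 = 1)).trans (map_one π)
    have h2 : π (uel 0 0 v) * π (uel 0 0 v) * π (uel 0 0 v) = 1 := by
      rw [hadd, hadd, show v + v + v = 0 by linear_combination v * h3, add_zero, add_zero]
      exact (congrArg π (Subtype.ext (uW_zero 0) : uel (0 : F) 0 0 = 1)).trans (map_one π)
    rwa [h1, one_mul] at h2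
  set b := π (uel (0 : F) 1 0)
  have hu : ∀ u v : F, π (uel 0 u v) = π (uel 0 u 0) := by
    intro u v
    rw [show π (uel 0 u v) = π (uel 0 u 0) * π (uel 0 0 v) by rw [hadd, add_zero, zero_add], hv, mul_one]
  have htzero : ∀ u v : F, π (uel 0 u v) ∈ Subgroup.zpowers b := by
    intro u v
    rw [hu]
    have hcases : u = 0 ∨ u = 1 ∨ u = -1 := by
      by_cases h : u = 0
      · exact Or.inl h
      · exact Or.inr (mul_self_eq_one_iff.1 (by rw [← sq, sq_eq_one hK h]))
    rcases hcases with rfl | rfl | rfl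
    · rw [(congrArg π (Subtype.ext (uW_zero 0) : uel (0 : F) 0 0 = 1)).trans (map_one π)]
      exact one_mem _
    · exact Subgroup.mem_zpowers b
    · have : π (uel (0 : F) (-1) 0) = b * b := by
        rw [hadd, add_zero, show (1 : F) + 1 = -1 by linear_combination h3]
      rw [this]
      exact mul_mem (Subgroup.mem_zpowers b) (Subgroup.mem_zpowers b)
  have hall : ∀ t u v : F, π (uel t u v) ∈ Subgroup.zpowers b := by
    intro t u v
    -- the cube lies in the kernel and the square in ⟨b⟩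
    have h2 : π (uel t u v) * π (uel t u v) ∈ Subgroup.zpowers b := by
      rw [show π (uel t u v) * π (uel t u v) = π (uel t u v * uel (-t) u (-v)) by rw [map_mul, ← hflip]]
      obtain ⟨w, hw⟩ := uel_mul hK t u v (-t) u (-v)
      rw [hw, add_neg_cancel]
      exact htzero _ _
    have h3' : π (uel t u v) * π (uel t u v) * π (uel t u v) ∈ Subgroup.zpowers b := by
      rw [← map_mul, ← map_mul]
      obtain ⟨w, hw⟩ := uel_mul hK t u v t u v
      obtain ⟨w', hw'⟩ := uel_mul hK (t + t) (u + u - t * t) w t u v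
      rw [hw, hw', show t + t + t = 0 by linear_combination t * h3]
      exact htzero _ _
    have := (Subgroup.zpowers b).mul_mem ((Subgroup.zpowers b).inv_mem h2) h3'
    rwa [inv_mul_cancel_left] at this
  have htop : ∀ g : ↥(G1 F 0), π g ∈ Subgroup.zpowers b := by
    intro g
    refine G1_induction (P := fun g => π g ∈ Subgroup.zpowers b) hall (fun t u v => ?_) ?_
      (fun a c ha hc => by rw [map_mul]; exact mul_mem ha hc)
      (fun a ha => by rw [map_inv]; exact inv_mem ha) g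
    · have e : (⟨vW 0 t u v, vW_mem_G1 _ _ _ _⟩ : ↥(G1 F 0)) =
          ⟨n0 F, n0_mem_G1 0⟩ * uel t u v * ⟨n0 F, n0_mem_G1 0⟩⁻¹ := rfl
      rw [e, map_mul, map_mul, map_inv, mul_right_comm, mul_inv_cancel, one_mul]
      exact hall t u v
    · rw [map_one]; exact one_mem _
  have hb3 : b ^ 3 = 1 := by
    rw [pow_succ, sq, hadd, hadd, show (1 : F) + 1 + 1 = 0 by linear_combination h3, add_zero, add_zero]
    exact (congrArg π (Subtype.ext (uW_zero 0) : uel (0 : F) 0 0 = 1)).trans (map_one π)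
  have hcard : Nat.card (Abelianization ↥(G1 F 0)) ≤ 3 := by
    rw [← Subgroup.card_top (G := Abelianization ↥(G1 F 0)),
      show (⊤ : Subgroup (Abelianization ↥(G1 F 0))) = Subgroup.zpowers b from
        (eq_top_iff.2 fun a _ => by
          obtain ⟨g, rfl⟩ := QuotientGroup.mk_surjective a
          exact htop g).symm, Nat.card_zpowers]
    exact orderOf_le_of_pow_eq_one (by norm_num) hb3
  exact hcard

theorem index_commutator : (commutator ↥(G1 F 0)).index = 3 ∧ commutator ↥(G1 F 0) = (sgn hK).ker := by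
  have h2 : (sgn hK).ker.index = 3 := by
    rw [Subgroup.index_ker, MonoidHom.range_eq_top.2 (sgn_surjective hK), Subgroup.card_top,
      Nat.card_congr Multiplicative.toAdd, Nat.card_eq_fintype_card, hK]
    rfl
  have hle := Abelianization.commutator_subset_ker (sgn hK)
  have h1 := Subgroup.index_antitone hle
  have h3 := index_commutator_le hK
  rw [h2] at h1
  have h4 : (commutator ↥(G1 F 0)).index = 3 := le_antisymm h3 h1
  refine ⟨h4, Subgroup.eq_of_le_of_card_ge hle ?_⟩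
  have e1 := Subgroup.card_mul_index (commutator ↥(G1 F 0))
  have e2 := Subgroup.card_mul_index (sgn hK).ker
  rw [h4] at e1
  rw [h2] at e2
  omega

theorem card_commutator : Nat.card ↥(commutator ↥(G1 F 0)) = 504 := by
  have e1 := Subgroup.card_mul_index (commutator ↥(G1 F 0))
  rw [(index_commutator hK).1, card_Gm hK] at e1
  omega

theorem commutator_le_of_normal {M : Subgroup ↥(G1 F 0)} [hM : M.Normal] (hM0 : M ≠ ⊥) :
    commutator ↥(G1 F 0) ≤ M := by
  haveI : Fact (Nat.Prime 3) := ⟨Nat.prime_three⟩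
  set B := (chevG2.borelSubgroup F ⊓ G1 F 0).subgroupOf (G1 F 0)
  have hle : ¬ M ≤ B := fun h => hM0 (le_bot_iff.1 (by
    rw [← core_eq_bot hK]; exact Subgroup.normal_le_normalCore.2 h))
  obtain ⟨g, hgM, hgB⟩ := SetLike.not_le_iff_exists.1 hle
  have hBmem : ∀ {x : ↥(G1 F 0)}, (x : GL chevG2.Idx F) ∈ chevG2.borelSubgroup F → x ∈ B :=
    fun hx => Subgroup.mem_subgroupOf.2 ⟨hx, Subtype.coe_prop _⟩
  obtain ⟨u, hu, k, hk, w, hw, e⟩ := exists_of_not_mem_B1 hK g.2 fun h => hgB (hBmem h)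
  have hn : (⟨n0 F, n0_mem_G1 0⟩ : ↥(G1 F 0)) ∈ M ⊔ B := by
    have e' : (⟨n0 F, n0_mem_G1 0⟩ : ↥(G1 F 0)) =
        (⟨u, hu.2⟩ * ⟨k, hk.2⟩)⁻¹ * g * (⟨w, hw.2⟩ : ↥(G1 F 0))⁻¹ := Subtype.ext (by
      simp only [Subgroup.coe_mul, Subgroup.coe_inv, e]
      group)
    rw [e']
    exact mul_mem (mul_mem (inv_mem (mul_mem (Subgroup.mem_sup_right (hBmem (U1_le_borel hu)))
      (Subgroup.mem_sup_right (hBmem (H1_le_borel hk))))) (Subgroup.mem_sup_left hgM))
      (inv_mem (Subgroup.mem_sup_right (hBmem (U1_le_borel hw))))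
  have hU : ∀ t u v : F, uel t u v ∈ M ⊔ B := fun t u v =>
    Subgroup.mem_sup_right (hBmem (U1_le_borel (uW_mem_U1 0 t u v)))
  have htop : ∀ x : ↥(G1 F 0), x ∈ M ⊔ B := fun x =>
    G1_induction (P := fun x => x ∈ M ⊔ B) hU
      (fun t u v => mul_mem (mul_mem hn (hU t u v)) (inv_mem hn)) (one_mem _) (fun _ _ => mul_mem)
      (fun _ => inv_mem) x
  set π := QuotientGroup.mk' M
  set R := (Usub F).map π
  have hQ : ∀ q, ∃ r ∈ R, ∃ k : ↥(G1 F 0), (k : GL chevG2.Idx F) ∈ H1 F 0 ∧ q = r * π k := by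
    intro q
    obtain ⟨x, rfl⟩ := QuotientGroup.mk_surjective q
    obtain ⟨a, ha, b, hb, rfl⟩ := Subgroup.mem_sup_of_normal_left.1 (htop x)
    obtain ⟨u, hu, k, hk, rfl⟩ := exists_mem_borel hK (Subgroup.mem_subgroupOf.1 hb).1
    refine ⟨π u, Subgroup.mem_map_of_mem π hu, k, hk, ?_⟩
    show π (a * (u * k)) = _
    rw [map_mul, map_mul, show π a = 1 from (QuotientGroup.eq_one_iff a).2 ha, one_mul]
  have hRn : R.Normal := by
    refine ⟨fun r hr q => ?_⟩
    obtain ⟨x, hx, rfl⟩ := hr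
    obtain ⟨r', hr', k, hk, rfl⟩ := hQ q
    obtain ⟨h1, -⟩ := chiU_torus hK hk hx
    have := mul_mem (mul_mem hr' (Subgroup.mem_map_of_mem π h1)) (inv_mem hr')
    rwa [map_mul, map_mul, map_inv, show r' * (π k * π x * (π k)⁻¹) * r'⁻¹ =
      r' * π k * π x * (r' * π k)⁻¹ by group] at this
  obtain ⟨h3, -⟩ := index_commutator hK
  have hsurR : R = ⊤ := by
    set ψ := (QuotientGroup.mk' R).comp π
    have hcomm : ∀ a b : (↥(G1 F 0) ⧸ M) ⧸ R, a * b = b * a := by
      intro a b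
      obtain ⟨qa, rfl⟩ := QuotientGroup.mk_surjective a
      obtain ⟨qb, rfl⟩ := QuotientGroup.mk_surjective b
      obtain ⟨ra, hra, ka, hka, rfl⟩ := hQ qa
      obtain ⟨rb, hrb, kb, hkb, rfl⟩ := hQ qb
      have hk : ka * kb = kb * ka := Subtype.ext (by
        haveI := isCyclic_H1 hK
        letI := IsCyclic.commGroup (α := ↥(H1 F 0))
        exact congrArg (fun z : ↥(H1 F 0) => (z : GL chevG2.Idx F)) (mul_comm (⟨_, hka⟩ : ↥(H1 F 0)) ⟨_, hkb⟩))
      simp only [QuotientGroup.mk_mul, (QuotientGroup.eq_one_iff ra).2 hra,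
        (QuotientGroup.eq_one_iff rb).2 hrb, one_mul]
      rw [← QuotientGroup.mk_mul, ← QuotientGroup.mk_mul, ← map_mul, ← map_mul, hk]
    have hker : commutator ↥(G1 F 0) ≤ ψ.ker := by
      rw [commutator_def, Subgroup.commutator_le]
      intro a _ b _
      rw [MonoidHom.mem_ker, map_commutatorElement, commutatorElement_eq_one_iff_commute]
      exact hcomm _ _
    have hdvd := Subgroup.index_dvd_of_le hker
    rw [h3] at hdvd
    have hrange : ψ.ker.index ∣ 2 := by
      rw [Subgroup.index_ker]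
      let θ : ↥(H1 F 0) →* (↥(G1 F 0) ⧸ M) ⧸ R := ψ.comp (Subgroup.inclusion inf_le_right)
      have hle : ψ.range = θ.range := by
        refine le_antisymm ?_ (by rintro _ ⟨x, rfl⟩; exact ⟨_, rfl⟩)
        rintro _ ⟨x, rfl⟩
        obtain ⟨r, hr, k, hk, e⟩ := hQ (π x)
        refine ⟨⟨k, hk⟩, ?_⟩
        show ψ k = ψ x
        show QuotientGroup.mk (π k) = QuotientGroup.mk (π x)
        rw [e, QuotientGroup.mk_mul, (QuotientGroup.eq_one_iff r).2 hr, one_mul]
      rw [hle]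
      exact (Subgroup.card_range_dvd θ).trans (dvd_of_eq (card_H1 hK))
    have h1 : ψ.ker.index = 1 := Nat.eq_one_of_dvd_coprimes (by norm_num) hrange hdvd
    refine eq_top_iff.2 fun q _ => ?_
    obtain ⟨x, rfl⟩ := QuotientGroup.mk_surjective q
    have : x ∈ ψ.ker := by rw [Subgroup.index_eq_one.1 h1]; exact Subgroup.mem_top x
    exact (QuotientGroup.eq_one_iff (π x)).1 (MonoidHom.mem_ker.1 this)
  have hp : IsPGroup 3 (↥(G1 F 0) ⧸ M) := by
    have hU3 : IsPGroup 3 ↥(Usub F) := IsPGroup.of_card (n := 3) (by rw [card_Usub hK]; rfl)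
    refine hU3.of_surjective (π.comp (Usub F).subtype) fun q => ?_
    obtain ⟨x, hx, e⟩ := hsurR.ge (Subgroup.mem_top q)
    exact ⟨⟨x, hx⟩, e⟩
  -- a p-group whose abelianization is cyclic is cyclic
  obtain ⟨a, -, ha⟩ : ∃ a ∈ (⊤ : Subgroup ↥(G1 F 0)), a ∉ commutator ↥(G1 F 0) :=
    SetLike.exists_of_lt (lt_top_iff_ne_top.2 fun h => by rw [h, Subgroup.index_top] at h3; omega)
  have hmap : (commutator ↥(G1 F 0)).map π = commutator (↥(G1 F 0) ⧸ M) := by
    rw [commutator_def, Subgroup.map_commutator,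
      Subgroup.map_top_of_surjective π (QuotientGroup.mk'_surjective M), commutator_def]
  have hgen : Subgroup.zpowers a ⊔ commutator ↥(G1 F 0) = ⊤ := by
    have hd : (Subgroup.zpowers a ⊔ commutator ↥(G1 F 0)).index ∣ 3 :=
      h3 ▸ Subgroup.index_dvd_of_le le_sup_right
    rcases (Nat.dvd_prime Nat.prime_three).1 hd with h | h
    · exact Subgroup.index_eq_one.1 h
    · exfalso
      refine ha ?_
      have e : commutator ↥(G1 F 0) = Subgroup.zpowers a ⊔ commutator ↥(G1 F 0) := by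
        refine Subgroup.eq_of_le_of_card_ge le_sup_right ?_
        have e1 := Subgroup.card_mul_index (commutator ↥(G1 F 0))
        have e2 := Subgroup.card_mul_index (Subgroup.zpowers a ⊔ commutator ↥(G1 F 0))
        rw [h3] at e1
        rw [h] at e2
        omega
      rw [e]
      exact Subgroup.mem_sup_left (Subgroup.mem_zpowers a)
  have hgen' : Subgroup.zpowers (π a) ⊔ frattini (↥(G1 F 0) ⧸ M) = ⊤ := by
    have e := congrArg (Subgroup.map π) hgen
    rw [Subgroup.map_sup, MonoidHom.map_zpowers, hmap,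
      Subgroup.map_top_of_surjective π (QuotientGroup.mk'_surjective M)] at e
    exact eq_top_iff.2 (e.ge.trans (sup_le_sup_left (PGroup.commutator_le_frattini hp) _))
  have hcyc := frattini_nongenerating hgen'
  haveI : IsCyclic (↥(G1 F 0) ⧸ M) := ⟨π a, fun q => hcyc.ge (Subgroup.mem_top q)⟩
  intro x hx
  have hbot : commutator (↥(G1 F 0) ⧸ M) = ⊥ := by
    rw [commutator_eq_bot_iff_center_eq_top, eq_top_iff]
    intro y _
    rw [Subgroup.mem_center_iff]
    intro z
    letI := IsCyclic.commGroup (α := ↥(G1 F 0) ⧸ M)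
    exact mul_comm z y
  have hx' : π x ∈ commutator (↥(G1 F 0) ⧸ M) := hmap ▸ Subgroup.mem_map_of_mem π hx
  rw [hbot, Subgroup.mem_bot] at hx'
  exact (QuotientGroup.eq_one_iff x).1 hx'

omit [Field F] [Fintype F] [CharP F 3] hK in
theorem map_subtype_normal {P : Type*} [Group P] {T : Subgroup P} [T.Normal] (C : Subgroup ↥T)
    [C.Characteristic] : (C.map T.subtype).Normal := by
  infer_instance

theorem not_commutative : ¬ IsMulCommutative ↥(commutator ↥(G1 F 0)) := by
  intro h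
  obtain ⟨-, e⟩ := index_commutator hK
  obtain ⟨k, hk, hwt⟩ := exists_mem_H1 hK (show (-1 : F) ≠ 0 by simp)
  have h3 : (3 : F) = 0 := by exact_mod_cast CharP.cast_eq_zero F 3
  have hx : uel (1 : F) 1 0 ∈ (sgn hK).ker := by
    rw [MonoidHom.mem_ker, sgn_uel hK]
    simp
  have hkT : (⟨k, hk.2⟩ : ↥(G1 F 0)) ∈ (sgn hK).ker := by
    rw [MonoidHom.mem_ker]
    set a := sgn hK ⟨k, hk.2⟩
    have hk2 : (⟨k, hk.2⟩ : ↥(G1 F 0)) * ⟨k, hk.2⟩ = 1 := by
      refine Subtype.ext ?_
      have e2 : (⟨k, hk⟩ : ↥(H1 F 0)) * ⟨k, hk⟩ = 1 :=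
        (torusEquiv hK).injective (Units.ext (by
          rw [map_mul, map_one]
          show wt k * wt k = 1
          rw [hwt]; simp))
      exact congrArg (fun z : ↥(H1 F 0) => (z : GL chevG2.Idx F)) e2
    have ha2 : a * a = 1 := by rw [← map_mul, hk2, map_one]
    apply Multiplicative.toAdd.injective
    have h2 : Multiplicative.toAdd a + Multiplicative.toAdd a = 0 := congrArg Multiplicative.toAdd ha2
    show Multiplicative.toAdd a = 0
    linear_combination (-1 : F) * h2 + Multiplicative.toAdd a * h3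
  rw [← e] at hx hkT
  have hc := congrArg (fun z : ↥(commutator ↥(G1 F 0)) => ((z : ↥(G1 F 0)) : GL chevG2.Idx F))
    (h.is_comm.comm ⟨_, hkT⟩ ⟨_, hx⟩)
  have hc' : k * uW 0 (1 : F) 1 0 * k⁻¹ = uW 0 (1 : F) 1 0 := mul_inv_eq_iff_eq_mul.2 hc
  rw [torus_conj_uW hK hk, hwt] at hc'
  obtain ⟨h1, -, -⟩ := uW_inj hc'
  exact one_ne_zero (by linear_combination h1 + (1 : F) * h3 : (1 : F) = 0)

omit [Field F] [Fintype F] [CharP F 3] hK in
theorem exists_simple_quotient {T : Type*} [Group T] [Finite T] {N : Subgroup T} (hN : N.Normal)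
    (hne : N ≠ ⊤) : ∃ (M : Subgroup T) (_ : M.Normal), N ≤ M ∧ M ≠ ⊤ ∧ IsSimpleGroup (T ⧸ M) := by
  classical
  have hfin : Set.Finite {M : Subgroup T | M.Normal ∧ N ≤ M ∧ M ≠ ⊤} := Set.toFinite _
  obtain ⟨M, ⟨hMn, hNM, hMt⟩, hmax⟩ := hfin.exists_maximal ⟨N, hN, le_rfl, hne⟩
  haveI := hMn
  haveI : Nontrivial (T ⧸ M) := by
    rw [← not_subsingleton_iff_nontrivial, QuotientGroup.subsingleton_iff]
    exact hMt
  refine ⟨M, hMn, hNM, hMt,
    { toNontrivial := ‹_›, eq_bot_or_eq_top_of_normal := fun L hL => or_iff_not_imp_right.2 fun hL' => ?_ }⟩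
  have hML : M ≤ L.comap (QuotientGroup.mk' M) := fun x hx => by
    rw [Subgroup.mem_comap, show QuotientGroup.mk' M x = 1 from (QuotientGroup.eq_one_iff x).2 hx]
    exact one_mem L
  have hne' : L.comap (QuotientGroup.mk' M) ≠ ⊤ := fun h => hL' (eq_top_iff.2 fun q _ => by
    obtain ⟨x, rfl⟩ := QuotientGroup.mk'_surjective M q
    exact Subgroup.mem_comap.1 (h.ge (Subgroup.mem_top x)))
  have e := hmax ⟨hL.comap _, hNM.trans hML, hne'⟩ hML
  rw [eq_bot_iff]
  intro q hq
  obtain ⟨x, rfl⟩ := QuotientGroup.mk'_surjective M q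
  exact Subgroup.mem_bot.2 ((QuotientGroup.eq_one_iff x).2 (e (Subgroup.mem_comap.2 hq)))

theorem simple_commutator : IsSimpleGroup ↥(commutator ↥(G1 F 0)) := by
  classical
  set T := commutator ↥(G1 F 0) with hTdef
  have hcard : Nat.card ↥T = 504 := card_commutator hK
  haveI : Nontrivial ↥T := Finite.one_lt_card_iff_nontrivial.1 (by omega)
  -- characteristic subgroups are trivial or everything
  have hchar : ∀ C : Subgroup ↥T, C.Characteristic → C = ⊥ ∨ C = ⊤ := by
    intro C hC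
    by_cases h : C.map T.subtype = ⊥
    · exact Or.inl ((Subgroup.map_eq_bot_iff_of_injective _ (Subgroup.subtype_injective T)).1 h)
    · haveI := map_subtype_normal (T := T) C
      have hle := commutator_le_of_normal hK h
      refine Or.inr (eq_top_iff.2 fun x _ => ?_)
      obtain ⟨y, hy, e⟩ := hle x.2
      rwa [← Subtype.ext e]
  have hperf : commutator ↥T = ⊤ := by
    refine (hchar _ inferInstance).resolve_left fun h => not_commutative hK ?_
    have hc := (commutator_eq_bot_iff_center_eq_top _).1 h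
    exact ⟨⟨fun a b => (Subgroup.mem_center_iff.1 (hc.ge (Subgroup.mem_top b)) a)⟩⟩
  refine { toNontrivial := ‹_›, eq_bot_or_eq_top_of_normal := fun N hN => ?_ }
  by_contra hcon
  push Not at hcon
  obtain ⟨M, hMn, hNM, hMt, hsimp⟩ := exists_simple_quotient hN hcon.2
  haveI := hMn
  haveI : Nontrivial (↥T ⧸ M) := by
    rw [← not_subsingleton_iff_nontrivial, QuotientGroup.subsingleton_iff]
    exact hMt
  have hperfQ : commutator (↥T ⧸ M) = ⊤ := by
    rw [commutator_def, ← Subgroup.map_top_of_surjective (QuotientGroup.mk' M)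
      (QuotientGroup.mk'_surjective M), ← Subgroup.map_commutator, ← commutator_def, hperf]
  have hnc : ¬ IsMulCommutative (↥T ⧸ M) := fun h => by
    have : commutator (↥T ⧸ M) = ⊥ := (commutator_eq_bot_iff_center_eq_top _).2
      (eq_top_iff.2 fun x _ => Subgroup.mem_center_iff.2 fun y => h.is_comm.comm y x)
    exact (bot_ne_top : (⊥ : Subgroup (↥T ⧸ M)) ≠ ⊤) (this.symm.trans hperfQ)
  have hQ := Subgroup.card_eq_card_quotient_mul_card_subgroup M
  rw [hcard] at hQ
  have hM1 : 1 < Nat.card M :=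
    (Subgroup.one_lt_card_iff_ne_bot M).2 fun h => hcon.1 (le_bot_iff.1 (h ▸ hNM))
  have hq504 : Nat.card (↥T ⧸ M) ≤ 504 := Nat.le_of_dvd (by norm_num) (Dvd.intro _ hQ.symm)
  have hM3 : Nat.card M = 3 := by
    rcases Cfsg.Agent.S0496.result hnc (by omega) with h | h | h | h | h | h <;> rw [h] at hQ <;> omega
  -- a normal subgroup of order three is central
  haveI : Fact (Nat.Prime 3) := ⟨Nat.prime_three⟩
  haveI := isCyclic_of_prime_card hM3
  have hab : commutator ↥T ≤ Subgroup.centralizer (M : Set ↥T) := by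
    rw [commutator_def, Subgroup.commutator_le]
    intro a _ b _
    rw [Subgroup.mem_centralizer_iff]
    intro x hx
    have hab' : ∀ f g : MulAut ↥M, f * g = g * f := by
      intro f g
      apply MulEquiv.ext
      intro y
      obtain ⟨z, hz⟩ := IsCyclic.exists_generator (α := ↥M)
      obtain ⟨i, hi⟩ := Subgroup.mem_zpowers_iff.1 (hz (f z))
      obtain ⟨j, hj⟩ := Subgroup.mem_zpowers_iff.1 (hz (g z))
      obtain ⟨l, hl⟩ := Subgroup.mem_zpowers_iff.1 (hz y)
      show f (g y) = g (f y)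
      rw [← hl, map_zpow, map_zpow, map_zpow, map_zpow, ← hi, ← hj, map_zpow, map_zpow, ← hi, ← hj]
      simp only [← _root_.zpow_mul]
      congr 1
      ring
    have h1 := congrArg (fun f : MulAut ↥M => ((f ⟨x, hx⟩ : ↥M) : ↥T))
      (show MulAut.conjNormal ⁅a, b⁆ = (1 : MulAut ↥M) by
        rw [map_commutatorElement, commutatorElement_eq_one_iff_commute]
        exact hab' _ _)
    simp only [MulAut.conjNormal_apply, MulAut.one_apply] at h1
    exact (mul_inv_eq_iff_eq_mul.1 h1).symm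
  rw [hperf, top_le_iff] at hab
  have hcen : M ≤ Subgroup.center ↥T := fun x hx => Subgroup.mem_center_iff.2 fun y =>
    (Subgroup.mem_centralizer_iff.1 (hab.ge (Subgroup.mem_top y)) x hx).symm
  rcases hchar (Subgroup.center ↥T) inferInstance with h | h
  · rw [h, le_bot_iff] at hcen
    rw [hcen, Subgroup.card_bot] at hM3
    omega
  · exact not_commutative hK ⟨⟨fun a b => Subgroup.mem_center_iff.1 (h.ge (Subgroup.mem_top b)) a⟩⟩

end Cfsg.Agent.Twisted.Ree
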