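import Cfsg.Agent.Lib.Twisted.Ree.StemThree
import Cfsg.Agent.Lib.Twisted.Ree.Cosets
import Cfsg.Agent.Lib.Chev.FieldAutFixed

/-!
Field automorphisms of the small Ree groups and rigidity of the action on the cosets of B¹.

* `fieldAut`: entrywise field automorphisms, with their action on `gU`, `gT`, `nG`;
* `mem_B1_iff_normalizes`: B¹ is the normaliser of U¹;
* `exists_torus_of_fix`: B¹ ∩ n₀B¹n₀⁻¹ is the torus;
* `eq_one_of_fix`: an automorphism fixing U¹ pointwise and the coset of n₀ is trivial.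
-/

set_option autoImplicit false

namespace Cfsg.Agent.Twisted.Ree

open Cfsg.Lie Matrix Chev BNSetup

variable {F : Type*} [Field F] [CharP F 3] {m : ℕ}

omit [CharP F 3] in
theorem entryMap_uW (σ : F →+* F) (t u v : F) :
    entryMap chevG2 σ (uW m t u v) = uW m (σ t) (σ u) (σ v) := by
  simp only [uW, uOf, tail, map_mul, entryMap_xe good, map_add, map_pow]

omit [CharP F 3] in
theorem entryMap_n0 (σ : F →+* F) : entryMap chevG2 σ (n0 F) = n0 F := by
  simp only [n0, map_mul, entryMap_xe good, map_one, map_neg]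

omit [CharP F 3] in
theorem entryMap_mem (σ : F →+* F) {g : GL chevG2.Idx F} (hg : g ∈ G1 F m) :
    entryMap chevG2 σ g ∈ G1 F m := by
  refine G1_induction (m := m) (P := fun x => entryMap chevG2 σ (x : GL chevG2.Idx F) ∈ G1 F m)
    (fun t u v => ?_) (fun t u v => ?_) ?_ (fun a b ha hb => ?_) (fun a ha => ?_) ⟨g, hg⟩
  · show entryMap chevG2 σ (uW m t u v) ∈ G1 F m
    rw [entryMap_uW]; exact uW_mem_G1 m _ _ _
  · show entryMap chevG2 σ (vW m t u v) ∈ G1 F m
    rw [vW, map_mul, map_mul, map_inv, entryMap_uW, entryMap_n0]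
    exact vW_mem_G1 m _ _ _
  · rw [Subgroup.coe_one, map_one]; exact one_mem _
  · rw [Subgroup.coe_mul, map_mul]; exact mul_mem ha hb
  · rw [Subgroup.coe_inv, map_inv]; exact inv_mem ha

omit [CharP F 3] in
theorem entryMap_symm (σ : F ≃+* F) (g : GL chevG2.Idx F) :
    entryMap chevG2 σ.symm.toRingHom (entryMap chevG2 σ.toRingHom g) = g := by
  apply Units.ext
  ext i j
  simp [entryMap]

/-- The field automorphisms of the small Ree group. -/
def fieldAut (F : Type*) [Field F] (m : ℕ) : RingAut F →* MulAut ↥(G1 F m) where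
  toFun σ :=
    { toFun := fun g => ⟨entryMap chevG2 σ.toRingHom g.1, entryMap_mem _ g.2⟩
      invFun := fun g => ⟨entryMap chevG2 σ.symm.toRingHom g.1, entryMap_mem _ g.2⟩
      left_inv := fun g => Subtype.ext (entryMap_symm σ g.1)
      right_inv := fun g => Subtype.ext (by
        have := entryMap_symm σ.symm g.1
        rwa [RingEquiv.symm_symm] at this)
      map_mul' := fun a b => Subtype.ext (map_mul _ a.1 b.1) }
  map_one' := by
    refine MulEquiv.ext fun g => Subtype.ext (Units.ext ?_)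
    ext i j
    rfl
  map_mul' σ τ := by
    refine MulEquiv.ext fun g => Subtype.ext (Units.ext ?_)
    ext i j
    rfl

omit [CharP F 3] in
theorem fieldAut_gU (σ : RingAut F) (t u v : F) :
    fieldAut F m σ (gU m t u v) = gU m (σ t) (σ u) (σ v) :=
  Subtype.ext (entryMap_uW σ.toRingHom t u v)

omit [CharP F 3] in
theorem fieldAut_nG (σ : RingAut F) : fieldAut F m σ (nG F m) = nG F m :=
  Subtype.ext (entryMap_n0 σ.toRingHom)

omit [CharP F 3] in
theorem nG_inv : (nG F m)⁻¹ = nG F m := Subtype.ext n0_inv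

variable [Fintype F] (hK : Fintype.card F = 3 ^ (2 * m + 1))
include hK

theorem gT_mem_B1 (c : Fˣ) : gT (m := m) hK c ∈ B1 F m :=
  mem_B1.2 (H1_le_borel ((torusEquiv hK).symm c).2)

theorem gT_inj {c d : Fˣ} (h : gT (m := m) hK c = gT hK d) : c = d :=
  (torusEquiv hK).symm.injective (Subtype.ext (congrArg (fun z : ↥(G1 F m) => (z : GL chevG2.Idx F)) h))

theorem conj_gT_mem_B1 (c : Fˣ) : (nG F m)⁻¹ * gT hK c * nG F m ∈ B1 F m := by
  rw [mem_B1]
  refine Subgroup.mem_sup_right ?_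
  have h := n0_conj_H (F := F) ((torusEquiv hK).symm c).2.1
  simp only [Subgroup.coe_mul, Subgroup.coe_inv, nG, gT]
  simpa [n0_inv] using h

omit [CharP F 3] hK in
theorem upperU_eq [CharP F 3] (hK : Fintype.card F = 3 ^ (2 * m + 1)) :
    upperU (m := m) hK = (U1 F m).subgroupOf (G1 F m) := by
  ext g
  rw [Subgroup.mem_subgroupOf, mem_U1_iff hK, mem_upperU]
  simp only [Subtype.ext_iff, gU]

theorem upperU_le_B1 : upperU (m := m) hK ≤ B1 F m := by
  rintro _ ⟨t, u, v, rfl⟩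
  exact mem_B1.2 (U1_le_borel (uW_mem_U1 m t u v))

theorem conj_mem_upperU {b g : ↥(G1 F m)} (hb : b ∈ B1 F m) (hg : g ∈ upperU hK) :
    b * g * b⁻¹ ∈ upperU hK := by
  rw [upperU_eq hK, Subgroup.mem_subgroupOf] at hg ⊢
  exact conj_U1_by_B1 hK (Subgroup.mem_subgroupOf.1 hb) hg

omit [Fintype F] hK in
theorem nG_conj_gU_not_mem : nG F m * gU m 1 0 0 * (nG F m)⁻¹ ∉ B1 F m := by
  intro h
  rw [mem_B1] at h
  have hU : uW m (1 : F) 0 0 ∈ U1 F m := uW_mem_U1 m _ _ _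
  have hH : uW m (1 : F) 0 0 ∈ chevG2.diagonalSubgroup F := mem_H_of_conj_mem (U1_le_borel hU) h
  have h1 : uW m (1 : F) 0 0 = 1 := by
    have h2 : uW m (1 : F) 0 0 ∈ chevG2.posUnipotent F ⊓ chevG2.diagonalSubgroup F := ⟨hU.1, hH⟩
    rwa [U_inf_H facts good, Subgroup.mem_bot] at h2
  rw [← uW_zero m] at h1
  exact one_ne_zero (uW_inj h1).1

/-- B¹ is the normaliser of U¹. -/
theorem mem_B1_iff_normalizes (g : ↥(G1 F m)) :
    g ∈ B1 F m ↔ ∀ y, y ∈ upperU hK ↔ g * y * g⁻¹ ∈ upperU hK := by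
  refine ⟨fun hg y => ⟨conj_mem_upperU hK hg, fun h => ?_⟩, fun h => ?_⟩
  · have := conj_mem_upperU hK (inv_mem hg) h
    simpa [mul_assoc] using this
  · by_contra hg
    obtain ⟨u, hu, k, hk, w, hw, e⟩ := exists_of_not_mem_B1 hK g.2 (fun h' => hg (mem_B1.2 h'))
    let a : ↥(G1 F m) := ⟨u * k, Subgroup.mul_mem _ hu.2 hk.2⟩
    let b : ↥(G1 F m) := ⟨w, hw.2⟩
    have ha : a ∈ B1 F m := mem_B1.2 (Subgroup.mul_mem _ (U1_le_borel hu) (H1_le_borel hk))
    have hb : b ∈ B1 F m := mem_B1.2 (U1_le_borel hw)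
    have e' : g = a * nG F m * b := Subtype.ext e
    have hy := conj_mem_upperU hK (inv_mem hb) (g := gU m 1 0 0) ⟨_, _, _, rfl⟩
    have h1 := conj_mem_upperU hK (inv_mem ha) ((h _).1 hy)
    rw [e'] at h1
    refine nG_conj_gU_not_mem (m := m) (F := F) (upperU_le_B1 hK ?_)
    convert h1 using 1
    group

/-- B¹ ∩ n₀B¹n₀⁻¹ is the torus. -/
theorem exists_torus_of_fix {x : ↥(G1 F m)} (h1 : x ∈ B1 F m)
    (h2 : (nG F m)⁻¹ * x * nG F m ∈ B1 F m) : ∃ c, x = gT hK c := by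
  rw [mem_B1] at h1 h2
  have hH : (x : GL chevG2.Idx F) ∈ chevG2.diagonalSubgroup F :=
    mem_H_of_conj_mem h1 (by simpa [n0_inv, nG] using h2)
  refine ⟨torusEquiv hK ⟨x.1, hH, x.2⟩, Subtype.ext ?_⟩
  simp [gT]

/-- An automorphism fixing U¹ pointwise and the coset of n₀ is trivial. -/
theorem eq_one_of_fix (α : MulAut ↥(G1 F m)) (hU : ∀ y ∈ upperU hK, α y = y)
    (hB : ∀ x ∈ B1 F m, α x ∈ B1 F m) (hn : (nG F m)⁻¹ * α (nG F m) ∈ B1 F m) : α = 1 := by
  have hfix : ∀ a : ↥(G1 F m), a⁻¹ * α a ∈ B1 F m := by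
    intro a
    by_cases ha : a ∈ B1 F m
    · exact mul_mem (inv_mem ha) (hB a ha)
    obtain ⟨u, hu, k, hk, w, hw, e⟩ := exists_of_not_mem_B1 hK a.2 (fun h' => ha (mem_B1.2 h'))
    let u' : ↥(G1 F m) := ⟨u, hu.2⟩
    let b : ↥(G1 F m) := (nG F m)⁻¹ * ⟨k, hk.2⟩ * nG F m * ⟨w, hw.2⟩
    have hb : b ∈ B1 F m := by
      refine mul_mem ?_ (mem_B1.2 (U1_le_borel hw))
      have := conj_gT_mem_B1 hK (torusEquiv hK ⟨k, hk⟩)
      simpa [gT] using this
    have e' : a = u' * nG F m * b := Subtype.ext (by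
      simp [u', b, nG, e, mul_assoc])
    have hu' : α u' = u' := hU _ (by rw [upperU_eq hK]; exact Subgroup.mem_subgroupOf.2 hu)
    rw [e', map_mul, map_mul, hu',
      show (u' * nG F m * b)⁻¹ * (u' * α (nG F m) * α b) =
        b⁻¹ * ((nG F m)⁻¹ * α (nG F m)) * α b by group]
    exact mul_mem (mul_mem (inv_mem hb) hn) (hB b hb)
  ext g : 1
  have hcore : g⁻¹ * α g ∈ (B1 F m).normalCore := by
    intro a
    -- both `a⁻¹` and `g * a⁻¹` are fixed cosets
    have h1 := hfix a⁻¹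
    have h2 := hfix (g * a⁻¹)
    rw [map_mul] at h2
    have h3 := mul_mem h2 (inv_mem h1)
    convert h3 using 1
    group
  have h := core_eq_bot hK (F := F) (m := m)
  rw [show (B1 F m).normalCore = ⊥ from h, Subgroup.mem_bot, inv_mul_eq_one] at hcore
  exact hcore.symm

theorem fieldAut_mem_upperU (σ : RingAut F) (y : ↥(G1 F m)) :
    fieldAut F m σ y ∈ upperU hK ↔ y ∈ upperU hK := by
  refine ⟨?_, fun ⟨t, u, v, h⟩ => ⟨σ t, σ u, σ v, by rw [h, fieldAut_gU]⟩⟩
  rintro ⟨t, u, v, h⟩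
  refine ⟨σ⁻¹ t, σ⁻¹ u, σ⁻¹ v, (fieldAut F m σ).injective ?_⟩
  rw [h, fieldAut_gU]
  simp

theorem aut_mem_B1 {α : MulAut ↥(G1 F m)} (hU : ∀ y, α y ∈ upperU hK ↔ y ∈ upperU hK)
    (x : ↥(G1 F m)) : α x ∈ B1 F m ↔ x ∈ B1 F m := by
  rw [mem_B1_iff_normalizes hK, mem_B1_iff_normalizes hK]
  constructor
  · intro h y
    have := h (α y)
    rwa [← map_inv, ← map_mul, ← map_mul, hU, hU] at this
  · intro h y
    obtain ⟨y, rfl⟩ := α.surjective y
    rw [← map_inv, ← map_mul, ← map_mul, hU, hU]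
    exact h y

/-- An automorphism fixing U¹ and the coset of n₀ preserves the torus. -/
theorem exists_torus_image {α : MulAut ↥(G1 F m)} (hU : ∀ y, α y ∈ upperU hK ↔ y ∈ upperU hK)
    (hn : (nG F m)⁻¹ * α (nG F m) ∈ B1 F m) (c : Fˣ) : ∃ d, α (gT hK c) = gT hK d := by
  refine exists_torus_of_fix hK ((aut_mem_B1 hK hU _).2 (gT_mem_B1 hK c)) ?_
  have h := mul_mem (mul_mem hn ((aut_mem_B1 hK hU _).2 (conj_gT_mem_B1 hK c))) (inv_mem hn)
  convert h using 1
  simp only [map_mul, map_inv]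
  group

theorem fieldAut_gT (σ : RingAut F) (c : Fˣ) :
    fieldAut F m σ (gT hK c) = gT hK (Units.map σ.toRingHom.toMonoidHom c) := by
  obtain ⟨d, hd⟩ := exists_torus_image hK (fieldAut_mem_upperU hK σ)
    (by rw [fieldAut_nG, inv_mul_cancel]; exact one_mem _) c
  have h := congrArg (fieldAut F m σ) (gT_conj hK c 1 0 0)
  rw [map_mul, map_mul, map_inv, hd, fieldAut_gU, fieldAut_gU, gT_conj hK] at h
  have h1 := (gU_inj h).1
  rw [map_one, mul_one, mul_one] at h1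
  rw [hd, (Units.ext h1 : d = Units.map σ.toRingHom.toMonoidHom c)]

end Cfsg.Agent.Twisted.Ree
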