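import Cfsg.Agent.Lib.Twisted.Ree.Weights

/-!
Central extensions of the small Ree groups over U¹: the pairings between the layers.

* `central_pairing`: equivariant central pairings of layers vanish;
* `cAA`, `cUZ`: lifts of the layer `gU 0 u v` commute, lifts of `gU 0 0 v` commute with all lifts
  of U¹.
-/

set_option autoImplicit false

namespace Cfsg.Agent.Twisted.Ree

open Cfsg.Lie Matrix Schur
open scoped commutatorElement

variable {F : Type*} [Field F] [Fintype F] [CharP F 3] {m : ℕ}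
  (hK : Fintype.card F = 3 ^ (2 * m + 1))
include hK

theorem gU_split (u v : F) : gU m (0 : F) u v = gU m 0 u 0 * gU m 0 0 v := by
  rw [gU_zero_mul hK, add_zero, zero_add]

theorem gU_commute_layer (u v u' v' : F) : Commute (gU m (0 : F) u v) (gU m 0 u' v') := by
  show _ = _
  rw [gU_zero_mul hK, gU_zero_mul hK, add_comm u, add_comm v]

theorem gU_commute_Z (t u v w : F) : Commute (gU m (t : F) u v) (gU m 0 0 w) := by
  show gU m t u v * gU m 0 0 w = gU m 0 0 w * gU m t u v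
  rw [gU_mul hK, gU_mul hK]
  congr 1 <;> simp [tau_zero, add_comm]

theorem gU_X_add (a b : F) :
    ∃ u v, gU m (a + b) 0 0 = gU m a 0 0 * gU m b 0 0 * gU m 0 u v := by
  refine ⟨a * tau m b, tau m b * a ^ 2 - tau m b * a * b, ?_⟩
  rw [gU_mul hK, gU_mul hK]
  congr 1 <;> simp [tau_zero]

variable {Γ : Type*} [Group Γ] {σ : Γ →* ↥(G1 F m)} (hs : Function.Surjective σ)
  (hz : σ.ker ≤ Subgroup.center Γ)
include hz

omit [CharP F 3] in
/-- Equivariant central pairings of layers vanish. -/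
theorem central_pairing (p r : F → ↥(G1 F m)) (k₁ k₂ : ℕ) (hk : k₁ ≠ 0)
    (hcomm : ∀ a b, Commute (p a) (r b))
    (hp : ∀ a b, ∃ w, p (a + b) = p a * p b * w ∧
      ∀ x, Commute w (r x) ∧ liftComm hs w (r x) = 1)
    (hr : ∀ a b, r (a + b) = r a * r b)
    (hT : ∀ a, a ≠ 0 → ∃ T, ∀ x,
      T * p x * T⁻¹ = p (a ^ k₁ * x) ∧ T * r x * T⁻¹ = r (a ^ k₂ * x))
    (hspan : ∀ c : F, ∃ a b : F, c = a ^ k₁ - b ^ k₁)
    (hne : ∀ i < 2 * m + 1, ¬ 3 ^ (2 * m + 1) - 1 ∣ 3 ^ i * k₁ + k₂) [CharP F 3] :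
    ∀ a b, liftComm hs (p a) (r b) = 1 := by
  refine pairing_trivial hK (fun a b => liftComm hs (p a) (r b)) k₁ k₂ hk ?_ ?_ ?_ hspan hne
  · intro a a' b
    obtain ⟨w, hw, hw'⟩ := hp a a'
    rw [hw, liftComm_mul_left hs hz (commute_liftComm hs hz (hw' b).1 _), (hw' b).2, one_mul,
      liftComm_mul_left hs hz (commute_liftComm hs hz (hcomm _ _) _)]
    exact (commute_liftComm hs hz (hcomm _ _) _).eq
  · intro a b b'
    rw [hr, liftComm_mul_right hs hz (commute_liftComm hs hz (hcomm _ _) _)]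
  · intro c u v hc
    obtain ⟨T, hT⟩ := hT c hc
    show liftComm hs (p (c ^ k₁ * u)) (r (c ^ k₂ * v)) = _
    rw [← (hT u).1, ← (hT v).2, ← map_liftOf hs T, liftComm_conj hs hz,
      ← (commute_liftComm hs hz (hcomm u v) _).eq, mul_inv_cancel_right]

theorem cZZ (hm : 1 ≤ m) (a b : F) : liftComm hs (gU m 0 0 a) (gU m 0 0 b) = 1 :=
  central_pairing hK hs hz (fun a => gU m 0 0 a) (fun b => gU m 0 0 b) 1 1 one_ne_zero
    (fun _ _ => gU_commute_layer hK _ _ _ _)
    (fun a b => ⟨1, by rw [gU_zero_mul hK, add_zero, mul_one],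
      fun x => ⟨Commute.one_left _, liftComm_one_left hs hz _⟩⟩)
    (fun a b => by rw [gU_zero_mul hK, add_zero])
    (fun a ha => by
      obtain ⟨c, hc⟩ := exists_weight_two hK a ha
      exact ⟨gT hK c, fun x => ⟨by simp only [gT_conj hK, mul_zero, hc, pow_one],
        by simp only [gT_conj hK, mul_zero, hc, pow_one]⟩⟩)
    (fun c => ⟨c, 0, by simp⟩)
    (fun i hi => not_dvd_small hm (Or.inr ⟨one_le_two, one_le_two⟩) one_pos hi) a b

theorem cYY (hm : 1 ≤ m) (a b : F) : liftComm hs (gU m 0 a 0) (gU m 0 b 0) = 1 :=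
  central_pairing hK hs hz (fun a => gU m 0 a 0) (fun b => gU m 0 b 0) 2 2 two_ne_zero
    (fun _ _ => gU_commute_layer hK _ _ _ _)
    (fun a b => ⟨1, by rw [gU_zero_mul hK, add_zero, mul_one],
      fun x => ⟨Commute.one_left _, liftComm_one_left hs hz _⟩⟩)
    (fun a b => by rw [gU_zero_mul hK, add_zero])
    (fun a ha => by
      obtain ⟨c, hc⟩ := exists_weight_one hK a ha
      exact ⟨gT hK c, fun x => ⟨by simp only [gT_conj hK, mul_zero, hc],
        by simp only [gT_conj hK, mul_zero, hc]⟩⟩)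
    span_sq
    (fun i hi => not_dvd_small hm (Or.inr ⟨le_rfl, le_rfl⟩) two_pos hi) a b

theorem cZY (a b : F) : liftComm hs (gU m 0 0 a) (gU m 0 b 0) = 1 :=
  central_pairing hK hs hz (fun a => gU m 0 0 a) (fun b => gU m 0 b 0) (3 ^ (m + 1) + 2)
    (3 ^ (m + 1) + 1) (by omega)
    (fun _ _ => gU_commute_layer hK _ _ _ _)
    (fun a b => ⟨1, by rw [gU_zero_mul hK, add_zero, mul_one],
      fun x => ⟨Commute.one_left _, liftComm_one_left hs hz _⟩⟩)
    (fun a b => by rw [gU_zero_mul hK, add_zero])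
    (fun a ha => ⟨gT hK (Units.mk0 a ha), fun x =>
      ⟨by simp only [gT_conj hK, mul_zero, Units.val_mk0],
        by simp only [gT_conj hK, mul_zero, Units.val_mk0]⟩⟩)
    (fun c => by
      rcases eq_or_ne c 0 with rfl | hc
      · exact ⟨0, 0, by simp⟩
      · obtain ⟨d, hd⟩ := exists_weight_two hK c hc
        exact ⟨d, 0, by rw [hd, zero_pow (by omega), sub_zero]⟩)
    (fun i _ => not_dvd_odd (by
      have := odd_theta (m := m); rw [Nat.odd_iff] at this ⊢; omega) i) a b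

/-- The layer `gU 0 u v` has commuting lifts. -/
theorem cAA (hm : 1 ≤ m) (u v u' v' : F) :
    liftComm hs (gU m (0 : F) u v) (gU m 0 u' v') = 1 := by
  have cYZ : ∀ a b, liftComm hs (gU m (0 : F) a 0) (gU m 0 0 b) = 1 := fun a b => by
    rw [← liftComm_inv, cZY hK hs hz, inv_one]
  have h1 : ∀ a, liftComm hs (gU m (0 : F) u v) (gU m 0 a 0) = 1 := fun a => by
    rw [gU_split hK u v, liftComm_mul_left hs hz (by rw [cZY hK hs hz]; exact Commute.one_left _),
      cZY hK hs hz, cYY hK hs hz hm, one_mul]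
  have h2 : ∀ a, liftComm hs (gU m (0 : F) u v) (gU m 0 0 a) = 1 := fun a => by
    rw [gU_split hK u v,
      liftComm_mul_left hs hz (by rw [cZZ hK hs hz hm]; exact Commute.one_left _),
      cZZ hK hs hz hm, cYZ, one_mul]
  rw [gU_split hK u' v', liftComm_mul_right hs hz (by rw [h2]; exact Commute.one_left _), h1, h2,
    one_mul]

theorem cXZ (hm : 1 ≤ m) (a b : F) : liftComm hs (gU m a 0 0) (gU m 0 0 b) = 1 :=
  central_pairing hK hs hz (fun a => gU m a 0 0) (fun b => gU m 0 0 b) 1 (3 ^ (m + 1) + 2)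
    one_ne_zero (fun _ _ => gU_commute_Z hK _ _ _ _)
    (fun a b => by
      obtain ⟨u, v, h⟩ := gU_X_add (m := m) hK a b
      exact ⟨_, h, fun x => ⟨gU_commute_layer hK _ _ _ _, cAA hK hs hz hm _ _ _ _⟩⟩)
    (fun a b => by rw [gU_zero_mul hK, add_zero])
    (fun a ha => ⟨gT hK (Units.mk0 a ha), fun x =>
      ⟨by simp only [gT_conj hK, mul_zero, Units.val_mk0, pow_one],
        by simp only [gT_conj hK, mul_zero, Units.val_mk0]⟩⟩)
    (fun c => ⟨c, 0, by simp⟩)
    (fun i hi => not_dvd_small hm (Or.inl ⟨le_rfl, le_rfl⟩) (Nat.succ_pos _) hi) a b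

/-- Lifts of `gU 0 0 w` commute with all lifts of U¹. -/
theorem cUZ (hm : 1 ≤ m) (t u v w : F) :
    liftComm hs (gU m (t : F) u v) (gU m 0 0 w) = 1 := by
  rw [gU_eq hK, mul_assoc, liftComm_mul_left hs hz (by
    rw [gU_zero_mul hK, cAA hK hs hz hm]; exact Commute.one_left _), gU_zero_mul hK,
    cAA hK hs hz hm, cXZ hK hs hz hm, one_mul]

include hs in
theorem commute_lift_Z (hm : 1 ≤ m) {z x : Γ} (hzZ : ∃ w, σ z = gU m 0 0 w)
    (hx : ∃ t u v, σ x = gU m t u v) : Commute z x := by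
  obtain ⟨w, hw⟩ := hzZ
  obtain ⟨t, u, v, hx⟩ := hx
  refine (commutatorElement_eq_one_iff_commute.1 ?_).symm
  rw [commutator_eq_liftComm hs hz, hx, hw, cUZ hK hs hz hm]

end Cfsg.Agent.Twisted.Ree
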