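import Cfsg.Agent.Lib.Twisted.Ree.Weights
import Cfsg.Agent.Lib.Chev.SL2
import Cfsg.Agent.Lib.PSL2.Classes
import Cfsg.Agent.Lib.Forms.ExcCore

/-!
A homomorphism from SL(2, q) to the small Ree group.

* `exists_sl2_hom_ree`: a nontrivial homomorphism `SL(2, F) → G1 F m` with central kernel.
-/

set_option autoImplicit false

namespace Cfsg.Agent.Twisted.Ree

open Cfsg.Lie Matrix Chev BNSetup
open scoped MatrixGroups

variable {F : Type*} [Field F] [Fintype F] [CharP F 3] {m : ℕ}

omit [Fintype F] in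
/-- Roots 8, 3 commute with roots 10, 1. -/
theorem commute_pair {r s : ℕ} (hr : r = 8 ∨ r = 3) (hs : s = 10 ∨ s = 1) (t v : F) :
    Commute (xe good s v : GL chevG2.Idx F) (xe good r t) := by
  have key : ∀ r s : ℕ, r < 12 → s < 12 → s ≠ r → s ≠ chevG2.neg r →
      (chevG2.commTerms r s).all (fun x => decide (x.1 < 12) && x.2.1 % 3 == 0) = true →
      ∀ t v : F, Commute (xe good s v : GL chevG2.Idx F) (xe good r t) := by
    intro r s hr hs h1 h2 h3 t v
    apply Units.ext
    simp only [Units.val_mul, coe_xe]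
    rw [good.comm_formula hr hs h1 h2 t v]
    have : chevG2.wordMat F (chevG2.commWord F r s t v) = 1 := by
      refine List.prod_eq_one fun y hy => ?_
      simp only [ChevalleyDatum.commWord, List.map_map, List.mem_map] at hy
      obtain ⟨z, hz, rfl⟩ := hy
      have hall := List.all_eq_true.1 h3 z hz
      simp only [Bool.and_eq_true, decide_eq_true_eq, beq_iff_eq] at hall
      simp only [Function.comp_apply]
      rw [cast_eq_of_mod (F := F) (b := 0) (by simpa using hall.2), Int.cast_zero, zero_mul,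
        zero_mul, good.x_zero hall.1]
    rw [this, mul_one]
  rcases hs with rfl | rfl <;> rcases hr with rfl | rfl <;>
    exact key _ _ (by decide) (by decide) (by decide) (by decide) (by decide +kernel) t v

omit [Fintype F] [CharP F 3] in
theorem xg_eq_xe (r : ℕ) (t : F) : xg chevG2 F r t = xe good r t :=
  Units.ext ((good.coe_xg r t).trans (coe_xe good r t).symm)

variable (hK : Fintype.card F = 3 ^ (2 * m + 1))
include hK

theorem exists_sl2_hom_ree (hm : 1 ≤ m) : ∃ φ : SL(2, F) →* ↥(G1 F m), φ.ker ≤ Subgroup.center SL(2, F) := by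
  haveI : Fact (Nat.Prime 3) := ⟨Nat.prime_three⟩
  obtain ⟨φ8, a8, b8⟩ := good.exists_sl2_hom (F := F) (D := chevG2) (r := 8) (by decide)
  obtain ⟨φ10, a10, b10⟩ := good.exists_sl2_hom (F := F) (D := chevG2) (r := 10) (by decide)
  let fr : SL(2, F) →* SL(2, F) := Matrix.SpecialLinearGroup.map (iterateFrobenius F 3 m)
  have fru : ∀ t : F, fr (upperSL t) = upperSL (t ^ 3 ^ m) := fun t => by
    ext i j
    fin_cases i <;> fin_cases j <;> simp [fr, coe_upperSL, iterateFrobenius_def]
  have frl : ∀ t : F, fr (lowerSL t) = lowerSL (t ^ 3 ^ m) := fun t => by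
    ext i j
    fin_cases i <;> fin_cases j <;> simp [fr, coe_lowerSL, iterateFrobenius_def]
  have huu : ∀ t : F, PSL2.uu t = upperSL t := fun t => rfl
  have hll : ∀ t : F, PSL2.ll t = lowerSL t := fun t => rfl
  have htop : ∀ {p : SL(2, F) → Prop}, (∀ t, p (upperSL t)) → (∀ t, p (lowerSL t)) →
      ∀ (H : Subgroup SL(2, F)), (∀ x, p x → x ∈ H) → ∀ g, g ∈ H := by
    intro p h1 h2 H h g
    rw [PSL2.eq_top_of_uu_ll (H := H) (fun t => huu t ▸ h _ (h1 t)) (fun t => hll t ▸ h _ (h2 t))]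
    exact Subgroup.mem_top g
  have h8 : ∀ g, φ8 (fr g) ∈ Subgroup.centralizer (Set.range φ10) := by
    intro g
    refine Subgroup.mem_centralizer_iff.2 ?_
    rintro _ ⟨g', rfl⟩
    have hc : ∀ g', ∀ x, (∃ t, x = upperSL t ∨ x = lowerSL t) → Commute (φ10 g') (φ8 (fr x)) := by
      intro g' x hx
      have hg' : g' ∈ (Subgroup.centralizer {φ8 (fr x)}).comap φ10 := by
        refine htop (p := fun y => Commute (φ10 y) (φ8 (fr x))) ?_ ?_ _ ?_ g'
        · intro v
          rw [a10, xg_eq_xe]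
          obtain ⟨t, rfl | rfl⟩ := hx
          · rw [fru, a8, xg_eq_xe]; exact commute_pair (Or.inl rfl) (Or.inl rfl) _ _
          · rw [frl, b8, xg_eq_xe]; exact commute_pair (Or.inr rfl) (Or.inl rfl) _ _
        · intro v
          rw [b10, xg_eq_xe]
          obtain ⟨t, rfl | rfl⟩ := hx
          · rw [fru, a8, xg_eq_xe]; exact commute_pair (Or.inl rfl) (Or.inr rfl) _ _
          · rw [frl, b8, xg_eq_xe]; exact commute_pair (Or.inr rfl) (Or.inr rfl) _ _
        · intro y hy
          exact Subgroup.mem_centralizer_singleton_iff.2 hy.eq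
      exact Subgroup.mem_centralizer_singleton_iff.1 hg'
    have hg : g ∈ (Subgroup.centralizer {φ10 g'}).comap (φ8.comp fr) := by
      refine htop (p := fun x => Commute (φ10 g') (φ8 (fr x))) ?_ ?_ _ ?_ g
      · exact fun t => hc g' _ ⟨t, Or.inl rfl⟩
      · exact fun t => hc g' _ ⟨t, Or.inr rfl⟩
      · intro y hy
        exact Subgroup.mem_centralizer_singleton_iff.2 hy.eq.symm
    exact (Subgroup.mem_centralizer_singleton_iff.1 hg).symm
  let ψ : SL(2, F) →* GL chevG2.Idx F := MonoidHom.mk' (fun g => φ8 (fr g) * φ10 g) fun g g' => by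
    have := Subgroup.mem_centralizer_iff.1 (h8 g') (φ10 g) ⟨g, rfl⟩
    simp only [map_mul]
    rw [mul_assoc, mul_assoc, ← mul_assoc (φ8 (fr g')) (φ10 g), ← this, mul_assoc]
  have hUt : ∀ t : F, ψ (upperSL t) = uW m 0 t 0 := fun t => by
    show φ8 (fr _) * φ10 _ = _
    rw [fru, a8, a10, xg_eq_xe, xg_eq_xe]
    simp [uW, uOf, tail, xe_zero good (r := 7) (by decide), xe_zero good (r := 6) (by decide),
      xe_zero good (r := 9) (by decide), xe_zero good (r := 11) (by decide)]
  have hLt : ∀ t : F, ψ (lowerSL t) = vW m 0 (-t) 0 := fun t => by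
    show φ8 (fr _) * φ10 _ = _
    rw [vW, ← hUt]
    show _ = n0 F * (φ8 (fr (upperSL (-t))) * φ10 (upperSL (-t))) * (n0 F)⁻¹
    rw [frl, fru, b8, b10, a8, a10, xg_eq_xe, xg_eq_xe, xg_eq_xe, xg_eq_xe, ← conj_mul,
      n0_conj_xe (by decide), n0_conj_xe (by decide)]
    simp [show chevG2.neg 8 = 3 from rfl, show chevG2.neg 10 = 1 from rfl,
      (Odd.pow (by decide) : Odd (3 ^ m)).neg_pow]
  have hmem : ∀ g, ψ g ∈ G1 F m := fun g =>
    htop (p := fun x => ψ x ∈ G1 F m) (fun t => hUt t ▸ uW_mem_G1 m _ _ _)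
      (fun t => hLt t ▸ vW_mem_G1 m _ _ _) ((G1 F m).comap ψ) (fun _ h => h) g
  refine ⟨ψ.codRestrict _ hmem, ?_⟩
  have h4 : 4 ≤ Fintype.card F := by
    rw [hK]
    exact le_trans (by norm_num : 4 ≤ 3 ^ 2) (Nat.pow_le_pow_right (by norm_num) (by omega))
  haveI : IsSimpleGroup (SL(2, F) ⧸ Subgroup.center SL(2, F)) := PSL2.psl_isSimpleGroup h4
  rcases Forms.normal_eq_top_or_le_center_of_simple (PSL2.sl_commutator_eq_top h4)
    (ψ.codRestrict _ hmem).ker with h | h
  · exfalso
    have h1 : ψ.codRestrict _ hmem (upperSL 1) = 1 := h.ge (Subgroup.mem_top _)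
    have h2 : uW m (0 : F) 1 0 = uW m 0 0 0 := by
      rw [← hUt, uW_zero]
      exact congrArg Subtype.val h1
    exact one_ne_zero (uW_inj h2).2.1
  · exact h

end Cfsg.Agent.Twisted.Ree
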