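import Cfsg.Agent.Lib.Twisted.Ree.SL2Hom
import Cfsg.Agent.Lib.Chev.Sylow
import Cfsg.Agent.Lib.PSL2.Sylow
import Cfsg.Agent.Lib.GL.ElementOrders
import Cfsg.Agent.Lib.GL.Basic

/-!
Sylow subgroups of the small Ree groups for the primes other than 2 and 3.

* `exists_cyclic_sylow_dvd`: cyclic Sylow subgroups from elements;
* `exists_isCyclic_sylow`: every prime other than 2 and 3 has a cyclic Sylow subgroup.
-/

set_option autoImplicit false

namespace Cfsg.Agent.Twisted.Ree

open Cfsg.Lie Matrix Chev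
open scoped MatrixGroups commutatorElement

/-- An element whose order has the full `p`-part gives a cyclic Sylow `p`-subgroup. -/
theorem exists_cyclic_sylow_dvd {G : Type*} [Group G] [Finite G] {p : ℕ} [hp : Fact p.Prime] (x : G)
    (h : p ^ (Nat.card G).factorization p ∣ orderOf x) :
    ∃ Q : Sylow p G, IsCyclic (Q : Subgroup G) := by
  have hord : orderOf (x ^ (orderOf x / p ^ (Nat.card G).factorization p)) =
      p ^ (Nat.card G).factorization p := by
    rw [orderOf_pow_orderOf_div (orderOf_pos x).ne' h]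
  exact ⟨Sylow.ofCard (Subgroup.zpowers (x ^ (orderOf x / p ^ (Nat.card G).factorization p)))
    (by rw [Nat.card_zpowers, hord]), by rw [Sylow.coe_ofCard]; infer_instance⟩

theorem factorization_mul_coprime {a b p : ℕ} (ha : a ≠ 0) (hb : b ≠ 0) (h : ¬ p ∣ a) :
    (a * b).factorization p = b.factorization p := by
  rw [Nat.factorization_mul ha hb, Finsupp.add_apply, Nat.factorization_eq_zero_of_not_dvd h,
    zero_add]

variable {F : Type*} [Field F] [Fintype F] [CharP F 3] {m : ℕ}
  (hK : Fintype.card F = 3 ^ (2 * m + 1))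
include hK

omit [Fintype F] hK in
theorem G1_le_group : G1 F m ≤ chevG2.group F := fun g hg => by
  refine G1_induction (m := m) (P := fun x => (x : GL chevG2.Idx F) ∈ chevG2.group F)
    (fun t u v => Chev.ChevSylow.posUnipotent_le_group good facts (uW_mem_U m t u v))
    (fun t u v => Subgroup.mul_mem _ (Subgroup.mul_mem _ n0_mem_group
      (Chev.ChevSylow.posUnipotent_le_group good facts (uW_mem_U m t u v))) (Subgroup.inv_mem _ n0_mem_group))
    (one_mem _) (fun _ _ => mul_mem) (fun _ => inv_mem) ⟨g, hg⟩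

/-- Every prime other than 2 and 3 has a cyclic Sylow subgroup. -/
theorem exists_isCyclic_sylow (hm : 1 ≤ m) {p : ℕ} [hp : Fact p.Prime] (hp2 : p ≠ 2) (hp3 : p ≠ 3) :
    ∃ Q : Sylow p ↥(G1 F m), IsCyclic (Q : Subgroup ↥(G1 F m)) := by
  classical
  haveI : Fact (Nat.Prime 3) := ⟨Nat.prime_three⟩
  have hcard := card_G1 hK
  set q := 3 ^ (2 * m + 1) with hq
  have hq1 : 27 ≤ q := by
    rw [hq]; exact le_trans (by norm_num : 27 ≤ 3 ^ 3) (Nat.pow_le_pow_right (by norm_num) (by omega))
  have hpq : ¬ p ∣ q := fun h => hp3 ((Nat.prime_dvd_prime_iff_eq hp.out Nat.prime_three).1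
    (hp.out.dvd_of_dvd_pow h))
  have hpq3 : ¬ p ∣ q ^ 3 := fun h => hpq (hp.out.dvd_of_dvd_pow h)
  have hsmall : ∀ d : ℕ, d ∈ [2, 3] → ¬ p ∣ d := fun d hd h => by
    simp at hd
    rcases hd with rfl | rfl
    · exact hp2 ((Nat.prime_dvd_prime_iff_eq hp.out Nat.prime_two).1 h)
    · exact hp3 ((Nat.prime_dvd_prime_iff_eq hp.out Nat.prime_three).1 h)
  obtain ⟨r, hr⟩ : ∃ r, q = r + 1 := ⟨q - 1, by omega⟩
  by_cases h1 : p ∣ q - 1
  · -- inside the torus
    obtain ⟨g, hg⟩ := IsCyclic.exists_ofOrder_eq_natCard (α := Fˣ)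
    refine exists_cyclic_sylow_dvd (gT hK g) ?_
    have hgo : orderOf (gT hK g) = q - 1 := by
      have hinj : Function.Injective (MonoidHom.mk' (gT hK) (gT_mul hK)) := by
        intro x y e
        have e' := congrArg (fun z : ↥(G1 F m) => (z : GL chevG2.Idx F)) e
        exact (torusEquiv hK).symm.injective (Subtype.ext e')
      show orderOf ((MonoidHom.mk' (gT hK) (gT_mul hK)) g) = _
      rw [orderOf_injective _ hinj, hg, Nat.card_units, Nat.card_eq_fintype_card, hK]
    have h2 : ¬ p ∣ q ^ 3 + 1 := fun h => by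
      have h4 : q ∣ q ^ 3 := dvd_pow_self q (by norm_num)
      have h3 : p ∣ q ^ 3 - 1 := h1.trans (by
        simpa using Nat.sub_dvd_pow_sub_pow q 1 3)
      have h5 := Nat.dvd_sub h h3
      have h6 : 1 ≤ q ^ 3 := Nat.one_le_pow _ _ (by omega)
      rw [show q ^ 3 + 1 - (q ^ 3 - 1) = 2 by omega] at h5
      exact hsmall 2 (by simp) h5
    rw [hgo, hcard, mul_comm (q ^ 3), mul_assoc, mul_comm, factorization_mul_coprime (by positivity)
      (by omega) (by rw [hp.out.dvd_mul]; exact not_or.2 ⟨hpq3, h2⟩)]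
    exact Nat.ordProj_dvd _ _
  by_cases h2 : p ∣ q + 1
  · -- inside the image of SL(2, q)
    obtain ⟨φ, hφ⟩ := exists_sl2_hom_ree hK hm
    obtain ⟨R⟩ : Nonempty (Sylow p SL(2, F)) := inferInstance
    haveI := PSL2.isCyclic_sylow_odd (F := F) 3 p hp2 hp3 R
    obtain ⟨⟨y, hyR⟩, hy⟩ := IsCyclic.exists_ofOrder_eq_natCard (α := (R : Subgroup SL(2, F)))
    rw [Subgroup.orderOf_mk, R.card_eq_multiplicity, PSL2.card_SL', hK] at hy
    refine exists_cyclic_sylow_dvd (φ y) ?_
    have hk : orderOf y ∣ 2 * orderOf (φ y) := by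
      apply orderOf_dvd_of_pow_eq_one
      have hc : y ^ orderOf (φ y) ∈ φ.ker := by
        rw [MonoidHom.mem_ker, map_pow, pow_orderOf_eq_one]
      rw [mul_comm, pow_mul]
      rcases PSL2.mem_center_iff_pm.1 (hφ hc) with e | e <;> rw [e] <;> simp [sq]
    rw [hy] at hk
    have hk' : p ^ (Nat.factorization (q * (q - 1) * (q + 1)) p) ∣ orderOf (φ y) :=
      (Nat.Coprime.pow_left _ ((Nat.Prime.coprime_iff_not_dvd hp.out).2
        (hsmall 2 (by simp)))).dvd_of_dvd_mul_left (by convert hk using 4)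
    refine dvd_trans (dvd_of_eq (congrArg (p ^ ·) ?_)) hk'
    have h3 : q ^ 3 + 1 = (q ^ 2 - q + 1) * (q + 1) := by
      rw [hr, show (r + 1) ^ 2 - (r + 1) + 1 = r * (r + 1) + 1 by
        rw [sq, Nat.add_one_mul, Nat.add_sub_cancel_right]]
      ring
    have h4 : ¬ p ∣ q ^ 2 - q + 1 := fun h => by
      rw [hr, show (r + 1) ^ 2 - (r + 1) + 1 = r * (r + 1) + 1 by
        rw [sq, Nat.add_one_mul, Nat.add_sub_cancel_right]] at h
      rw [hr, show r + 1 + 1 = r + 2 by ring] at h2
      refine hsmall 3 (by simp) ?_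
      have e : (3 : ℤ) = ((r * (r + 1) + 1 : ℕ) : ℤ) - ((r + 2 : ℕ) : ℤ) * ((r : ℤ) - 1) := by
        push_cast; ring
      exact Int.natCast_dvd_natCast.1 (by
        rw [show ((3 : ℕ) : ℤ) = 3 from rfl, e]
        exact dvd_sub (Int.natCast_dvd_natCast.2 h) ((Int.natCast_dvd_natCast.2 h2).mul_right _))
    rw [hcard, h3, show q ^ 3 * (q - 1) * ((q ^ 2 - q + 1) * (q + 1)) =
        (q ^ 2 - q + 1) * (q ^ 3 * ((q - 1) * (q + 1))) by ring, mul_assoc q,
      factorization_mul_coprime (by positivity)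
        (mul_ne_zero (by positivity) (mul_ne_zero (by omega) (by omega))) h4,
      factorization_mul_coprime (by positivity) (mul_ne_zero (by omega) (by omega)) hpq3,
      factorization_mul_coprime (by omega) (mul_ne_zero (by omega) (by omega)) hpq]
  · -- inside GL(7, q)
    by_cases h6 : p ∣ q ^ 6 - 1
    swap
    · obtain ⟨Q⟩ : Nonempty (Sylow p ↥(G1 F m)) := inferInstance
      refine ⟨Q, ?_⟩
      have h0 : (Nat.card ↥(G1 F m)).factorization p = 0 := by
        apply Nat.factorization_eq_zero_of_not_dvd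
        rw [hcard, hp.out.dvd_mul, hp.out.dvd_mul]
        rintro ((h | h) | h)
        · exact hpq3 h
        · exact h1 h
        · apply h6
          have : q ^ 6 - 1 = (q ^ 3 + 1) * (q ^ 3 - 1) := by
            rw [show q ^ 6 = (q ^ 3) ^ 2 by ring, ← one_pow 2, Nat.sq_sub_sq, one_pow]
          rw [this]
          exact h.mul_right _
      have h7 := Q.card_eq_multiplicity
      rw [h0, pow_zero] at h7
      exact @isCyclic_of_subsingleton _ _ (Nat.card_eq_one_iff_unique.1 h7).1
    -- only one cyclotomic factor of |GL(7, q)| is divisible by p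
    by_cases h3 : p ∣ q ^ 3 + 1
    swap
    · obtain ⟨Q⟩ : Nonempty (Sylow p ↥(G1 F m)) := inferInstance
      refine ⟨Q, ?_⟩
      have h0 : (Nat.card ↥(G1 F m)).factorization p = 0 := by
        apply Nat.factorization_eq_zero_of_not_dvd
        rw [hcard, hp.out.dvd_mul, hp.out.dvd_mul]
        exact not_or.2 ⟨not_or.2 ⟨hpq3, h1⟩, h3⟩
      have h7 := Q.card_eq_multiplicity
      rw [h0, pow_zero] at h7
      exact @isCyclic_of_subsingleton _ _ (Nat.card_eq_one_iff_unique.1 h7).1
    have hz3 : (q : ZMod p) ^ 3 = -1 := by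
      have := (ZMod.natCast_eq_zero_iff _ p).2 h3
      push_cast at this
      linear_combination this
    have hz1 : (q : ZMod p) + 1 ≠ 0 := fun e => h2 ((ZMod.natCast_eq_zero_iff _ p).1 (by
      push_cast; exact e))
    have hz2 : (q : ZMod p) - 1 ≠ 0 := fun e => h1 ((ZMod.natCast_eq_zero_iff _ p).1 (by
      rw [Nat.cast_sub (by omega)]; simpa using e))
    have hp2' : (2 : ZMod p) ≠ 0 := fun e =>
      hsmall 2 (by simp) ((ZMod.natCast_eq_zero_iff 2 p).1 (by exact_mod_cast e))
    have hzd : ∀ i : ℕ, i ∈ Finset.Ico 1 (7 + 1) → i ≠ 6 → ¬ p ∣ q ^ i - 1 := by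
      intro i hi hi6 h
      have e : (q : ZMod p) ^ i = 1 := by
        have := (ZMod.natCast_eq_zero_iff _ p).2 h
        rw [Nat.cast_sub (Nat.one_le_pow _ _ (by omega)), Nat.cast_pow, Nat.cast_one,
          sub_eq_zero] at this
        exact this
      rw [Finset.mem_Ico] at hi
      obtain ⟨hi1, hi2⟩ := hi
      interval_cases i
      · exact hz2 (by rw [pow_one] at e; linear_combination e)
      · rcases mul_eq_zero.1 (show ((q : ZMod p) + 1) * ((q : ZMod p) - 1) = 0 by
          linear_combination e) with h | h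
        · exact hz1 h
        · exact hz2 h
      · exact hp2' (by linear_combination hz3 - e)
      · exact hz1 (by linear_combination (-1 : ZMod p) * e + (q : ZMod p) * hz3)
      · have e2 : (q : ZMod p) ^ 2 = -1 := by linear_combination (-1 : ZMod p) * e + (q : ZMod p) ^ 2 * hz3
        rcases mul_eq_zero.1 (show (q : ZMod p) ^ 2 * ((q : ZMod p) - 1) = 0 by
          linear_combination hz3 - e2) with h | h
        · exact hpq ((ZMod.natCast_eq_zero_iff _ p).1 (pow_eq_zero_iff two_ne_zero |>.1 h))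
        · exact hz2 h
      · exact absurd rfl hi6
      · exact hz2 (by linear_combination e - ((q : ZMod p) ^ 4 - (q : ZMod p)) * hz3)
    obtain ⟨A, hA⟩ := GL.exists_orderOf_card_pow_sub_one (F := F) (d := 6) (n := 7) (by norm_num)
      (by norm_num)
    rw [hK] at hA
    have hGL : (Nat.card (GL (Fin 7) F)).factorization p = (q ^ 6 - 1).factorization p := by
      rw [GL.card_GL (ι := Fin 7) (F := F) 7 (by simp), GL.prod_pow_sub_pow, hK,
        factorization_mul_coprime (by positivity) ?_
          (fun h => hpq (hp.out.dvd_of_dvd_pow h))]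
      · rw [Nat.factorization_prod_apply fun i hi => by
          rw [Finset.mem_Ico] at hi
          have := Nat.one_lt_pow (n := i) (by omega) (show 1 < q by omega)
          omega]
        refine Finset.sum_eq_single 6 (fun i hi hi6 => Nat.factorization_eq_zero_of_not_dvd
          (hzd i hi hi6)) (fun h => absurd (by simp) h)
      · refine Finset.prod_ne_zero_iff.2 fun i hi => ?_
        rw [Finset.mem_Ico] at hi
        have := Nat.one_lt_pow (n := i) (by omega) (show 1 < q by omega)
        omega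
    obtain ⟨T, hT⟩ := exists_cyclic_sylow_dvd (p := p) A (by
      rw [hA, hGL]; exact Nat.ordProj_dvd _ _)
    let ι : ↥(G1 F m) →* GL (Fin 7) F :=
      ((qHom (F := F)).comp (Subgroup.inclusion G1_le_group)).toHomUnits
    have hι : Function.Injective ι := fun x y e =>
      Subgroup.inclusion_injective _ (qHom_injective (congrArg Units.val e))
    obtain ⟨Q⟩ : Nonempty (Sylow p ↥(G1 F m)) := inferInstance
    refine ⟨Q, ?_⟩
    obtain ⟨T', hT'⟩ := (Q.2.map ι).exists_le_sylow
    haveI : IsCyclic (T' : Subgroup (GL (Fin 7) F)) :=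
      isCyclic_of_surjective _ (Sylow.equiv T T').surjective
    haveI : IsCyclic ((Q : Subgroup ↥(G1 F m)).map ι) := Subgroup.isCyclic_of_le hT'
    exact isCyclic_of_surjective _
      ((Q : Subgroup ↥(G1 F m)).equivMapOfInjective ι hι).symm.surjective

end Cfsg.Agent.Twisted.Ree
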