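import Cfsg.Agent.Lib.Twisted.Ree.Layers

/-!
The 3-part of the Schur multiplier of the small Ree groups.

* `layerA`, `upperU`: the abelian layer and U¹ inside the group;
* `exists_sylow_upperU`: U¹ is a Sylow 3-subgroup;
* `exists_average`: averaging over the torus on lifts of the abelian layer;
* `commutator_inf_ker_three`: in a central extension, commutators over U¹ meet the kernel
  trivially.
-/

set_option autoImplicit false

namespace Cfsg.Agent.Twisted.Ree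

open Cfsg.Lie Matrix Schur
open scoped commutatorElement

variable {F : Type*} [Field F] [Fintype F] [CharP F 3] {m : ℕ}
  (hK : Fintype.card F = 3 ^ (2 * m + 1))

/-- The abelian layer of U¹. -/
noncomputable def layerA : Subgroup ↥(G1 F m) where
  carrier := {g | ∃ u v, g = gU m 0 u v}
  one_mem' := ⟨0, 0, gU_zero.symm⟩
  mul_mem' := by
    rintro _ _ ⟨u, v, rfl⟩ ⟨u', v', rfl⟩
    exact ⟨u + u', v + v', gU_zero_mul hK u v u' v'⟩
  inv_mem' := by
    rintro _ ⟨u, v, rfl⟩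
    exact ⟨-u, -v, inv_eq_of_mul_eq_one_right (by
      rw [gU_zero_mul hK, add_neg_cancel, add_neg_cancel, gU_zero])⟩

/-- The group U¹. -/
noncomputable def upperU : Subgroup ↥(G1 F m) where
  carrier := {g | ∃ t u v, g = gU m t u v}
  one_mem' := ⟨0, 0, 0, gU_zero.symm⟩
  mul_mem' := by
    rintro _ _ ⟨t, u, v, rfl⟩ ⟨t', u', v', rfl⟩
    exact ⟨_, _, _, gU_mul hK t u v t' u' v'⟩
  inv_mem' := by
    rintro _ ⟨t, u, v, rfl⟩
    obtain ⟨u', v', h⟩ := exists_gU_inv hK t u v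
    exact ⟨_, _, _, h⟩

theorem mem_layerA {g : ↥(G1 F m)} : g ∈ layerA hK ↔ ∃ u v, g = gU m 0 u v := Iff.rfl

theorem mem_upperU {g : ↥(G1 F m)} : g ∈ upperU hK ↔ ∃ t u v, g = gU m t u v := Iff.rfl

theorem layerA_le_upperU : layerA hK ≤ upperU hK := fun _ ⟨u, v, h⟩ => ⟨0, u, v, h⟩

theorem conj_mem_layerA {g a : ↥(G1 F m)} (hg : g ∈ upperU hK) (ha : a ∈ layerA hK) :
    g * a * g⁻¹ ∈ layerA hK := by
  obtain ⟨t, u, v, rfl⟩ := hg
  obtain ⟨u', v', rfl⟩ := ha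
  obtain ⟨a, b, h⟩ := exists_gU_inv hK t u v
  rw [h, gU_mul hK, gU_mul hK, show t + 0 + -t = 0 by ring]
  exact ⟨_, _, rfl⟩

theorem torus_mem_layerA (c : Fˣ) {a : ↥(G1 F m)} (ha : a ∈ layerA hK) :
    gT hK c * a * (gT hK c)⁻¹ ∈ layerA hK := by
  obtain ⟨u', v', rfl⟩ := ha
  exact ⟨_, _, by rw [gT_conj hK, mul_zero]⟩

theorem commutator_mem_layerA {g g' : ↥(G1 F m)} (hg : g ∈ upperU hK) (hg' : g' ∈ upperU hK) :
    ⁅g, g'⁆ ∈ layerA hK := by
  obtain ⟨t, u, v, rfl⟩ := hg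
  obtain ⟨t', u', v', rfl⟩ := hg'
  obtain ⟨a, b, h1⟩ := exists_gU_inv hK t u v
  obtain ⟨a', b', h2⟩ := exists_gU_inv hK t' u' v'
  rw [commutatorElement_def, h1, h2, gU_mul hK, gU_mul hK, gU_mul hK,
    show t + t' + -t + -t' = 0 by ring]
  exact ⟨_, _, rfl⟩

include hK in
theorem commutator_X_Y (a b : F) :
    ⁅gU m (a : F) 0 0, gU m 0 b 0⁆ = gU m 0 0 (a * b) := by
  rw [commutatorElement_def, mul_inv_eq_iff_eq_mul, mul_inv_eq_iff_eq_mul, gU_mul hK, gU_mul hK,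
    gU_mul hK]
  congr 1 <;> simp [tau_zero]

variable {Γ : Type*} [Group Γ] {σ : Γ →* ↥(G1 F m)} (hs : Function.Surjective σ)
  (hz : σ.ker ≤ Subgroup.center Γ) (hm : 1 ≤ m)
include hs hz hm

/-- Averaging over the torus. -/
theorem exists_average :
    ∃ e : ↥((layerA hK).comap σ) →* ↥((layerA hK).comap σ),
      (∀ (d : Fˣ) (z : (layerA hK).comap σ)
        (h : liftOf hs (gT hK d) * z * (liftOf hs (gT hK d))⁻¹ ∈ (layerA hK).comap σ),
          e ⟨_, h⟩ = e z) ∧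
      ∀ z : (layerA hK).comap σ, (z : Γ) ∈ Subgroup.center Γ → e z = z ^ Nat.card Fˣ := by
  classical
  letI : CommGroup ↥((layerA hK).comap σ) :=
    { (inferInstance : Group ↥((layerA hK).comap σ)) with
      mul_comm := fun x y => Subtype.ext (by
        obtain ⟨u, v, hx⟩ := x.2
        obtain ⟨u', v', hy⟩ := y.2
        exact (commutatorElement_eq_one_iff_commute.1 (by
          rw [commutator_eq_liftComm hs hz, hx, hy, cAA hK hs hz hm])).eq) }
  have hcj : ∀ (c : Fˣ) (z : (layerA hK).comap σ),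
      liftOf hs (gT hK c) * z * (liftOf hs (gT hK c))⁻¹ ∈ (layerA hK).comap σ := fun c z => by
    show σ _ ∈ layerA hK
    rw [map_mul, map_mul, map_inv, map_liftOf]
    exact torus_mem_layerA hK c z.2
  let cj : Fˣ → ↥((layerA hK).comap σ) → ↥((layerA hK).comap σ) := fun c z => ⟨_, hcj c z⟩
  let e : ↥((layerA hK).comap σ) →* ↥((layerA hK).comap σ) :=
    MonoidHom.mk' (fun z => ∏ c : Fˣ, cj c z) fun z z' => by
      rw [← Finset.prod_mul_distrib]
      refine Finset.prod_congr rfl fun c _ => Subtype.ext ?_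
      show liftOf hs (gT hK c) * ((z : Γ) * z') * (liftOf hs (gT hK c))⁻¹ =
        liftOf hs (gT hK c) * z * (liftOf hs (gT hK c))⁻¹ *
          (liftOf hs (gT hK c) * z' * (liftOf hs (gT hK c))⁻¹)
      group
  refine ⟨e, fun d z h => ?_, fun z hzc => ?_⟩
  · show ∏ c : Fˣ, cj c ⟨_, h⟩ = ∏ c : Fˣ, cj c z
    refine Fintype.prod_equiv (Equiv.mulRight d) _ _ fun c => Subtype.ext ?_
    show liftOf hs (gT hK c) * (liftOf hs (gT hK d) * z * (liftOf hs (gT hK d))⁻¹) *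
        (liftOf hs (gT hK c))⁻¹ =
      liftOf hs (gT hK (c * d)) * z * (liftOf hs (gT hK (c * d)))⁻¹
    have hk : (liftOf hs (gT hK (c * d)))⁻¹ * (liftOf hs (gT hK c) * liftOf hs (gT hK d)) ∈
        Subgroup.center Γ := hz (by
      show σ _ = 1
      simp only [map_mul, map_inv, map_liftOf, gT_mul hK, inv_mul_cancel])
    have h1 := Subgroup.mem_center_iff.1 hk (z : Γ)
    calc _ = liftOf hs (gT hK (c * d)) *
          (((liftOf hs (gT hK (c * d)))⁻¹ * (liftOf hs (gT hK c) * liftOf hs (gT hK d))) * z *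
            ((liftOf hs (gT hK (c * d)))⁻¹ * (liftOf hs (gT hK c) * liftOf hs (gT hK d)))⁻¹) *
          (liftOf hs (gT hK (c * d)))⁻¹ := by group
      _ = _ := by rw [← h1, mul_inv_cancel_right]
  · show ∏ c : Fˣ, cj c z = _
    rw [Finset.prod_congr rfl (fun c _ => show cj c z = z from Subtype.ext (by
      show liftOf hs _ * (z : Γ) * (liftOf hs _)⁻¹ = z
      rw [Subgroup.mem_center_iff.1 hzc, mul_inv_cancel_right])), Finset.prod_const,
      Finset.card_univ, Nat.card_eq_fintype_card]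

omit hs hz hm in
/-- Commutators over U¹ lie in the lifts of the abelian layer. -/
theorem comm_mem_layer {x y : Γ} (hx : σ x ∈ upperU hK) (hy : σ y ∈ upperU hK) :
    ⁅x, y⁆ ∈ (layerA hK).comap σ := by
  show σ _ ∈ layerA hK
  rw [map_commutatorElement]
  exact commutator_mem_layerA hK hx hy

omit hs hz hm in
theorem conj_mem_layer {x c : Γ} (hx : σ x ∈ upperU hK) (hc : c ∈ (layerA hK).comap σ) :
    x * c * x⁻¹ ∈ (layerA hK).comap σ := by
  show σ _ ∈ layerA hK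
  rw [map_mul, map_mul, map_inv]
  exact conj_mem_layerA hK hx hc

section Average

variable {e : ↥((layerA hK).comap σ) →* ↥((layerA hK).comap σ)}
  (he : ∀ (d : Fˣ) (z : (layerA hK).comap σ)
    (h : liftOf hs (gT hK d) * z * (liftOf hs (gT hK d))⁻¹ ∈ (layerA hK).comap σ),
      e ⟨_, h⟩ = e z)
include he

omit hz hm he in
theorem liftComm_mem_layer {A B : ↥(G1 F m)} (hA : A ∈ upperU hK) (hB : B ∈ upperU hK) :
    liftComm hs A B ∈ (layerA hK).comap σ := by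
  show σ _ ∈ layerA hK
  rw [map_liftComm]
  exact commutator_mem_layerA hK hA hB

/-- The average kills the commutators of the first two layers. -/
theorem average_XY (a b : F) : e ⟨liftComm hs (gU m a 0 0) (gU m 0 b 0),
    liftComm_mem_layer hK hs ⟨_, _, _, rfl⟩ ⟨_, _, _, rfl⟩⟩ = 1 := by
  have hZ : ∀ a b : F, ∃ w, σ (liftComm hs (gU m a 0 0) (gU m 0 b 0)) = gU m 0 0 w :=
    fun a b => ⟨a * b, by rw [map_liftComm, commutator_X_Y hK]⟩
  have hp : ∀ a b : F, σ (liftOf hs (gU m a b 0)) = gU m a b 0 := fun a b => map_liftOf hs _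
  refine pairing_trivial hK (fun a b => e ⟨liftComm hs (gU m a 0 0) (gU m 0 b 0),
      liftComm_mem_layer hK hs ⟨_, _, _, rfl⟩ ⟨_, _, _, rfl⟩⟩) 1 (3 ^ (m + 1) + 1)
    one_ne_zero ?_ ?_ ?_ (fun c => ⟨c, 0, by simp⟩)
    (fun i _ => not_dvd_odd (by
      have := odd_theta (m := m); rw [Nat.odd_iff] at this ⊢; omega) i) a b
  · intro a a' b
    rw [← map_mul]
    congr 1
    apply Subtype.ext
    show liftComm hs (gU m (a + a') 0 0) (gU m 0 b 0) = _ * _
    obtain ⟨u, v, h⟩ := gU_X_add (m := m) hK a a'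
    rw [h, liftComm_mul_left hs hz (by rw [cAA hK hs hz hm]; exact Commute.one_left _),
      cAA hK hs hz hm, one_mul,
      liftComm_mul_left hs hz (commute_lift_Z hK hs hz hm (hZ a' b) ⟨_, _, _, map_liftOf hs _⟩)]
    refine (commute_lift_Z hK hs hz hm (hZ a' b) ?_).eq
    obtain ⟨w, hw⟩ := hZ a b
    exact ⟨0, 0, w, hw⟩
  · intro a b b'
    rw [← map_mul]
    congr 1
    apply Subtype.ext
    show liftComm hs (gU m a 0 0) (gU m 0 (b + b') 0) = _ * _
    rw [show gU m (0 : F) (b + b') 0 = gU m 0 b 0 * gU m 0 b' 0 by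
        rw [gU_zero_mul hK, add_zero],
      liftComm_mul_right hs hz (commute_lift_Z hK hs hz hm (hZ a b') ⟨_, _, _, map_liftOf hs _⟩)]
  · intro c a b hc
    have h := liftComm_conj hs hz (liftOf hs (gT hK (Units.mk0 c hc))) (gU m a 0 0) (gU m 0 b 0)
    simp only [map_liftOf, gT_conj hK, mul_zero, Units.val_mk0] at h
    have hmem : liftOf hs (gT hK (Units.mk0 c hc)) * liftComm hs (gU m a 0 0) (gU m 0 b 0) *
        (liftOf hs (gT hK (Units.mk0 c hc)))⁻¹ ∈ (layerA hK).comap σ := by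
      rw [← h]
      exact liftComm_mem_layer hK hs ⟨_, _, _, rfl⟩ ⟨_, _, _, rfl⟩
    refine (congrArg e (Subtype.ext ?_)).trans (he (Units.mk0 c hc)
      ⟨_, liftComm_mem_layer hK hs ⟨a, 0, 0, rfl⟩ ⟨0, b, 0, rfl⟩⟩ hmem)
    show liftComm hs (gU m (c ^ 1 * a) 0 0) _ = _
    rw [pow_one]
    exact h

/-- The average is invariant under conjugation over U¹. -/
theorem average_conj {x c : Γ} (hx : σ x ∈ upperU hK) (hc : c ∈ (layerA hK).comap σ) :
    e ⟨x * c * x⁻¹, conj_mem_layer hK hx hc⟩ = e ⟨c, hc⟩ := by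
  obtain ⟨t, u, v, hx'⟩ := id hx
  obtain ⟨u', v', hc'⟩ := id hc
  have h1 : ∀ a, liftComm hs (gU m t u v) (gU m 0 a 0) = liftComm hs (gU m t 0 0) (gU m 0 a 0) :=
    fun a => by
      rw [gU_eq hK, mul_assoc, gU_zero_mul hK,
        liftComm_mul_left hs hz (by rw [cAA hK hs hz hm]; exact Commute.one_left _),
        cAA hK hs hz hm, one_mul]
  have hd : ⁅x, c⁆ = liftComm hs (gU m t 0 0) (gU m 0 u' 0) := by
    rw [commutator_eq_liftComm hs hz, hx', hc', gU_split hK u' v',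
      liftComm_mul_right hs hz (by rw [cUZ hK hs hz hm]; exact Commute.one_left _),
      cUZ hK hs hz hm, mul_one, h1]
  have he' : e ⟨x * c * x⁻¹, conj_mem_layer hK hx hc⟩ =
      e (⟨liftComm hs (gU m t 0 0) (gU m 0 u' 0),
        liftComm_mem_layer hK hs ⟨_, _, _, rfl⟩ ⟨_, _, _, rfl⟩⟩ * ⟨c, hc⟩) := by
    congr 1
    apply Subtype.ext
    show x * c * x⁻¹ = liftComm hs (gU m t 0 0) (gU m 0 u' 0) * c
    rw [← hd, commutatorElement_def, inv_mul_cancel_right]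
  rw [he', map_mul, average_XY hK hs hz hm he, one_mul]

/-- The average kills all commutators over U¹. -/
theorem average_comm {x y : Γ} (hx : σ x ∈ upperU hK) (hy : σ y ∈ upperU hK) :
    e ⟨⁅x, y⁆, comm_mem_layer hK hx hy⟩ = 1 := by
  let f : ∀ {x y : Γ}, σ x ∈ upperU hK → σ y ∈ upperU hK → ↥((layerA hK).comap σ) :=
    fun hx hy => e ⟨_, comm_mem_layer hK hx hy⟩
  have hmul : ∀ {x y : Γ}, σ x ∈ upperU hK → σ y ∈ upperU hK → σ (x * y) ∈ upperU hK :=
    fun hx hy => by rw [map_mul]; exact mul_mem hx hy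
  have fl : ∀ {x x' y : Γ} (hx : σ x ∈ upperU hK) (hx' : σ x' ∈ upperU hK)
      (hy : σ y ∈ upperU hK), f (hmul hx hx') hy = f hx' hy * f hx hy := by
    intro x x' y hx hx' hy
    show e ⟨_, _⟩ = e ⟨_, _⟩ * e ⟨_, _⟩
    rw [← average_conj hK hs hz hm he hx (comm_mem_layer hK hx' hy), ← map_mul]
    congr 1
    apply Subtype.ext
    show ⁅x * x', y⁆ = x * ⁅x', y⁆ * x⁻¹ * ⁅x, y⁆
    simp only [commutatorElement_def]; group
  have fr : ∀ {x y y' : Γ} (hx : σ x ∈ upperU hK) (hy : σ y ∈ upperU hK)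
      (hy' : σ y' ∈ upperU hK), f hx (hmul hy hy') = f hx hy * f hx hy' := by
    intro x y y' hx hy hy'
    show e ⟨_, _⟩ = e ⟨_, _⟩ * e ⟨_, _⟩
    rw [← average_conj hK hs hz hm he hy (comm_mem_layer hK hx hy'), ← map_mul]
    congr 1
    apply Subtype.ext
    show ⁅x, y * y'⁆ = ⁅x, y⁆ * (y * ⁅x, y'⁆ * y⁻¹)
    simp only [commutatorElement_def]; group
  have hU : ∀ t u v, σ (liftOf hs (gU m (t : F) u v)) ∈ upperU hK := fun t u v =>
    ⟨t, u, v, map_liftOf hs _⟩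
  have hAU : ∀ {c : Γ}, c ∈ (layerA hK).comap σ → σ c ∈ upperU hK := fun hc =>
    layerA_le_upperU hK hc
  have fA : ∀ {c y : Γ} (hc : c ∈ (layerA hK).comap σ) (hcP : σ c ∈ upperU hK)
      (hy : σ y ∈ upperU hK), f hcP hy = 1 := by
    intro c y hc hcP hy
    show e ⟨⁅c, y⁆, _⟩ = 1
    have : (⟨⁅c, y⁆, comm_mem_layer hK hcP hy⟩ : (layerA hK).comap σ) =
        ⟨c, hc⟩ * ⟨y * c⁻¹ * y⁻¹, conj_mem_layer hK hy (inv_mem hc)⟩ := Subtype.ext (by
      show ⁅c, y⁆ = c * (y * c⁻¹ * y⁻¹)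
      simp only [commutatorElement_def]; group)
    rw [this, map_mul, average_conj hK hs hz hm he hy (inv_mem hc), ← map_mul]
    exact (congrArg e (Subtype.ext (mul_inv_cancel c))).trans (map_one e)
  have fimg : ∀ {x y x' y' : Γ} (hx : σ x ∈ upperU hK) (hy : σ y ∈ upperU hK)
      (hx' : σ x' ∈ upperU hK) (hy' : σ y' ∈ upperU hK),
      σ x = σ x' → σ y = σ y' → f hx hy = f hx' hy' := by
    intro x y x' y' hx hy hx' hy' e1 e2
    show e ⟨_, _⟩ = e ⟨_, _⟩
    congr 1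
    exact Subtype.ext (commutatorElement_congr hz e1 e2)
  have fAr : ∀ {x c : Γ} (hx : σ x ∈ upperU hK) (hc : c ∈ (layerA hK).comap σ)
      (hcP : σ c ∈ upperU hK), f hx hcP = 1 := by
    intro x c hx hc hcP
    have h1 := fA hc hcP hx
    show e ⟨⁅x, c⁆, _⟩ = 1
    have : (⟨⁅x, c⁆, comm_mem_layer hK hx hcP⟩ : (layerA hK).comap σ) =
        (⟨⁅c, x⁆, comm_mem_layer hK hcP hx⟩ : (layerA hK).comap σ)⁻¹ :=
      Subtype.ext (commutatorElement_inv c x).symm
    rw [this, map_inv]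
    exact inv_eq_one.2 h1
  have hβ : ∀ a b, f (hU a 0 0) (hU b 0 0) = 1 := by
    refine pairing_trivial hK (fun a b => f (hU a 0 0) (hU b 0 0)) 1 1 one_ne_zero ?_ ?_ ?_
      (fun c => ⟨c, 0, by simp⟩)
      fun i hi => not_dvd_small hm (Or.inr ⟨one_le_two, one_le_two⟩) one_pos hi
    · intro a a' b
      obtain ⟨u, v, h⟩ := gU_X_add (m := m) hK a a'
      have hc : liftOf hs (gU m 0 u v) ∈ (layerA hK).comap σ := ⟨u, v, map_liftOf hs _⟩
      rw [fimg (hU (a + a') 0 0) (hU b 0 0)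
          (hmul (hmul (hU a 0 0) (hU a' 0 0)) (hU 0 u v)) (hU b 0 0)
          (by simp only [map_mul, map_liftOf, h]) rfl,
        fl (hmul (hU a 0 0) (hU a' 0 0)) (hU 0 u v) (hU b 0 0), fA hc (hU 0 u v) (hU b 0 0),
        one_mul, fl (hU a 0 0) (hU a' 0 0) (hU b 0 0)]
      exact Subtype.ext ((commutatorElement_eq_one_iff_commute.1 (by
        obtain ⟨p, q, hp⟩ := (f (hU a' 0 0) (hU b 0 0)).2
        obtain ⟨p', q', hp'⟩ := (f (hU a 0 0) (hU b 0 0)).2
        rw [commutator_eq_liftComm hs hz, hp, hp', cAA hK hs hz hm])).eq)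
    · intro a b b'
      obtain ⟨u, v, h⟩ := gU_X_add (m := m) hK b b'
      have hc : liftOf hs (gU m 0 u v) ∈ (layerA hK).comap σ := ⟨u, v, map_liftOf hs _⟩
      rw [fimg (hU a 0 0) (hU (b + b') 0 0) (hU a 0 0)
          (hmul (hmul (hU b 0 0) (hU b' 0 0)) (hU 0 u v)) rfl
          (by simp only [map_mul, map_liftOf, h]),
        fr (hU a 0 0) (hmul (hU b 0 0) (hU b' 0 0)) (hU 0 u v),
        fAr (hU a 0 0) hc (hU 0 u v), mul_one,
        fr (hU a 0 0) (hU b 0 0) (hU b' 0 0)]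
    · intro c a b hc
      have h : ∀ t : F, σ (liftOf hs (gT hK (Units.mk0 c hc)) * liftOf hs (gU m t 0 0) *
          (liftOf hs (gT hK (Units.mk0 c hc)))⁻¹) = σ (liftOf hs (gU m (c ^ 1 * t) 0 0)) :=
        fun t => by
          simp only [map_mul, map_inv, map_liftOf, gT_conj hK, mul_zero, Units.val_mk0, pow_one]
      have heq : ⁅liftOf hs (gU m (c ^ 1 * a) 0 0), liftOf hs (gU m (c ^ 1 * b) 0 0)⁆ =
          liftOf hs (gT hK (Units.mk0 c hc)) * ⁅liftOf hs (gU m a 0 0), liftOf hs (gU m b 0 0)⁆ *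
            (liftOf hs (gT hK (Units.mk0 c hc)))⁻¹ := by
        rw [← commutatorElement_congr hz (h a) (h b)]
        simp only [commutatorElement_def]; group
      show e ⟨_, _⟩ = e ⟨_, _⟩
      rw [← he (Units.mk0 c hc) ⟨_, comm_mem_layer hK (hU a 0 0) (hU b 0 0)⟩
        (heq ▸ comm_mem_layer hK (hU _ 0 0) (hU _ 0 0))]
      exact congrArg e (Subtype.ext heq)
  obtain ⟨t, u, v, hx'⟩ := id hx
  obtain ⟨t', u', v', hy'⟩ := id hy
  have e1 : ∀ (t u v : F), gU m t u v = gU m t 0 0 * gU m 0 u v := fun t u v => by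
    rw [gU_mul hK]; congr 1 <;> simp [tau_zero]
  show f hx hy = 1
  rw [fimg hx hy (hmul (hU t 0 0) (hU 0 u v)) (hmul (hU t' 0 0) (hU 0 u' v'))
      (by simp only [map_mul, map_liftOf, hx', e1 t u v])
      (by simp only [map_mul, map_liftOf, hy', e1 t' u' v']),
    fl (hU t 0 0) (hU 0 u v) (hmul (hU t' 0 0) (hU 0 u' v')),
    fA ⟨u, v, map_liftOf hs _⟩ (hU 0 u v) (hmul (hU t' 0 0) (hU 0 u' v')), one_mul,
    fr (hU t 0 0) (hU t' 0 0) (hU 0 u' v'),
    fAr (hU t 0 0) ⟨u', v', map_liftOf hs _⟩ (hU 0 u' v'), mul_one]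
  exact hβ t t'

end Average

omit hs hz hm in
/-- U¹ is a Sylow 3-subgroup. -/
theorem exists_sylow_upperU :
    ∃ Q : Sylow 3 ↥(G1 F m), (Q : Subgroup ↥(G1 F m)) = upperU hK := by
  haveI : Fact (Nat.Prime 3) := ⟨Nat.prime_three⟩
  have hc : Nat.card ↥(upperU hK) = (3 ^ (2 * m + 1)) ^ 3 := by
    rw [← card_U1 hK]
    refine (Nat.card_congr (Equiv.ofBijective (fun x : ↥(upperU hK) =>
      (⟨((x : ↥(G1 F m)) : GL chevG2.Idx F), by
        obtain ⟨t, u, v, h⟩ := x.2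
        rw [h]
        exact uW_mem_U1 m t u v⟩ : ↥(U1 F m))) ⟨?_, ?_⟩))
    · intro x y h
      have h' := congrArg Subtype.val h
      exact Subtype.ext (Subtype.ext h')
    · rintro ⟨g, hg⟩
      obtain ⟨t, u, v, rfl⟩ := (mem_U1_iff hK).1 hg
      exact ⟨⟨gU m t u v, t, u, v, rfl⟩, rfl⟩
  have h3 : ¬ 3 ∣ (3 ^ (2 * m + 1) - 1) * ((3 ^ (2 * m + 1)) ^ 3 + 1) := by
    have h : 3 ∣ 3 ^ (2 * m + 1) := dvd_pow_self 3 (by omega)
    have h' : 3 ∣ (3 ^ (2 * m + 1)) ^ 3 := dvd_pow h (by norm_num)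
    have h1 : 1 ≤ 3 ^ (2 * m + 1) := Nat.one_le_pow _ _ (by norm_num)
    rw [Nat.prime_three.dvd_mul]
    omega
  refine ⟨Sylow.ofCard (upperU hK) ?_, Sylow.coe_ofCard _ _⟩
  rw [hc, card_G1 hK, mul_assoc, mul_comm ((3 ^ (2 * m + 1)) ^ 3),
    Nat.factorization_mul (mul_ne_zero (by
      have : 1 < 3 ^ (2 * m + 1) := Nat.one_lt_pow (by omega) (by norm_num)
      omega) (by positivity)) (by positivity), Finsupp.add_apply,
    Nat.factorization_eq_zero_of_not_dvd h3, zero_add, ← pow_mul,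
    Nat.Prime.factorization_pow Nat.prime_three, Finsupp.single_eq_same]

/-- The 3-part: over U¹, commutators meet a central kernel trivially. -/
theorem commutator_inf_ker_three (P : Subgroup Γ) (hP : IsPGroup 3 P)
    (hPU : ∀ x ∈ P, σ x ∈ upperU hK) : ⁅P, P⁆ ⊓ σ.ker = ⊥ := by
  obtain ⟨e, he, hec⟩ := exists_average hK hs hz hm
  have hgen : ⁅P, P⁆ ≤ e.ker.map ((layerA hK).comap σ).subtype := by
    rw [Subgroup.commutator_le]
    intro x hx y hy
    exact ⟨⟨_, comm_mem_layer hK (hPU x hx) (hPU y hy)⟩,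
      average_comm hK hs hz hm he (hPU x hx) (hPU y hy), rfl⟩
  rw [eq_bot_iff]
  rintro x ⟨hxc, hxk⟩
  obtain ⟨z, hz1, rfl⟩ := hgen hxc
  have hpow : z ^ Nat.card Fˣ = 1 := by
    rw [← hec z (hz hxk)]
    exact hz1
  obtain ⟨n, hn⟩ := hP ⟨_, Subgroup.commutator_le_self P hxc⟩
  have hn' : z ^ 3 ^ n = 1 := Subtype.ext (by simpa using congrArg Subtype.val hn)
  have hco : Nat.Coprime (Nat.card Fˣ) (3 ^ n) := by
    apply Nat.Coprime.pow_right
    rw [Nat.coprime_comm, Nat.Prime.coprime_iff_not_dvd Nat.prime_three, Nat.card_units, Nat.card_eq_fintype_card, hK,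
      pow_succ]
    have := Nat.one_le_pow (2 * m) 3 (by norm_num)
    omega
  have := pow_gcd_eq_one.2 ⟨hpow, hn'⟩
  rw [hco.gcd_eq_one, pow_one] at this
  rw [this]
  exact Subgroup.mem_bot.2 rfl

end Cfsg.Agent.Twisted.Ree
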