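import Cfsg.Agent.Lib.Twisted.Ree.Weights
import Cfsg.Agent.Lib.Twisted.Ree.ConjWords
import Cfsg.Agent.Lib.Schur.SylowLocal

/-!
The 2-part of the Schur multiplier of the small Ree groups.

* `commutator_local_two`: over a Sylow 2-subgroup, commutators of lifts vanish.
-/

set_option autoImplicit false

namespace Cfsg.Agent.Twisted.Ree

open Cfsg.Lie Matrix Chev
open scoped commutatorElement

/-- Three commuting involutions without relations generate at least eight elements. -/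
theorem eight_le_card_closure {G : Type*} [Group G] [Finite G] {n a b : G} (n2 : n * n = 1)
    (a2 : a * a = 1) (b2 : b * b = 1) (hna : n * a = a * n) (hnb : n * b = b * n)
    (hab : a * b = b * a) (h1 : n ≠ 1) (h2 : a ≠ 1) (h3 : b ≠ 1) (h4 : n * a ≠ 1)
    (h5 : n * b ≠ 1) (h6 : a * b ≠ 1) (h7 : n * a * b ≠ 1) :
    8 ≤ Nat.card ↥(Subgroup.closure ({n, a, b} : Set G)) := by
  let c : G → Bool → G := fun g i => if i then g else 1
  have hc : ∀ g : G, g * g = 1 → ∀ i j, c g i * c g j = c g (xor i j) := by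
    intro g hg i j; cases i <;> cases j <;> simp [c, hg]
  have hcc : ∀ g g' : G, g * g' = g' * g → ∀ i j, Commute (c g i) (c g' j) := by
    intro g g' hg i j; cases i <;> cases j <;> simp [c, commute_iff_eq, hg]
  let f : Bool × Bool × Bool → G := fun x => c n x.1 * c a x.2.1 * c b x.2.2
  let op : Bool × Bool × Bool → Bool × Bool × Bool → Bool × Bool × Bool := fun x y =>
    (xor x.1 y.1, xor x.2.1 y.2.1, xor x.2.2 y.2.2)
  have hf : ∀ x y, f x * f y = f (op x y) := by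
    intro x y
    simp only [f, op, ← hc n n2, ← hc a a2, ← hc b b2]
    calc c n x.1 * c a x.2.1 * c b x.2.2 * (c n y.1 * c a y.2.1 * c b y.2.2)
        = c n x.1 * c a x.2.1 * (c b x.2.2 * c n y.1) * c a y.2.1 * c b y.2.2 := by group
      _ = c n x.1 * (c a x.2.1 * c n y.1) * (c b x.2.2 * c a y.2.1) * c b y.2.2 := by
          rw [(hcc n b hnb y.1 x.2.2).eq.symm]; group
      _ = _ := by
          rw [(hcc n a hna y.1 x.2.1).eq.symm, (hcc a b hab y.2.1 x.2.2).eq.symm]; group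
  have hone : f (false, false, false) = 1 := by simp [f, c]
  have hinj : Function.Injective f := by
    intro x y e
    have h : f (op x y) = 1 := by
      rw [← hf, e, hf]
      simp [op, hone]
    obtain ⟨i, j, k⟩ := x
    obtain ⟨i', j', k'⟩ := y
    cases i <;> cases j <;> cases k <;> cases i' <;> cases j' <;> cases k' <;>
      first
      | rfl
      | exact absurd h (by simp [f, op, c, h1, h2, h3, h4, h5, h6, h7])
  have hmem : ∀ x, f x ∈ Subgroup.closure ({n, a, b} : Set G) := fun ⟨i, j, k⟩ => by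
    refine mul_mem (mul_mem ?_ ?_) ?_ <;> simp only [c] <;> split_ifs <;>
      first | exact one_mem _ | exact Subgroup.subset_closure (by simp)
  have := Nat.card_le_card_of_injective (fun x => (⟨f x, hmem x⟩ : Subgroup.closure ({n, a, b} : Set G)))
    fun x y e => hinj (congrArg Subtype.val e)
  simpa using this

/-- The group element is the value of the integer word. -/
def IsWord {F : Type*} [Field F] (m : ℕ) (w : List (ℕ × ℤ)) (g : ↥(G1 F m)) : Prop :=
  (∀ p ∈ w, p.1 < 12) ∧ ((g : GL chevG2.Idx F) : Matrix chevG2.Idx chevG2.Idx F) =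
    chevG2.wordMat F (w.map fun p => (p.1, (p.2 : F)))

variable {F : Type*} [Field F] [CharP F 3] {m : ℕ}

omit [CharP F 3] in
theorem IsWord.mul {w w' : List (ℕ × ℤ)} {g g' : ↥(G1 F m)} (h : IsWord m w g)
    (h' : IsWord m w' g') : IsWord m (w ++ w') (g * g') := by
  refine ⟨fun p hp => (List.mem_append.1 hp).elim (h.1 p) (h'.1 p), ?_⟩
  rw [List.map_append, wordMat_append, ← h.2, ← h'.2]
  rfl

omit [CharP F 3] in
theorem isWord_one : IsWord m [] (1 : ↥(G1 F m)) :=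
  ⟨by simp, by simp [ChevalleyDatum.wordMat]⟩

theorem IsWord.eq {w w' : List (ℕ × ℤ)} {g g' : ↥(G1 F m)} (h : IsWord m w g)
    (h' : IsWord m w' g') (e : eqW w w' = true) : g = g' :=
  Subtype.ext (Units.ext (h.2.trans ((wordMat_eq_of_eqW e h.1 h'.1).trans h'.2.symm)))

theorem IsWord.ne_one {w : List (ℕ × ℤ)} {g : ↥(G1 F m)} (h : IsWord m w g)
    (e : neOne w = true) : g ≠ 1 := fun e1 =>
  wordMat_ne_one (F := F) e h.1 (by rw [← h.2, e1]; rfl)

variable [Fintype F] (hK : Fintype.card F = 3 ^ (2 * m + 1))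
include hK

/-- The 2-part. -/
theorem commutator_local_two {Γ : Type*} [Group Γ] [Finite Γ] (σ : Γ →* ↥(G1 F m))
    (hs : Function.Surjective σ) (hz : σ.ker ≤ Subgroup.center Γ) :
    ∃ P : Sylow 2 Γ, ⁅(P : Subgroup Γ), (P : Subgroup Γ)⁆ ⊓ σ.ker = ⊥ := by
  classical
  haveI : Fact (Nat.Prime 2) := ⟨Nat.prime_two⟩
  have hp : ∀ z : ℤ, (z = 0 ∨ z = 1 ∨ z = -1) → (z : F) ^ 3 ^ m = z := by
    rintro z (rfl | rfl | rfl)
    · simp
    · simp
    · push_cast; exact (Odd.pow (by decide : Odd 3)).neg_one_pow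
  have RU : ∀ t u v : ℤ, (t = 0 ∨ t = 1 ∨ t = -1) → (u = 0 ∨ u = 1 ∨ u = -1) →
      (v = 0 ∨ v = 1 ∨ v = -1) → IsWord m (uZ t u v) (gU m (t : F) u v) := fun t u v ht hu hv =>
    ⟨by intro p hp; simp [uZ] at hp; rcases hp with rfl | rfl | rfl | rfl | rfl | rfl <;> norm_num,
      uW_intCast m (hp t ht) (hp u hu) (hp v hv)⟩
  have Rn : IsWord m n0Word ⟨n0 F, n0_mem_G1 m⟩ := ⟨by decide, coe_n0_word⟩
  have z0 : (0 : ℤ) = 0 ∨ (0 : ℤ) = 1 ∨ (0 : ℤ) = -1 := Or.inl rfl
  have z1 : (1 : ℤ) = 0 ∨ (1 : ℤ) = 1 ∨ (1 : ℤ) = -1 := Or.inr (Or.inl rfl)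
  have zm : (-1 : ℤ) = 0 ∨ (-1 : ℤ) = 1 ∨ (-1 : ℤ) = -1 := Or.inr (Or.inr rfl)
  obtain ⟨n, hn⟩ : ∃ n : ↥(G1 F m), IsWord m n0Word n := ⟨_, Rn⟩
  obtain ⟨a, ha⟩ : ∃ a : ↥(G1 F m), IsWord m aWord a := ⟨_, IsWord.mul (IsWord.mul (RU 0 1 0 z0 z1 z0) Rn) (RU 0 (-1) 0 z0 zm z0)⟩
  obtain ⟨b, hb⟩ : ∃ b : ↥(G1 F m), IsWord m bWord b := ⟨_, IsWord.mul (IsWord.mul (IsWord.mul (IsWord.mul (RU 0 0 1 z0 z0 z1) Rn)
    (RU 0 1 (-1) z0 z1 zm)) Rn) (RU 1 0 (-1) z1 z0 zm)⟩
  obtain ⟨g, hg⟩ : ∃ g : ↥(G1 F m), IsWord m (uZ 0 0 1 ++ n0Word ++ uZ 1 1 1) g :=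
    ⟨_, IsWord.mul (IsWord.mul (RU 0 0 1 z0 z0 z1) Rn) (RU 1 1 1 z1 z1 z1)⟩
  obtain ⟨d1, d2, d3⟩ := conj_checks
  obtain ⟨c1, c2, c3, c4, c5, c6, c7, c8, c9, c10, c11, c12, c13⟩ := checks
  have n2 : n * n = 1 := IsWord.eq (IsWord.mul hn hn) isWord_one c1
  have a2 : a * a = 1 := IsWord.eq (IsWord.mul ha ha) isWord_one c2
  have b2 : b * b = 1 := IsWord.eq (IsWord.mul hb hb) isWord_one c3
  have hna : n * a = a * n := IsWord.eq (IsWord.mul hn ha) (IsWord.mul ha hn) c4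
  have hnb : n * b = b * n := IsWord.eq (IsWord.mul hn hb) (IsWord.mul hb hn) c5
  have hab : a * b = b * a := IsWord.eq (IsWord.mul ha hb) (IsWord.mul hb ha) c6
  have h8 := eight_le_card_closure n2 a2 b2 hna hnb hab (IsWord.ne_one hn c7) (IsWord.ne_one ha c8) (IsWord.ne_one hb c9)
    (IsWord.ne_one (IsWord.mul hn ha) c10) (IsWord.ne_one (IsWord.mul hn hb) c11) (IsWord.ne_one (IsWord.mul ha hb) c12)
    (IsWord.ne_one (IsWord.mul (IsWord.mul hn ha) hb) c13)
  have g1 : g * n = n * a * b * g :=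
    IsWord.eq (IsWord.mul hg hn) (IsWord.mul (IsWord.mul (IsWord.mul hn ha) hb) hg) d1
  have g2 : g * (n * a * b) = b * g :=
    IsWord.eq (IsWord.mul hg (IsWord.mul (IsWord.mul hn ha) hb)) (IsWord.mul hb hg) d2
  have g3 : g * b = n * (n * a * b) * g :=
    IsWord.eq (IsWord.mul hg hb) (IsWord.mul (IsWord.mul hn (IsWord.mul (IsWord.mul hn ha) hb)) hg) d3
  -- the Sylow 2-subgroup
  set E := Subgroup.closure ({n, a, b} : Set ↥(G1 F m)) with hE
  have hcomm : IsMulCommutative E := Subgroup.isMulCommutative_closure (by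
    simp only [Set.mem_insert_iff, Set.mem_singleton_iff, forall_eq_or_imp, forall_eq]
    exact ⟨⟨trivial, hna, hnb⟩, ⟨hna.symm, trivial, hab⟩, hnb.symm, hab.symm, trivial⟩)
  have hinv : ∀ x ∈ E, x * x = 1 := by
    intro x hx
    induction hx using Subgroup.closure_induction with
    | mem x hx =>
      simp only [Set.mem_insert_iff, Set.mem_singleton_iff] at hx
      rcases hx with rfl | rfl | rfl
      exacts [n2, a2, b2]
    | one => simp
    | mul x y hx hy ihx ihy =>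
      have e : x * y = y * x := congrArg Subtype.val (hcomm.is_comm.comm ⟨x, hx⟩ ⟨y, hy⟩)
      calc x * y * (x * y) = x * (y * x) * y := by group
        _ = x * (x * y) * y := by rw [e]
        _ = x * x * (y * y) := by group
        _ = 1 := by rw [ihx, ihy, one_mul]
    | inv x hx ih => rw [← _root_.mul_inv_rev, ih, inv_one]
  have hE2 : IsPGroup 2 E := fun x => ⟨1, Subtype.ext (by
    show (x : ↥(G1 F m)) ^ 2 ^ 1 = 1
    rw [pow_one, sq, hinv _ x.2])⟩
  obtain ⟨S, hS⟩ := hE2.exists_le_sylow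
  have hSE : (S : Subgroup ↥(G1 F m)) = E :=
    (Subgroup.eq_of_le_of_card_ge hS (by
      rw [S.card_eq_multiplicity, card_eq_eight_mul_odd hK]; exact h8)).symm
  obtain ⟨P, hP⟩ := Schur.exists_sylow_map_eq σ hs S
  obtain ⟨n', hn'⟩ := hs n
  obtain ⟨g', hg'⟩ := hs g
  have e1 : σ (g' * n' * g'⁻¹) = n * a * b := by
    rw [map_mul, map_mul, map_inv, hn', hg', g1, mul_inv_cancel_right]
  have e2 : σ (g' * (g' * n' * g'⁻¹) * g'⁻¹) = b := by
    rw [map_mul, map_mul, map_inv, e1, hg', g2, mul_inv_cancel_right]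
  refine ⟨P, ?_⟩
  rw [Schur.commutator_eq_bot_of_cubic σ hz P (a := n') (g := g') ?_ ?_ ?_ ?_, bot_inf_eq]
  · rw [hn', e1]
    calc n * (n * a * b) = n * n * (a * b) := by group
      _ = a * (n * n) * b := by rw [n2]; group
      _ = (a * n) * (n * b) := by group
      _ = (n * a) * (b * n) := by rw [hna, hnb]
      _ = n * a * b * n := by group
  · rw [hn', e2, hnb]
  · rw [map_mul, map_mul, map_inv, e2, hg', g3, mul_inv_cancel_right, hn', e1]
  · rw [hP, hSE, hn', e1, e2, hE, Subgroup.closure_le]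
    have hk : n ∈ Subgroup.closure ({n, n * a * b, b} : Set ↥(G1 F m)) :=
      Subgroup.subset_closure (by simp)
    have hl : n * a * b ∈ Subgroup.closure ({n, n * a * b, b} : Set ↥(G1 F m)) :=
      Subgroup.subset_closure (by simp)
    have hr : b ∈ Subgroup.closure ({n, n * a * b, b} : Set ↥(G1 F m)) :=
      Subgroup.subset_closure (by simp)
    rintro x (rfl | rfl | rfl)
    · exact hk
    · have := mul_mem (mul_mem (inv_mem hk) hl) (inv_mem hr)
      simpa [mul_assoc] using this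
    · exact hr

end Cfsg.Agent.Twisted.Ree
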