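import Cfsg.Agent.Lib.Twisted.Ree.Simple
import Cfsg.Agent.Lib.Twisted.Ree.Mult
import Cfsg.Agent.Lib.Schur.LiftComm

/-!
Tools for the 3-local structure of the small Ree groups.

* `pairing_trivial`: a biadditive pairing on the field invariant under `(a ^ k₁, a ^ k₂)` is
  trivial unless `q - 1` divides some `3 ^ i * k₁ + k₂`;
* `gU`, `gT`: the unipotent and torus elements with their multiplication rules;
* `not_dvd_small`, `not_dvd_odd`, `exists_weight_one`, `exists_weight_two`: the weights.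
-/

set_option autoImplicit false

namespace Cfsg.Agent.Twisted.Ree

open Cfsg.Lie Matrix Chev BNSetup
open scoped commutatorElement

section Field

variable {F : Type*} [Field F] [Fintype F] [CharP F 3] {m : ℕ}
  (hK : Fintype.card F = 3 ^ (2 * m + 1))
include hK

theorem exists_frobenius_three (σ : F →+* F) :
    ∃ i < 2 * m + 1, ∀ x, σ x = x ^ 3 ^ i := by
  haveI : Fact (Nat.Prime 3) := ⟨Nat.prime_three⟩
  letI : Algebra (ZMod 3) F := ZMod.algebra F 3
  have hm : Module.finrank (ZMod 3) F = 2 * m + 1 := by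
    have := Module.card_eq_pow_finrank (K := ZMod 3) (V := F)
    rw [ZMod.card, hK] at this
    exact (Nat.pow_right_injective (by norm_num) this).symm
  let σe : F ≃+* F := RingEquiv.ofBijective σ (Finite.injective_iff_bijective.1 σ.injective)
  let σa : F ≃ₐ[ZMod 3] F := AlgEquiv.ofRingEquiv (f := σe) (fun c => by
    exact RingHom.congr_fun (Subsingleton.elim ((σe : F →+* F).comp (algebraMap (ZMod 3) F))
      (algebraMap (ZMod 3) F)) c)
  obtain ⟨l, hl⟩ := (FiniteField.bijective_frobeniusAlgEquivOfAlgebraic_pow (ZMod 3) F).2 σa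
  refine ⟨l, hm ▸ l.2, fun x => ?_⟩
  have := DFunLike.congr_fun hl x
  rw [AlgEquiv.coe_pow, FiniteField.coe_frobeniusAlgEquivOfAlgebraic_iterate, ZMod.card] at this
  exact this.symm

theorem pairing_trivial {M : Type*} [Group M] (β : F → F → M) (k₁ k₂ : ℕ) (hk₁ : k₁ ≠ 0)
    (addl : ∀ u u' v, β (u + u') v = β u v * β u' v)
    (addr : ∀ u v v', β u (v + v') = β u v * β u v')
    (inv : ∀ a u v, a ≠ 0 → β (a ^ k₁ * u) (a ^ k₂ * v) = β u v)
    (hspan : ∀ c : F, ∃ a b : F, c = a ^ k₁ - b ^ k₁)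
    (hne : ∀ i < 2 * m + 1, ¬ 3 ^ (2 * m + 1) - 1 ∣ 3 ^ i * k₁ + k₂) :
    ∀ u v, β u v = 1 := by
  have zl : ∀ v, β 0 v = 1 := fun v => by
    have := addl 0 0 v; rw [add_zero] at this; exact left_eq_mul.1 this
  have zr : ∀ u, β u 0 = 1 := fun u => by
    have := addr u 0 0; rw [add_zero] at this; exact left_eq_mul.1 this
  have nl : ∀ u v, β (-u) v = (β u v)⁻¹ := fun u v => by
    have := addl (-u) u v; rw [neg_add_cancel, zl] at this
    exact eq_inv_of_mul_eq_one_left this.symm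
  have nr : ∀ u v, β u (-v) = (β u v)⁻¹ := fun u v => by
    have := addr u (-v) v; rw [neg_add_cancel, zr] at this
    exact eq_inv_of_mul_eq_one_left this.symm
  by_contra hne'
  push Not at hne'
  obtain ⟨u₀, v₀, huv⟩ := hne'
  let R : F → F → Prop := fun c d => ∀ u v, β (c * u) v = β u (d * v)
  have huniq : ∀ {c d d'}, R c d → R c d' → d = d' := by
    intro c d d' h h'
    by_contra hcd
    have hwker : ∀ u v, β u ((d - d') * v) = 1 := fun u v => by
      rw [sub_mul, sub_eq_add_neg, addr, nr, ← h u v, ← h' u v, mul_inv_cancel]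
    apply huv
    have := hwker u₀ ((d - d')⁻¹ * v₀)
    rwa [← mul_assoc, mul_inv_cancel₀ (sub_ne_zero.2 hcd), one_mul] at this
  have Rk : ∀ a : F, a ≠ 0 → R (a ^ k₁) ((a ^ k₂)⁻¹) := fun a ha u v => by
    rw [← inv a u ((a ^ k₂)⁻¹ * v) ha, mul_inv_cancel_left₀ (pow_ne_zero _ ha)]
  have R0 : R 0 0 := fun u v => by rw [zero_mul, zero_mul, zl, zr]
  have hex' : ∀ a : F, ∃ d, R (a ^ k₁) d := fun a => by
    rcases eq_or_ne a 0 with rfl | ha
    · exact ⟨0, by rw [zero_pow hk₁]; exact R0⟩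
    · exact ⟨_, Rk a ha⟩
  have hex : ∀ c : F, ∃ d, R c d := fun c => by
    obtain ⟨a, b, rfl⟩ := hspan c
    obtain ⟨d, hd⟩ := hex' a
    obtain ⟨e, he⟩ := hex' b
    exact ⟨d + -e, fun u v => by
      rw [sub_mul, sub_eq_add_neg, addl, nl, hd, he, add_mul, neg_mul, addr, nr]⟩
  choose α hα using hex
  let αh : F →+* F :=
    { toFun := α
      map_one' := huniq (hα 1) fun u v => by rw [one_mul, one_mul]
      map_mul' := fun c c' => huniq (hα _) fun u v => by
        rw [mul_assoc, hα c, hα c', mul_comm (α c) (α c'), mul_assoc]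
      map_zero' := huniq (hα 0) R0
      map_add' := fun c c' => huniq (hα _) fun u v => by
        rw [add_mul, add_mul, addl, addr, hα c, hα c'] }
  obtain ⟨i, hi, hα'⟩ := exists_frobenius_three hK αh
  obtain ⟨g, hg⟩ := IsCyclic.exists_ofOrder_eq_natCard (α := Fˣ)
  apply hne i hi
  rw [Nat.card_units, Nat.card_eq_fintype_card, hK] at hg
  rw [← hg]
  refine orderOf_dvd_of_pow_eq_one (Units.ext ?_)
  have h : ((g : F) ^ k₁) ^ 3 ^ i = ((g : F) ^ k₂)⁻¹ :=
    (hα' _).symm.trans (huniq (hα _) (Rk g g.ne_zero))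
  rw [Units.val_pow_eq_pow_val, Units.val_one, pow_add, mul_comm (3 ^ i) k₁, pow_mul, h,
    inv_mul_cancel₀ (pow_ne_zero _ g.ne_zero)]

end Field

section Elements

variable {F : Type*} [Field F] {m : ℕ}

/-- The unipotent elements, inside the small Ree group. -/
def gU (m : ℕ) (t u v : F) : ↥(G1 F m) := ⟨uW m t u v, uW_mem_G1 m t u v⟩

/-- The twisting exponent. -/
def tau (m : ℕ) (t : F) : F := t ^ 3 ^ (m + 1)

theorem gU_inj [CharP F 3] {t u v t' u' v' : F} (h : gU m t u v = gU m t' u' v') :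
    t = t' ∧ u = u' ∧ v = v' := uW_inj (congrArg Subtype.val h)

variable [Fintype F] [CharP F 3] (hK : Fintype.card F = 3 ^ (2 * m + 1))
include hK

theorem gU_mul (t u v t' u' v' : F) :
    gU m t u v * gU m t' u' v' = gU m (t + t') (u + u' - t * tau m t')
      (v + v' - tau m t' * t ^ 2 - t' * u + tau m t' * t * t') := by
  obtain ⟨T, U, V, e⟩ := exists_uW_of_maps (m := m) (g := uW m t u v * uW m t' u' v')
    (Subgroup.mul_mem _ (uW_mem_U m _ _ _) (uW_mem_U m _ _ _))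
    ((maps_uW (pow_q hK) t u v).mul (maps_uW (pow_q hK) t' u' v'))
  have e' : uW m t u v * uW m t' u' v' = uW m T U V := e
  have h := e'
  simp only [uW, uOf_mul] at h
  obtain ⟨-, hb, -, -, hf, hg⟩ := uOf_inj h
  have hp : ((t' : F) ^ 3 ^ m) ^ 3 = tau m t' := by rw [tau, ← pow_mul, ← pow_succ]
  refine Subtype.ext (e'.trans ?_)
  show _ = uW m _ _ _
  rw [← hb, ← hf, ← hg, hp]
  congr 1 <;> ring

omit [Fintype F] [CharP F 3] hK in
theorem tau_zero : tau m (0 : F) = 0 := zero_pow (by positivity)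

omit [Fintype F] [CharP F 3] hK in
theorem gU_zero : gU m (0 : F) 0 0 = 1 := Subtype.ext (uW_zero m)

theorem gU_eq (t u v : F) : gU m t u v = gU m t 0 0 * gU m 0 u 0 * gU m 0 0 v := by
  rw [gU_mul hK, gU_mul hK]
  congr 1 <;> simp [tau_zero]

theorem gU_zero_mul (u v u' v' : F) :
    gU m 0 u v * gU m 0 u' v' = gU m 0 (u + u') (v + v') := by
  rw [gU_mul hK]
  congr 1 <;> simp [tau_zero]

theorem exists_gU_inv (t u v : F) : ∃ u' v', (gU m t u v)⁻¹ = gU m (-t) u' v' := by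
  refine ⟨-u + t * tau m (-t), -v + tau m (-t) * t ^ 2 - t * u + tau m (-t) * t * t, ?_⟩
  refine inv_eq_of_mul_eq_one_right ?_
  rw [gU_mul hK, ← gU_zero (F := F) (m := m)]
  congr 1 <;> ring

/-- The torus element of weight `c`. -/
noncomputable def gT (c : Fˣ) : ↥(G1 F m) :=
  ⟨((torusEquiv hK).symm c : GL chevG2.Idx F), ((torusEquiv hK).symm c).2.2⟩

theorem gT_mul (c d : Fˣ) : gT hK (c * d) = gT hK c * gT hK d :=
  Subtype.ext (by simp [gT, map_mul])

theorem gT_conj (c : Fˣ) (t u v : F) :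
    gT hK c * gU m t u v * (gT hK c)⁻¹ = gU m ((c : F) * t)
      ((c : F) ^ (3 ^ (m + 1) + 1) * u) ((c : F) ^ (3 ^ (m + 1) + 2) * v) := by
  have hw : wt (((torusEquiv hK).symm c : ↥(H1 F m)) : GL chevG2.Idx F) = (c : F) :=
    congrArg Units.val ((torusEquiv hK).apply_symm_apply c)
  refine Subtype.ext ?_
  show _ = uW m _ _ _
  rw [← hw]
  exact torus_conj_uW hK ((torusEquiv hK).symm c).2 t u v

end Elements

section Weights

variable {F : Type*} [Field F] [Fintype F] {m : ℕ}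
  (hK : Fintype.card F = 3 ^ (2 * m + 1))

/-- Weights that cannot be cancelled by a field automorphism. -/
theorem not_dvd_small {a b : ℕ} (hm : 1 ≤ m)
    (h : (a ≤ 1 ∧ b ≤ 3 ^ (m + 1) + 2) ∨ (a ≤ 2 ∧ b ≤ 2))
    (hb0 : 0 < b) {i : ℕ} (hi : i < 2 * m + 1) :
    ¬ 3 ^ (2 * m + 1) - 1 ∣ 3 ^ i * a + b := by
  intro hd
  have h1 : 3 ^ i ≤ 3 ^ (2 * m) := Nat.pow_le_pow_right (by norm_num) (by omega)
  have h2 : 3 ^ (2 * m + 1) = 3 ^ (2 * m) * 3 := pow_succ _ _
  have h3 : 3 ^ (m + 1) ≤ 3 ^ (2 * m) := Nat.pow_le_pow_right (by norm_num) (by omega)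
  have h4 : 3 ^ 2 ≤ 3 ^ (2 * m) := Nat.pow_le_pow_right (by norm_num) (by omega)
  have h5 := Nat.le_of_dvd (by omega) hd
  rcases h with ⟨ha, hb⟩ | ⟨ha, hb⟩
  · have : 3 ^ i * a ≤ 3 ^ i * 1 := Nat.mul_le_mul le_rfl ha
    omega
  · have : 3 ^ i * a ≤ 3 ^ i * 2 := Nat.mul_le_mul le_rfl ha
    omega

/-- Odd weights. -/
theorem not_dvd_odd {a b : ℕ} (h : Odd (a + b)) (i : ℕ) :
    ¬ 3 ^ (2 * m + 1) - 1 ∣ 3 ^ i * a + b := by
  intro hd
  have h2 : 2 ∣ 3 ^ (2 * m + 1) - 1 := by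
    have h3 : (3 ^ (2 * m + 1)) % 2 = 1 := by simp [Nat.pow_mod]
    omega
  have h4 : (3 ^ i * a + b) % 2 = 0 := Nat.mod_eq_zero_of_dvd (h2.trans hd)
  rw [Nat.add_mod, Nat.mul_mod, Nat.pow_mod] at h4
  simp at h4
  rw [Nat.odd_iff] at h
  omega

theorem odd_theta : Odd (3 ^ (m + 1)) := Odd.pow (by decide)

theorem span_sq [CharP F 3] (c : F) : ∃ a b : F, c = a ^ 2 - b ^ 2 := by
  have h3 : (3 : F) = 0 := by exact_mod_cast CharP.cast_eq_zero F 3
  exact ⟨c + 1, c - 1, by linear_combination (-c) * h3⟩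

include hK

theorem exists_weight_two (a : F) (ha : a ≠ 0) :
    ∃ c : Fˣ, (c : F) ^ (3 ^ (m + 1) + 2) = a := by
  let f : Fˣ →* Fˣ := powMonoidHom (3 ^ (m + 1) + 2)
  have hf : Function.Injective f := (injective_iff_map_eq_one f).2 fun c hc =>
    Units.ext (eq_one_of_pow hK c.ne_zero (by simpa [f] using congrArg Units.val hc))
  obtain ⟨c, hc⟩ := (Finite.injective_iff_surjective.1 hf) (Units.mk0 a ha)
  exact ⟨c, by simpa [f] using congrArg Units.val hc⟩

theorem exists_weight_one (a : F) (ha : a ≠ 0) :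
    ∃ c : Fˣ, (c : F) ^ (3 ^ (m + 1) + 1) = a ^ 2 := by
  obtain ⟨j, hj⟩ : ∃ j, 3 ^ (m + 1) + 1 = 2 * j := by
    have : (3 ^ (m + 1) + 1) % 2 = 0 := by simp [Nat.add_mod, Nat.pow_mod]
    exact ⟨(3 ^ (m + 1) + 1) / 2, by omega⟩
  -- the image of `c ↦ c ^ (θ + 1)` is the group of squares
  let f : Fˣ →* Fˣ := powMonoidHom (3 ^ (m + 1) + 1)
  let g : Fˣ →* Fˣ := powMonoidHom 2
  have hker : f.ker = g.ker := by
    ext c
    simp only [MonoidHom.mem_ker, f, g, powMonoidHom_apply]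
    refine ⟨fun h => Units.ext ?_, fun h => by rw [hj, pow_mul, h, one_pow]⟩
    rw [Units.val_pow_eq_pow_val]
    exact sq_eq_one_of_pow hK c.ne_zero (by simpa using congrArg Units.val h)
  have hle : f.range ≤ g.range := by
    rintro _ ⟨c, rfl⟩
    exact ⟨c ^ j, by simp [f, g, hj, ← pow_mul, mul_comm]⟩
  have hcard : Nat.card g.range ≤ Nat.card f.range := by
    rw [← Subgroup.index_ker, ← Subgroup.index_ker, hker]
  have hmem : g (Units.mk0 a ha) ∈ f.range := by
    rw [Subgroup.eq_of_le_of_card_ge hle hcard]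
    exact ⟨_, rfl⟩
  obtain ⟨c, hc⟩ := hmem
  exact ⟨c, by simpa [f, g] using congrArg Units.val hc⟩

end Weights

end Cfsg.Agent.Twisted.Ree
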